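import Mathlib
import Cfsg.Agent.H863.SKer
import Cfsg.Agent.H863.BFin
import Cfsg.Agent.H863.BTI
import Cfsg.Agent.Monster.VecFast
import Cfsg.Agent.BMx.Low
import Cfsg.Agent.H863.SFin
import Cfsg.Agent.Lib.F2MatGroup
import Cfsg.Agent.TwoESix.Lift
import Cfsg.Agent.TwoESix.CoxFast
import Cfsg.Agent.BM.KHAll
import Cfsg.Agent.KFacts.Mult.TwESixTwo
import Cfsg.Agent.TwoESix.Cover
import Cfsg.Agent.H723.Pair.BChar
import Cfsg.Agent.FastGrp
import Cfsg.Agent.Prune
set_option linter.all false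

section
prune_inst 0x7ffdfefbbff8fddfdfff7e7ff6fdcffdf9f83fffe6dff9cb7fe1e9ff0bdf4b21cbe5fbaf8fe310fe9ed6e21c90f87b53ffffeeffe36bdc7ffffd5ff45ffbff8ffdf7bd0971f79c3e0fbc0fff63f07f8e7f3fffffffffffffffffffffffffffefffbfffffffff

-- part: B5591/Geo
section
prune_inst 0x2000440070000200001800102000006008000002004000000060050200090240200100018e6004120010005020000000011000004000000000000800000100000000000080080100020008001000000000000000000000000000000000010000000000000
set_option linter.all false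
open scoped Cfsg.Agent.FastGrp

-- part: B5591/Defs
section
/-!
# S5591 (`3^4371 · B`): cochains, cocycles, permutation modules (definitions)

All cochains are total functions on `G`; the conditions are imposed on a subgroup `K` only.
-/

set_option autoImplicit false

namespace Cfsg.Agent.B5591

section Coc

variable {F M G : Type*} [Field F] [AddCommGroup M] [Module F M] [Group G] (σ : G →* Module.End F M)

/-- No non-zero vector is fixed by `K`. -/
def Fx (K : Subgroup G) : Prop := ∀ m : M, (∀ g ∈ K, σ g m = m) → m = 0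

/-- `1`-cocycles on `K`. -/
def Z1 (K : Subgroup G) (c : G → M) : Prop := ∀ g ∈ K, ∀ h ∈ K, c (g * h) = c g + σ g (c h)

/-- `1`-coboundaries on `K`. -/
def B1 (K : Subgroup G) (c : G → M) : Prop := ∃ m : M, ∀ g ∈ K, c g = m - σ g m

/-- `H¹(K, M) = 0`. -/
def H1 (K : Subgroup G) : Prop := ∀ c : G → M, Z1 σ K c → B1 σ K c

/-- `2`-cocycles on `K`. -/
def Z2 (K : Subgroup G) (γ : G → G → M) : Prop :=
  ∀ g ∈ K, ∀ h ∈ K, ∀ k ∈ K, γ g h + γ (g * h) k = σ g (γ h k) + γ g (h * k)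

/-- `2`-coboundaries on `K`. -/
def B2 (K : Subgroup G) (γ : G → G → M) : Prop :=
  ∃ b : G → M, ∀ g ∈ K, ∀ h ∈ K, γ g h = b g + σ g (b h) - b (g * h)

end Coc

section Ext

open Cfsg.Agent.H863.SExt

variable {F M G : Type*} [Field F] [AddCommGroup M] [Module F M] [Group G] {σ : G →* Module.End F M}
  {E : Type*} [Group E] (X : _root_.Cfsg.Agent.H863.SExt.Ext σ E)

/-- `γ` is the cocycle of the extension `X` for the set-theoretic section `t`. -/
def IsCoc (t : G → E) (γ : G → G → M) : Prop :=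
  (∀ g, X.π (t g) = g) ∧ ∀ g h, t g * t h = X.j (γ g h) * t (g * h)

/-- `S` is a complement over `K`: it meets the kernel trivially and maps onto `K`. -/
def IsLift (S : Subgroup E) (K : Subgroup G) : Prop :=
  (∀ x ∈ S, X.π x = 1 → x = 1) ∧ S.map X.π = K

/-- The extension splits over `K`. -/
def Spl (K : Subgroup G) : Prop := ∃ S : Subgroup E, IsLift X S K

end Ext

section Perm

variable (F : Type*) [Field F] (G D : Type*) [Group G] [MulAction G D]

/-- The module of all functions on a `G`-set: `(g f) d = f (g⁻¹ d)`. -/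
def perm : G →* Module.End F (D → F) where
  toFun g := LinearMap.funLeft F F (fun d => g⁻¹ • d)
  map_one' := by
    ext f d
    simp [LinearMap.funLeft_apply]
  map_mul' g h := by
    apply LinearMap.ext
    intro f
    funext d
    simp only [LinearMap.funLeft_apply, mul_smul, _root_.mul_inv_rev, _root_.Module.End.mul_apply]

theorem perm_apply (g : G) (f : D → F) (d : D) : perm F G D g f d = f (g⁻¹ • d) := rfl

/-- The trivial module. -/
abbrev triv : G →* Module.End F F := 1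

variable {F G}

/-- The commutator pairing of a `2`-cocycle with values in the trivial module. -/
def pairing (a : G → G → F) (x y : G) : F := a x y - a y x

/-- The cube invariant of a `2`-cocycle with values in the trivial module (for `x ^ 3 = 1`). -/
def cube (a : G → G → F) (x : G) : F := a 1 1 + a x x + a (x * x) x

end Perm

end Cfsg.Agent.B5591
end

-- part: B5591/CocA
section
/-!
# S5591: cocycles and extensions (part a of the cocycle library)

Linear algebra of `Z1, B1, Z2, B2`; the cocycle of an extension; splitting over a subgroup is `B2`; the twisted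
product `Tw`; two extensions with cohomologous cocycles (up to sign) are isomorphic groups.
-/

set_option autoImplicit false

namespace Cfsg.Agent.B5591

open Cfsg.Agent.H863.SExt

section Alg

variable {F M G : Type*} [Field F] [AddCommGroup M] [Module F M] [Group G] {σ : G →* Module.End F M}
  {K A : Subgroup G}

theorem act_mul (g h : G) (m : M) : σ (g * h) m = σ g (σ h m) := by
  rw [map_mul]; rfl

theorem act_one (m : M) : σ 1 m = m := by
  rw [map_one]; rfl

theorem act_inv_act (g : G) (m : M) : σ g⁻¹ (σ g m) = m := by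
  rw [← act_mul, inv_mul_cancel, act_one]

theorem act_act_inv (g : G) (m : M) : σ g (σ g⁻¹ m) = m := by
  rw [← act_mul, mul_inv_cancel, act_one]

theorem act_inj (g : G) {m n : M} (h : σ g m = σ g n) : m = n := by
  rw [← act_inv_act (σ := σ) g m, h, act_inv_act]

theorem Fx.mono (h : Fx σ A) (hA : A ≤ K) : Fx σ K := fun m hm => h m fun g hg => hm g (hA hg)

/-! ### `1`-cocycles -/

theorem Z1.mono {c : G → M} (h : Z1 σ K c) (hA : A ≤ K) : Z1 σ A c :=
  fun g hg k hk => h g (hA hg) k (hA hk)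

theorem B1.mono {c : G → M} (h : B1 σ K c) (hA : A ≤ K) : B1 σ A c := by
  obtain ⟨m, hm⟩ := h
  exact ⟨m, fun g hg => hm g (hA hg)⟩

theorem Z1.congr {c c' : G → M} (h : Z1 σ K c) (e : ∀ g ∈ K, c' g = c g) : Z1 σ K c' := by
  intro g hg k hk
  rw [e _ (K.mul_mem hg hk), e g hg, e k hk, h g hg k hk]

theorem B1.congr {c c' : G → M} (h : B1 σ K c) (e : ∀ g ∈ K, c' g = c g) : B1 σ K c' := by
  obtain ⟨m, hm⟩ := h
  exact ⟨m, fun g hg => by rw [e g hg, hm g hg]⟩

theorem Z1.zero : Z1 σ K (0 : G → M) := by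
  intro g _ k _
  simp

theorem Z1.add {c c' : G → M} (h : Z1 σ K c) (h' : Z1 σ K c') : Z1 σ K (c + c') := by
  intro g hg k hk
  simp only [Pi.add_apply, h g hg k hk, h' g hg k hk, map_add]
  abel

theorem Z1.smul {c : G → M} (h : Z1 σ K c) (a : F) : Z1 σ K (a • c) := by
  intro g hg k hk
  simp only [Pi.smul_apply, h g hg k hk, map_smul, smul_add]

theorem Z1.neg {c : G → M} (h : Z1 σ K c) : Z1 σ K (-c) := by
  intro g hg k hk
  simp only [Pi.neg_apply, h g hg k hk, map_neg]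
  abel

theorem Z1.sub {c c' : G → M} (h : Z1 σ K c) (h' : Z1 σ K c') : Z1 σ K (c - c') := by
  rw [sub_eq_add_neg]
  exact h.add h'.neg

theorem z1_cob (m : M) : Z1 σ K (fun g => m - σ g m) := by
  intro g _ k _
  simp only [act_mul, map_sub]
  abel

theorem B1.zero : B1 σ K (0 : G → M) := ⟨0, fun g _ => by simp⟩

theorem B1.add {c c' : G → M} (h : B1 σ K c) (h' : B1 σ K c') : B1 σ K (c + c') := by
  obtain ⟨m, hm⟩ := h
  obtain ⟨m', hm'⟩ := h'
  refine ⟨m + m', fun g hg => ?_⟩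
  simp only [Pi.add_apply, hm g hg, hm' g hg, map_add]
  abel

theorem B1.smul {c : G → M} (h : B1 σ K c) (a : F) : B1 σ K (a • c) := by
  obtain ⟨m, hm⟩ := h
  refine ⟨a • m, fun g hg => ?_⟩
  simp only [Pi.smul_apply, hm g hg, map_smul, smul_sub]

theorem B1.neg {c : G → M} (h : B1 σ K c) : B1 σ K (-c) := by
  obtain ⟨m, hm⟩ := h
  refine ⟨-m, fun g hg => ?_⟩
  simp only [Pi.neg_apply, hm g hg, map_neg]
  abel

theorem B1.sub {c c' : G → M} (h : B1 σ K c) (h' : B1 σ K c') : B1 σ K (c - c') := by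
  rw [sub_eq_add_neg]
  exact h.add h'.neg

theorem Z1.one {c : G → M} (h : Z1 σ K c) : c 1 = 0 := by
  have h1 := h 1 K.one_mem 1 K.one_mem
  rw [mul_one, act_one] at h1
  exact left_eq_add.1 h1

theorem Z1.inv {c : G → M} (h : Z1 σ K c) {g : G} (hg : g ∈ K) : c g⁻¹ = -σ g⁻¹ (c g) := by
  have h1 := h g⁻¹ (K.inv_mem hg) g hg
  rw [inv_mul_cancel, h.one] at h1
  exact eq_neg_of_add_eq_zero_left h1.symm

/-- The elements on which a `1`-cocycle vanishes. -/
def Z1.ker {c : G → M} (h : Z1 σ K c) : Subgroup G where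
  carrier := {g | g ∈ K ∧ c g = 0}
  one_mem' := ⟨K.one_mem, h.one⟩
  mul_mem' := by
    rintro a b ⟨ha, ha'⟩ ⟨hb, hb'⟩
    exact ⟨K.mul_mem ha hb, by rw [h a ha b hb, ha', hb', map_zero, add_zero]⟩
  inv_mem' := by
    rintro a ⟨ha, ha'⟩
    exact ⟨K.inv_mem ha, by rw [h.inv ha, ha', map_zero, neg_zero]⟩

/-! ### `2`-cocycles -/

theorem Z2.mono {γ : G → G → M} (h : Z2 σ K γ) (hA : A ≤ K) : Z2 σ A γ :=
  fun a ha b hb c hc => h a (hA ha) b (hA hb) c (hA hc)

theorem B2.mono {γ : G → G → M} (h : B2 σ K γ) (hA : A ≤ K) : B2 σ A γ := by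
  obtain ⟨b, hb⟩ := h
  exact ⟨b, fun g hg k hk => hb g (hA hg) k (hA hk)⟩

theorem Z2.congr {γ γ' : G → G → M} (h : Z2 σ K γ) (e : ∀ g ∈ K, ∀ k ∈ K, γ' g k = γ g k) : Z2 σ K γ' := by
  intro a ha b hb c hc
  rw [e a ha b hb, e _ (K.mul_mem ha hb) c hc, e b hb c hc, e a ha _ (K.mul_mem hb hc), h a ha b hb c hc]

theorem B2.congr {γ γ' : G → G → M} (h : B2 σ K γ) (e : ∀ g ∈ K, ∀ k ∈ K, γ' g k = γ g k) : B2 σ K γ' := by
  obtain ⟨b, hb⟩ := h
  exact ⟨b, fun g hg k hk => by rw [e g hg k hk, hb g hg k hk]⟩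

theorem Z2.zero : Z2 σ K (0 : G → G → M) := by
  intro a _ b _ c _
  simp

theorem Z2.add {γ γ' : G → G → M} (h : Z2 σ K γ) (h' : Z2 σ K γ') : Z2 σ K (γ + γ') := by
  intro a ha b hb c hc
  have h1 := h a ha b hb c hc
  have h2 := h' a ha b hb c hc
  simp only [Pi.add_apply, map_add]
  calc γ a b + γ' a b + (γ (a * b) c + γ' (a * b) c)
      = (γ a b + γ (a * b) c) + (γ' a b + γ' (a * b) c) := by abel
    _ = _ := by rw [h1, h2]; abel

theorem Z2.smul {γ : G → G → M} (h : Z2 σ K γ) (x : F) : Z2 σ K (x • γ) := by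
  intro a ha b hb c hc
  simp only [Pi.smul_apply, map_smul, ← smul_add, h a ha b hb c hc]

theorem Z2.neg {γ : G → G → M} (h : Z2 σ K γ) : Z2 σ K (-γ) := by
  have h1 := h.smul (-1 : F)
  rwa [neg_one_smul] at h1

theorem Z2.sub {γ γ' : G → G → M} (h : Z2 σ K γ) (h' : Z2 σ K γ') : Z2 σ K (γ - γ') := by
  rw [sub_eq_add_neg]
  exact h.add h'.neg

theorem z2_cob (b : G → M) : Z2 σ K (fun g h => b g + σ g (b h) - b (g * h)) := by
  intro g _ h _ k _
  simp only [act_mul, map_sub, map_add, mul_assoc]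
  abel

theorem B2.z2 {γ : G → G → M} (h : B2 σ K γ) : Z2 σ K γ := by
  obtain ⟨b, hb⟩ := h
  exact (z2_cob b).congr hb

theorem B2.zero : B2 σ K (0 : G → G → M) := ⟨0, fun g _ k _ => by simp⟩

theorem B2.add {γ γ' : G → G → M} (h : B2 σ K γ) (h' : B2 σ K γ') : B2 σ K (γ + γ') := by
  obtain ⟨b, hb⟩ := h
  obtain ⟨b', hb'⟩ := h'
  refine ⟨b + b', fun g hg k hk => ?_⟩
  simp only [Pi.add_apply, hb g hg k hk, hb' g hg k hk, map_add]
  abel

theorem B2.smul {γ : G → G → M} (h : B2 σ K γ) (x : F) : B2 σ K (x • γ) := by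
  obtain ⟨b, hb⟩ := h
  refine ⟨x • b, fun g hg k hk => ?_⟩
  simp only [Pi.smul_apply, hb g hg k hk, map_smul, smul_sub, smul_add]

theorem B2.neg {γ : G → G → M} (h : B2 σ K γ) : B2 σ K (-γ) := by
  have h1 := h.smul (-1 : F)
  rwa [neg_one_smul] at h1

theorem B2.sub {γ γ' : G → G → M} (h : B2 σ K γ) (h' : B2 σ K γ') : B2 σ K (γ - γ') := by
  rw [sub_eq_add_neg]
  exact h.add h'.neg

/-- `γ` cohomologous to `γ'` and `γ'` a coboundary. -/
theorem B2.of_sub {γ γ' : G → G → M} (h : B2 σ K (γ - γ')) (h' : B2 σ K γ') : B2 σ K γ := by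
  have h1 := h.add h'
  rwa [sub_add_cancel] at h1

theorem B2.symm {γ γ' : G → G → M} (h : B2 σ K (γ - γ')) : B2 σ K (γ' - γ) := by
  have h1 := h.neg
  rwa [neg_sub] at h1

theorem B2.trans {γ γ' γ'' : G → G → M} (h : B2 σ K (γ - γ')) (h' : B2 σ K (γ' - γ'')) : B2 σ K (γ - γ'') := by
  have h1 := h.add h'
  rwa [sub_add_sub_cancel] at h1

theorem Z2.one_left {γ : G → G → M} (h : Z2 σ K γ) {k : G} (hk : k ∈ K) : γ 1 k = γ 1 1 := by
  have h1 := h 1 K.one_mem 1 K.one_mem k hk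
  rw [mul_one, one_mul, act_one] at h1
  exact (add_right_cancel h1).symm

theorem Z2.one_right {γ : G → G → M} (h : Z2 σ K γ) {g : G} (hg : g ∈ K) : γ g 1 = σ g (γ 1 1) := by
  have h1 := h g hg 1 K.one_mem 1 K.one_mem
  rw [mul_one, mul_one] at h1
  exact add_right_cancel h1

/-- Images under an equivariant linear map. -/
theorem Z2.map {M' : Type*} [AddCommGroup M'] [Module F M'] {σ' : G →* Module.End F M'} (f : M →ₗ[F] M')
    (hf : ∀ g ∈ K, ∀ m, f (σ g m) = σ' g (f m)) {γ : G → G → M} (h : Z2 σ K γ) :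
    Z2 σ' K (fun g k => f (γ g k)) := by
  intro a ha b hb c hc
  simp only [← hf a ha, ← map_add, h a ha b hb c hc]

theorem B2.map {M' : Type*} [AddCommGroup M'] [Module F M'] {σ' : G →* Module.End F M'} (f : M →ₗ[F] M')
    (hf : ∀ g ∈ K, ∀ m, f (σ g m) = σ' g (f m)) {γ : G → G → M} (h : B2 σ K γ) :
    B2 σ' K (fun g k => f (γ g k)) := by
  obtain ⟨b, hb⟩ := h
  refine ⟨fun g => f (b g), fun g hg k hk => ?_⟩
  simp only [hb g hg k hk, map_sub, map_add, hf g hg]

theorem Z1.map {M' : Type*} [AddCommGroup M'] [Module F M'] {σ' : G →* Module.End F M'} (f : M →ₗ[F] M')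
    (hf : ∀ g ∈ K, ∀ m, f (σ g m) = σ' g (f m)) {c : G → M} (h : Z1 σ K c) :
    Z1 σ' K (fun g => f (c g)) := by
  intro a ha b hb
  simp only [← hf a ha, ← map_add, h a ha b hb]

theorem B1.map {M' : Type*} [AddCommGroup M'] [Module F M'] {σ' : G →* Module.End F M'} (f : M →ₗ[F] M')
    (hf : ∀ g ∈ K, ∀ m, f (σ g m) = σ' g (f m)) {c : G → M} (h : B1 σ K c) :
    B1 σ' K (fun g => f (c g)) := by
  obtain ⟨m, hm⟩ := h
  refine ⟨f m, fun g hg => ?_⟩
  simp only [hm g hg, map_sub, hf g hg]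

/-- Pull-back along a homomorphism of groups. -/
theorem Z2.comap {H : Type*} [Group H] (φ : H →* G) {L : Subgroup H} (hL : ∀ x ∈ L, φ x ∈ K) {γ : G → G → M}
    (h : Z2 σ K γ) : Z2 (σ.comp φ) L (fun x y => γ (φ x) (φ y)) := by
  intro a ha b hb c hc
  simp only [map_mul, MonoidHom.comp_apply]
  exact h _ (hL a ha) _ (hL b hb) _ (hL c hc)

theorem B2.comap {H : Type*} [Group H] (φ : H →* G) {L : Subgroup H} (hL : ∀ x ∈ L, φ x ∈ K) {γ : G → G → M}
    (h : B2 σ K γ) : B2 (σ.comp φ) L (fun x y => γ (φ x) (φ y)) := by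
  obtain ⟨b, hb⟩ := h
  refine ⟨fun x => b (φ x), fun x hx y hy => ?_⟩
  simp only [map_mul, MonoidHom.comp_apply]
  exact hb _ (hL x hx) _ (hL y hy)

end Alg

/-! ### The cocycle of an extension -/

section Ext

variable {F M G : Type*} [Field F] [AddCommGroup M] [Module F M] [Group G] {σ : G →* Module.End F M}
  {E : Type*} [Group E] {X : _root_.Cfsg.Agent.H863.SExt.Ext σ E} {K : Subgroup G}

variable (X) in
theorem exists_coc : ∃ (t : G → E) (γ : G → G → M), IsCoc X t γ := by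
  choose t ht using X.surj
  have hf : ∀ g h : G, ∃ v, t g * t h = X.j v * t (g * h) := fun g h =>
    X.of_eq (by rw [map_mul, ht, ht, ht])
  choose f hf using hf
  exact ⟨t, f, ht, hf⟩

theorem IsCoc.z2 {t : G → E} {γ : G → G → M} (h : IsCoc X t γ) : Z2 σ ⊤ γ := by
  obtain ⟨ht, hf⟩ := h
  intro g _ h _ k _
  apply X.j_inj
  have h1 : t g * t h * t k = X.j (γ g h + γ (g * h) k) * t (g * h * k) := by
    rw [hf g h, mul_assoc, hf (g * h) k, ← mul_assoc, ← X.j_add]
  have h2 : t g * t h * t k = X.j (σ g (γ h k) + γ g (h * k)) * t (g * h * k) := by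
    rw [mul_assoc, hf h k, ← mul_assoc, X.conj, ht, mul_assoc, hf g (h * k), ← mul_assoc, ← X.j_add,
      mul_assoc g h k]
  exact mul_right_cancel (h1.symm.trans h2)

theorem IsCoc.mul {t : G → E} {γ : G → G → M} (h : IsCoc X t γ) (m n : M) (g k : G) :
    X.j m * t g * (X.j n * t k) = X.j (m + σ g n + γ g k) * t (g * k) := by
  rw [mul_assoc, ← mul_assoc (t g), X.conj, h.1, X.j_add, X.j_add, mul_assoc (X.j (σ g n)), h.2 g k]
  simp only [mul_assoc]

theorem IsCoc.exists_eq {t : G → E} {γ : G → G → M} (h : IsCoc X t γ) (x : E) :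
    ∃ m, x = X.j m * t (X.π x) := X.of_eq (h.1 _).symm

theorem IsCoc.ext {t : G → E} {γ : G → G → M} (h : IsCoc X t γ) {m n : M} {g k : G}
    (e : X.j m * t g = X.j n * t k) : m = n ∧ g = k := by
  have h1 := congrArg X.π e
  rw [map_mul, map_mul, X.π_j, X.π_j, one_mul, one_mul, h.1, h.1] at h1
  subst h1
  exact ⟨X.j_inj (mul_right_cancel e), rfl⟩

theorem IsCoc.one {t : G → E} {γ : G → G → M} (h : IsCoc X t γ) : t 1 = X.j (γ 1 1) := by
  have h1 := h.2 1 1
  rw [mul_one] at h1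
  exact mul_right_cancel h1

/-- Two cocycles of the same extension are cohomologous. -/
theorem IsCoc.b2_sub {t t' : G → E} {γ γ' : G → G → M} (h : IsCoc X t γ) (h' : IsCoc X t' γ') :
    B2 σ ⊤ (γ - γ') := by
  have hb : ∀ g, ∃ v, t g = X.j v * t' g := fun g => X.of_eq (by rw [h.1, h'.1])
  choose b hb using hb
  refine ⟨b, fun g _ k _ => ?_⟩
  have h1 := h.2 g k
  rw [hb g, hb k, hb (g * k), h'.mul, ← mul_assoc, ← X.j_add] at h1
  have h2 := (h'.ext h1).1
  simp only [Pi.sub_apply]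
  rw [eq_sub_iff_add_eq, sub_add_eq_add_sub, ← h2]
  abel

theorem IsLift.mem {S : Subgroup E} (h : IsLift X S K) {x : E} (hx : x ∈ S) : X.π x ∈ K := by
  rw [← h.2]
  exact ⟨x, hx, rfl⟩

theorem IsLift.exists {S : Subgroup E} (h : IsLift X S K) {g : G} (hg : g ∈ K) : ∃ x ∈ S, X.π x = g := by
  rw [← h.2] at hg
  exact hg

theorem IsLift.inj {S : Subgroup E} (h : IsLift X S K) {x y : E} (hx : x ∈ S) (hy : y ∈ S)
    (e : X.π x = X.π y) : x = y := by
  have h1 := h.1 (x * y⁻¹) (S.mul_mem hx (S.inv_mem hy)) (by rw [map_mul, map_inv, e, mul_inv_cancel])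
  exact mul_inv_eq_one.1 h1

/-- A lift from a homomorphic section. -/
theorem isLift_range {s : K →* E} (hs : X.IsSec s) : IsLift X s.range K := by
  constructor
  · rintro _ ⟨k, rfl⟩ hk
    rw [hs k] at hk
    have : k = 1 := Subtype.ext hk
    rw [this, map_one]
  · ext g
    constructor
    · rintro ⟨_, ⟨k, rfl⟩, rfl⟩
      rw [hs k]
      exact k.2
    · intro hg
      exact ⟨s ⟨g, hg⟩, ⟨_, rfl⟩, hs _⟩

/-- A homomorphic section from a lift. -/
theorem IsLift.exists_sec {S : Subgroup E} (h : IsLift X S K) :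
    ∃ s : K →* E, X.IsSec s ∧ s.range = S := by
  have h1 : ∀ k : K, ∃ x ∈ S, X.π x = k := fun k => h.exists k.2
  choose f hf hf' using h1
  refine ⟨MonoidHom.mk' f fun a b => ?_, hf', ?_⟩
  · apply h.inj (hf _) (S.mul_mem (hf a) (hf b))
    rw [map_mul, hf', hf', hf']
    rfl
  · ext x
    constructor
    · rintro ⟨k, rfl⟩
      exact hf k
    · intro hx
      exact ⟨⟨X.π x, h.mem hx⟩, h.inj (hf _) hx (hf' _)⟩

theorem spl_iff_sec : Spl X K ↔ ∃ s : K →* E, X.IsSec s := by
  constructor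
  · rintro ⟨S, hS⟩
    obtain ⟨s, hs, -⟩ := hS.exists_sec
    exact ⟨s, hs⟩
  · rintro ⟨s, hs⟩
    exact ⟨_, isLift_range hs⟩

/-- **Splitting over `K` is the vanishing of the class on `K`.** -/
theorem IsCoc.spl_iff {t : G → E} {γ : G → G → M} (h : IsCoc X t γ) : Spl X K ↔ B2 σ K γ := by
  classical
  constructor
  · rintro ⟨S, hS⟩
    have h1 : ∀ g, ∃ v : M, g ∈ K → X.j (-v) * t g ∈ S := by
      intro g
      by_cases hg : g ∈ K
      · obtain ⟨x, hx, e⟩ := hS.exists hg
        obtain ⟨m, hm⟩ := h.exists_eq x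
        refine ⟨-m, fun _ => ?_⟩
        rw [neg_neg, ← e, ← hm]
        exact hx
      · exact ⟨0, fun h' => absurd h' hg⟩
    choose b hb using h1
    refine ⟨b, fun g hg k hk => ?_⟩
    have h2 := S.mul_mem (hb g hg) (hb k hk)
    rw [h.mul] at h2
    have h3 := hS.inj h2 (hb _ (K.mul_mem hg hk)) (by
      rw [map_mul, map_mul, X.π_j, X.π_j])
    have h4 := (h.ext h3).1
    rw [map_neg] at h4
    rw [eq_sub_iff_add_eq, ← neg_neg (b (g * k)), ← h4]
    abel
  · rintro ⟨b, hb⟩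
    rw [spl_iff_sec]
    refine ⟨MonoidHom.mk' (fun g : K => X.j (-b g) * t g) fun g k => ?_, fun g => ?_⟩
    · show X.j (-b (g * k)) * t (g * k) = X.j (-b g) * t g * (X.j (-b k) * t k)
      rw [h.mul, hb g g.2 k k.2, map_neg]
      congr 2
      abel
    · show X.π (X.j (-b g) * t g) = g
      rw [map_mul, X.π_j, one_mul, h.1]

theorem Spl.mono {A : Subgroup G} (h : Spl X K) (hA : A ≤ K) : Spl X A := by
  obtain ⟨t, γ, hc⟩ := exists_coc X
  rw [hc.spl_iff] at h ⊢
  exact h.mono hA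

/-- The extension with `j` replaced by `-j`. -/
def negExt (X : _root_.Cfsg.Agent.H863.SExt.Ext σ E) : _root_.Cfsg.Agent.H863.SExt.Ext σ E where
  π := X.π
  surj := X.surj
  j v := X.j (-v)
  j_add a b := by rw [neg_add, X.j_add]
  j_inj a b h := neg_injective (X.j_inj h)
  ker x hx := by
    obtain ⟨v, hv⟩ := X.ker x hx
    exact ⟨-v, by rw [neg_neg]; exact hv⟩
  π_j v := X.π_j _
  conj x v := by rw [X.conj, map_neg]

theorem IsCoc.neg {t : G → E} {γ : G → G → M} (h : IsCoc X t γ) : IsCoc (negExt X) t (-γ) := by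
  refine ⟨h.1, fun g k => ?_⟩
  show t g * t k = X.j (-(-γ g k)) * t (g * k)
  rw [neg_neg]
  exact h.2 g k

/-- **Cohomologous cocycles give isomorphic extensions.** -/
theorem equiv_of_B2 {E' : Type*} [Group E'] {X' : _root_.Cfsg.Agent.H863.SExt.Ext σ E'} {t : G → E} {t' : G → E'} {γ γ' : G → G → M}
    (h : IsCoc X t γ) (h' : IsCoc X' t' γ') (hb : B2 σ ⊤ (γ - γ')) :
    ∃ e : E ≃* E', (∀ x, X'.π (e x) = X.π x) ∧ ∀ v, e (X.j v) = X'.j v := by
  obtain ⟨b, hb⟩ := hb
  have hb' : ∀ g k, γ g k + b (g * k) = b g + σ g (b k) + γ' g k := by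
    intro g k
    have h1 := hb g trivial k trivial
    simp only [Pi.sub_apply] at h1
    rw [sub_eq_iff_eq_add] at h1
    rw [h1]
    abel
  choose μ hμ using h.exists_eq
  have hμ' : ∀ m g, μ (X.j m * t g) = m := by
    intro m g
    exact (h.ext (hμ (X.j m * t g))).1.symm
  have hπ : ∀ m g, X.π (X.j m * t g) = g := fun m g => by rw [map_mul, X.π_j, one_mul, h.1]
  let f : E → E' := fun x => X'.j (μ x + b (X.π x)) * t' (X.π x)
  have hf : ∀ m g, f (X.j m * t g) = X'.j (m + b g) * t' g := by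
    intro m g
    show X'.j (μ (X.j m * t g) + b (X.π (X.j m * t g))) * t' (X.π (X.j m * t g)) = _
    rw [hμ', hπ]
  have hmul : ∀ x y, f (x * y) = f x * f y := by
    intro x y
    rw [hμ x, hμ y, h.mul, hf, hf, hf, h'.mul, map_add]
    congr 2
    rw [add_assoc, hb']
    abel
  let φ : E →* E' := MonoidHom.mk' f hmul
  have hφπ : ∀ x, X'.π (φ x) = X.π x := by
    intro x
    show X'.π (X'.j _ * t' _) = _
    rw [map_mul, X'.π_j, one_mul, h'.1]
  have hbij : Function.Bijective φ := by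
    constructor
    · intro x y e
      have e' : f x = f y := e
      rw [hμ x, hμ y, hf, hf] at e'
      obtain ⟨e1, e2⟩ := h'.ext e'
      rw [e2] at e1
      rw [hμ x, hμ y, add_right_cancel e1, e2]
    · intro y
      obtain ⟨m, hm⟩ := h'.exists_eq y
      refine ⟨X.j (m - b (X'.π y)) * t (X'.π y), ?_⟩
      show f _ = y
      rw [hf, sub_add_cancel, ← hm]
  refine ⟨MulEquiv.ofBijective φ hbij, hφπ, fun v => ?_⟩
  show f (X.j v) = X'.j v
  have h1 : X.j v = X.j (v - γ 1 1) * t 1 := by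
    rw [h.one, ← X.j_add, sub_add_cancel]
  have h2 := hb' 1 1
  rw [mul_one, act_one] at h2
  rw [h1, hf, h'.one, ← X'.j_add]
  congr 1
  have h3 : γ 1 1 = b 1 + γ' 1 1 := by
    apply add_right_cancel (b := b 1)
    rw [h2]
    abel
  rw [h3]
  abel

theorem iso_of_B2 {E' : Type*} [Group E'] {X' : _root_.Cfsg.Agent.H863.SExt.Ext σ E'} {t : G → E} {t' : G → E'} {γ γ' : G → G → M}
    (h : IsCoc X t γ) (h' : IsCoc X' t' γ') (hb : B2 σ ⊤ (γ - γ')) : Nonempty (E ≃* E') := by
  obtain ⟨e, -⟩ := equiv_of_B2 h h' hb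
  exact ⟨e⟩

theorem iso_of_B2_add {E' : Type*} [Group E'] {X' : _root_.Cfsg.Agent.H863.SExt.Ext σ E'} {t : G → E} {t' : G → E'} {γ γ' : G → G → M}
    (h : IsCoc X t γ) (h' : IsCoc X' t' γ') (hb : B2 σ ⊤ (γ + γ')) : Nonempty (E ≃* E') :=
  iso_of_B2 h h'.neg (by rwa [sub_neg_eq_add])

end Ext

/-! ### The twisted product -/

section Tw

variable {F M G : Type*} [Field F] [AddCommGroup M] [Module F M] [Group G]

/-- The twisted product of `M` and `G`. -/
@[ext] structure Tw (σ : G →* Module.End F M) (γ : G → G → M) (hγ : Z2 σ ⊤ γ) where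
  /-- the component in `M` -/
  m : M
  /-- the component in `G` -/
  g : G

variable {σ : G →* Module.End F M} {γ : G → G → M} {hγ : Z2 σ ⊤ γ}

instance Tw.instMulTw : Mul (Tw σ γ hγ) := ⟨fun x y => ⟨x.m + σ x.g y.m + γ x.g y.g, x.g * y.g⟩⟩

instance Tw.instOneTw : One (Tw σ γ hγ) := ⟨⟨-γ 1 1, 1⟩⟩

instance Tw.instInvTw : Inv (Tw σ γ hγ) := ⟨fun x => ⟨-γ 1 1 - σ x.g⁻¹ x.m - γ x.g⁻¹ x.g, x.g⁻¹⟩⟩

theorem Tw.mul_m (x y : Tw σ γ hγ) : (x * y).m = x.m + σ x.g y.m + γ x.g y.g := rfl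

theorem Tw.mul_g (x y : Tw σ γ hγ) : (x * y).g = x.g * y.g := rfl

theorem Tw.one_m : (1 : Tw σ γ hγ).m = -γ 1 1 := rfl

theorem Tw.one_g : (1 : Tw σ γ hγ).g = 1 := rfl

theorem Tw.inv_m (x : Tw σ γ hγ) : (x⁻¹).m = -γ 1 1 - σ x.g⁻¹ x.m - γ x.g⁻¹ x.g := rfl

theorem Tw.inv_g (x : Tw σ γ hγ) : (x⁻¹).g = x.g⁻¹ := rfl

instance Tw.instGroupTw : Group (Tw σ γ hγ) :=
  Group.ofLeftAxioms
    (fun x y z => by
      apply Tw.ext
      · simp only [Tw.mul_m, Tw.mul_g, map_add, act_mul]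
        have h1 := hγ x.g trivial y.g trivial z.g trivial
        calc x.m + σ x.g y.m + γ x.g y.g + σ x.g (σ y.g z.m) + γ (x.g * y.g) z.g
            = x.m + σ x.g y.m + σ x.g (σ y.g z.m) + (γ x.g y.g + γ (x.g * y.g) z.g) := by abel
          _ = _ := by rw [h1]; abel
      · exact mul_assoc _ _ _)
    (fun x => by
      apply Tw.ext
      · rw [Tw.mul_m, Tw.one_m, Tw.one_g, act_one, hγ.one_left (Subgroup.mem_top x.g)]
        abel
      · exact one_mul _)
    (fun x => by
      apply Tw.ext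
      · rw [Tw.mul_m, Tw.inv_m, Tw.inv_g, Tw.one_m]
        abel
      · exact inv_mul_cancel _)

variable (hγ) in
/-- The twisted product as an extension. -/
def twExt : _root_.Cfsg.Agent.H863.SExt.Ext σ (Tw σ γ hγ) where
  π := MonoidHom.mk' Tw.g Tw.mul_g
  surj g := ⟨⟨0, g⟩, rfl⟩
  j v := ⟨v - γ 1 1, 1⟩
  j_add a b := by
    apply Tw.ext
    · show a + b - γ 1 1 = a - γ 1 1 + σ 1 (b - γ 1 1) + γ 1 1
      rw [act_one]
      abel
    · exact (mul_one _).symm
  j_inj a b h := by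
    have h1 : a - γ 1 1 = b - γ 1 1 := congrArg Tw.m h
    exact sub_left_injective h1
  ker x hx := by
    refine ⟨x.m + γ 1 1, ?_⟩
    apply Tw.ext
    · exact (add_sub_cancel_right _ _).symm
    · exact hx
  π_j v := rfl
  conj x v := by
    apply Tw.ext
    · show x.m + σ x.g (v - γ 1 1) + γ x.g 1 = σ x.g v - γ 1 1 + σ 1 x.m + γ 1 x.g
      rw [act_one, map_sub, hγ.one_right (Subgroup.mem_top x.g), hγ.one_left (Subgroup.mem_top x.g)]
      abel
    · show x.g * 1 = 1 * x.g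
      rw [mul_one, one_mul]

variable (hγ) in
theorem isCoc_tw : IsCoc (twExt hγ) (fun g => ⟨0, g⟩) γ := by
  refine ⟨fun g => rfl, fun g k => ?_⟩
  apply Tw.ext
  · show 0 + σ g 0 + γ g k = γ g k - γ 1 1 + σ 1 0 + γ 1 (g * k)
    rw [map_zero, map_zero, hγ.one_left (Subgroup.mem_top (g * k))]
    abel
  · exact (one_mul _).symm

end Tw

end Cfsg.Agent.B5591
end

-- part: B5591/CocB
section
/-!
# S5591: the theorem of Gaschütz for cocycles (part b of the cocycle library)
-/

set_option autoImplicit false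

namespace Cfsg.Agent.B5591

open Cfsg.Agent.H863.SExt

variable {F M G : Type*} [Field F] [AddCommGroup M] [Module F M] [Group G] {σ : G →* Module.End F M}
  {K A : Subgroup G}

/-- Averaging over the cosets of `A` in `K`. -/
theorem exists_avg (F M : Type*) [Field F] [AddCommGroup M] [Module F M] (hn : (A.relIndex K : F) ≠ 0) :
    ∃ av : (G → M) →ₗ[F] M,
      (∀ m : M, av (fun _ => m) = m) ∧
      (∀ f f' : G → M, (∀ h ∈ K, f h = f' h) → av f = av f') ∧
      (∀ (φ : M →ₗ[F] M) (f : G → M), av (fun h => φ (f h)) = φ (av f)) ∧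
      ∀ f : G → M, (∀ h ∈ K, ∀ a ∈ A, a ∈ K → f (h * a) = f h) → ∀ g ∈ K, av (fun h => f (g * h)) = av f := by
  classical
  have hn0 : A.relIndex K ≠ 0 := fun h => hn (by rw [h, Nat.cast_zero])
  have hfin : Finite (K ⧸ A.subgroupOf K) := Nat.finite_of_card_ne_zero hn0
  have := Fintype.ofFinite (K ⧸ A.subgroupOf K)
  have hcard : (Fintype.card (K ⧸ A.subgroupOf K) : F) = (A.relIndex K : F) := by
    rw [← Nat.card_eq_fintype_card]; rfl
  let r : K ⧸ A.subgroupOf K → G := fun x => (x.out : K)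
  refine ⟨{ toFun := fun f => (A.relIndex K : F)⁻¹ • ∑ x, f (r x)
            map_add' := fun f f' => by simp only [Pi.add_apply, Finset.sum_add_distrib, smul_add]
            map_smul' := fun c f => by
              simp only [Pi.smul_apply, RingHom.id_apply, ← Finset.smul_sum]
              rw [smul_comm] }, ?_, ?_, ?_, ?_⟩
  · intro m
    show (A.relIndex K : F)⁻¹ • ∑ _x : K ⧸ A.subgroupOf K, m = m
    rw [Finset.sum_const, Finset.card_univ, ← Nat.cast_smul_eq_nsmul F, hcard, smul_smul, inv_mul_cancel₀ hn,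
      one_smul]
  · intro f f' h
    show (A.relIndex K : F)⁻¹ • ∑ x, f (r x) = (A.relIndex K : F)⁻¹ • ∑ x, f' (r x)
    congr 1
    exact Finset.sum_congr rfl fun x _ => h _ (x.out : K).2
  · intro φ f
    show (A.relIndex K : F)⁻¹ • ∑ x, φ (f (r x)) = φ ((A.relIndex K : F)⁻¹ • ∑ x, f (r x))
    rw [map_smul, map_sum]
  · intro f hf g hg
    show (A.relIndex K : F)⁻¹ • ∑ x, f (g * r x) = (A.relIndex K : F)⁻¹ • ∑ x, f (r x)
    congr 1
    refine Fintype.sum_equiv (MulAction.toPerm (⟨g, hg⟩ : K)) _ _ fun x => ?_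
    show f (g * r x) = f (r ((⟨g, hg⟩ : K) • x))
    have h1 : (⟨g, hg⟩ : K) • x = ((⟨g, hg⟩ * x.out : K) : K ⧸ A.subgroupOf K) :=
      (MulAction.Quotient.coe_smul_out (A.subgroupOf K) (⟨g, hg⟩ : K) x).symm
    obtain ⟨a, ha⟩ := QuotientGroup.mk_out_eq_mul (A.subgroupOf K) (⟨g, hg⟩ * x.out : K)
    have h2 : r ((⟨g, hg⟩ : K) • x) = g * r x * ((a : K) : G) := by
      show (((((⟨g, hg⟩ : K) • x).out : K)) : G) = _
      rw [h1, ha]
      rfl
    rw [h2]
    exact (hf _ (K.mul_mem hg (x.out : K).2) _ a.2 (a : K).2).symm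

/-- Representatives of the cosets of `A` in `K`. -/
theorem exists_rep (hA : A ≤ K) : ∃ r : G → G, (∀ h ∈ K, r h ∈ K) ∧ (∀ h, (r h)⁻¹ * h ∈ A) ∧
    ∀ h, ∀ a ∈ A, r (h * a) = r h := by
  refine ⟨fun h => ((h : G ⧸ A)).out, fun h hh => ?_, fun h => ?_, fun h a ha => ?_⟩
  · obtain ⟨a, ha⟩ := QuotientGroup.mk_out_eq_mul A h
    show ((h : G ⧸ A)).out ∈ K
    rw [ha]
    exact K.mul_mem hh (hA a.2)
  · obtain ⟨a, ha⟩ := QuotientGroup.mk_out_eq_mul A h
    show (((h : G ⧸ A)).out)⁻¹ * h ∈ A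
    rw [ha, mul_inv_rev, inv_mul_cancel_right]
    exact A.inv_mem a.2
  · show (((h * a : G) : G ⧸ A)).out = ((h : G ⧸ A)).out
    rw [QuotientGroup.mk_mul_of_mem h ha]

/-- **Gaschütz, degree one.** -/
theorem Z1.gaschuetz (hA : A ≤ K) (hn : (A.relIndex K : F) ≠ 0) {c : G → M} (hc : Z1 σ K c) (hb : B1 σ A c) :
    B1 σ K c := by
  obtain ⟨m, hm⟩ := hb
  obtain ⟨av, a1, a2, a3, a4⟩ := exists_avg F M hn
  have hc' := hc.sub (z1_cob m)
  set c' : G → M := c - fun g => m - σ g m with hc'd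
  have h0 : ∀ a ∈ A, c' a = 0 := fun a ha => by
    rw [hc'd, Pi.sub_apply, hm a ha, sub_self]
  have h1 : ∀ h ∈ K, ∀ a ∈ A, a ∈ K → c' (h * a) = c' h := fun h hh a ha haK => by
    rw [hc' h hh a haK, h0 a ha, map_zero, add_zero]
  have h2 : B1 σ K c' := by
    refine ⟨av c', fun g hg => ?_⟩
    have h3 := a4 c' h1 g hg
    have h4 : av (fun h => c' (g * h)) = av ((fun _ => c' g) + fun h => σ g (c' h)) :=
      a2 _ _ fun h hh => hc' g hg h hh
    rw [h4, map_add, a1, a3] at h3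
    rw [eq_sub_iff_add_eq, h3]
  have h5 := h2.add (⟨m, fun g _ => rfl⟩ : B1 σ K fun g => m - σ g m)
  rwa [hc'd, sub_add_cancel] at h5

/-- **Gaschütz, degree two.** -/
theorem Z2.gaschuetz (hA : A ≤ K) (hn : (A.relIndex K : F) ≠ 0) {γ : G → G → M} (hc : Z2 σ K γ)
    (hb : B2 σ A γ) : B2 σ K γ := by
  obtain ⟨b, hb⟩ := hb
  obtain ⟨av, a1, a2, a3, a4⟩ := exists_avg F M hn
  obtain ⟨r, r1, r2, r3⟩ := exists_rep hA
  have hβ : ∃ β : G → M, ∀ h ∈ K, ∀ a ∈ A, β (h * a) = β h + σ h (b a) - γ h a := by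
    refine ⟨fun h => σ (r h) (b ((r h)⁻¹ * h)) - γ (r h) ((r h)⁻¹ * h), ?_⟩
    intro h hh a ha
    show σ (r (h * a)) (b ((r (h * a))⁻¹ * (h * a))) - γ (r (h * a)) ((r (h * a))⁻¹ * (h * a)) =
      σ (r h) (b ((r h)⁻¹ * h)) - γ (r h) ((r h)⁻¹ * h) + σ h (b a) - γ h a
    rw [r3 h a ha, ← mul_assoc]
    have h1 := hb _ (r2 h) a ha
    have h2 := hc _ (r1 h hh) _ (hA (r2 h)) a (hA ha)
    rw [mul_inv_cancel_left] at h2
    have h3 : b ((r h)⁻¹ * h * a) = b ((r h)⁻¹ * h) + σ ((r h)⁻¹ * h) (b a) - γ ((r h)⁻¹ * h) a := by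
      rw [h1]; abel
    have h4 : γ (r h) ((r h)⁻¹ * h * a) = γ (r h) ((r h)⁻¹ * h) + γ h a - σ (r h) (γ ((r h)⁻¹ * h) a) := by
      rw [h2]; abel
    rw [h3, h4, map_sub, map_add, ← act_mul, mul_inv_cancel_left]
    abel
  obtain ⟨β, hβ⟩ := hβ
  let f : G → G → M := fun g h => γ g h - σ g (β h) + β (g * h)
  have hf : ∀ g ∈ K, ∀ h ∈ K, ∀ a ∈ A, a ∈ K → f g (h * a) = f g h := by
    intro g hg h hh a ha haK
    show γ g (h * a) - σ g (β (h * a)) + β (g * (h * a)) = γ g h - σ g (β h) + β (g * h)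
    have h1 := hc g hg h hh a haK
    have h2 : γ g (h * a) = γ g h + γ (g * h) a - σ g (γ h a) := by rw [h1]; abel
    rw [← mul_assoc, hβ h hh a ha, hβ _ (K.mul_mem hg hh) a ha, h2, map_sub, map_add, act_mul]
    abel
  have hid : ∀ g ∈ K, ∀ g' ∈ K, ∀ h ∈ K, γ g g' + f (g * g') h = σ g (f g' h) + f g (g' * h) := by
    intro g hg g' hg' h hh
    show γ g g' + (γ (g * g') h - σ (g * g') (β h) + β (g * g' * h)) =
      σ g (γ g' h - σ g' (β h) + β (g' * h)) + (γ g (g' * h) - σ g (β (g' * h)) + β (g * (g' * h)))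
    have h1 := hc g hg g' hg' h hh
    have h2 : γ g (g' * h) = γ g g' + γ (g * g') h - σ g (γ g' h) := by rw [h1]; abel
    rw [h2, map_add, map_sub, act_mul, mul_assoc]
    abel
  refine ⟨fun g => av (f g), fun g hg g' hg' => ?_⟩
  have h1 : av ((fun _ => γ g g') + f (g * g')) = av ((fun h => σ g (f g' h)) + fun h => f g (g' * h)) :=
    a2 _ _ fun h hh => hid g hg g' hg' h hh
  rw [map_add, map_add, a1, a3, a4 (f g) (hf g hg) g' hg'] at h1
  show γ g g' = av (f g) + σ g (av (f g')) - av (f (g * g'))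
  rw [eq_sub_iff_add_eq, h1, add_comm]

theorem H1.gaschuetz (hA : A ≤ K) (hn : (A.relIndex K : F) ≠ 0) (h : H1 σ A) : H1 σ K :=
  fun c hc => hc.gaschuetz hA hn (h c (hc.mono hA))

theorem Spl.gaschuetz {E : Type*} [Group E] {X : _root_.Cfsg.Agent.H863.SExt.Ext σ E} (hA : A ≤ K) (hn : (A.relIndex K : F) ≠ 0)
    (h : Spl X A) : Spl X K := by
  obtain ⟨t, γ, hc⟩ := exists_coc X
  rw [hc.spl_iff] at h ⊢
  exact (hc.z2.mono le_top).gaschuetz hA hn h

theorem h1_bot : H1 σ ⊥ := by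
  intro c hc
  refine ⟨0, fun g hg => ?_⟩
  rw [Subgroup.mem_bot.1 hg, hc.one, map_zero, sub_zero]

theorem Z2.b2_bot {γ : G → G → M} : B2 σ ⊥ γ := by
  refine ⟨fun _ => γ 1 1, fun g hg k hk => ?_⟩
  rw [Subgroup.mem_bot.1 hg, Subgroup.mem_bot.1 hk, act_one, add_sub_cancel_right]

/-- `H¹` of a group of invertible order. -/
theorem h1_of_card {T : Subgroup G} (hT : (Nat.card T : F) ≠ 0) : H1 σ T :=
  h1_bot.gaschuetz bot_le (by rwa [Subgroup.relIndex_bot_left])

/-- `H²` of a group of invertible order. -/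
theorem Z2.b2_of_card {T : Subgroup G} (hT : (Nat.card T : F) ≠ 0) {γ : G → G → M} (h : Z2 σ T γ) : B2 σ T γ :=
  h.gaschuetz bot_le (by rwa [Subgroup.relIndex_bot_left]) Z2.b2_bot

theorem spl_of_card {E : Type*} [Group E] (X : _root_.Cfsg.Agent.H863.SExt.Ext σ E) {T : Subgroup G} (hT : (Nat.card T : F) ≠ 0) :
    Spl X T := by
  obtain ⟨t, γ, hc⟩ := exists_coc X
  rw [hc.spl_iff]
  exact (hc.z2.mono le_top).b2_of_card hT

/-- The index condition in characteristic three: `3 ^ (k + 1)` does not divide `|K|`, and `|A| = 3 ^ k`. -/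
theorem relIndex_ne_zero_three (hA : A ≤ K) [Finite K] {k : ℕ} (h : Nat.card A = 3 ^ k)
    (hK : ¬ 3 ^ (k + 1) ∣ Nat.card K) : (A.relIndex K : ZMod 3) ≠ 0 := by
  have h1 : Nat.card (A.subgroupOf K) = Nat.card A := Nat.card_congr (Subgroup.subgroupOfEquivOfLe hA).toEquiv
  have h2 := (A.subgroupOf K).card_mul_index
  rw [h1, h] at h2
  show (((A.subgroupOf K).index : ℕ) : ZMod 3) ≠ 0
  intro h3
  rw [ZMod.natCast_eq_zero_iff] at h3
  apply hK
  rw [← h2, pow_succ]
  exact Nat.mul_dvd_mul_left _ h3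

end Cfsg.Agent.B5591
end

-- part: B5591/CocC
section
/-!
# S5591: lifts of subgroups (part c of the cocycle library)
-/

set_option autoImplicit false

namespace Cfsg.Agent.B5591

open Cfsg.Agent.H863.SExt

variable {F M G : Type*} [Field F] [AddCommGroup M] [Module F M] [Group G] {σ : G →* Module.End F M}
  {E : Type*} [Group E] {X : _root_.Cfsg.Agent.H863.SExt.Ext σ E} {K T : Subgroup G} {S S' : Subgroup E}

/-- The conjugate `x S x⁻¹` of a subgroup. -/
def cjS {H : Type*} [Group H] (x : H) (S : Subgroup H) : Subgroup H := S.map (MulAut.conj x).toMonoidHom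

theorem mem_cjS {H : Type*} [Group H] {x y : H} {S : Subgroup H} : y ∈ cjS x S ↔ x⁻¹ * y * x ∈ S := by
  constructor
  · rintro ⟨s, hs, rfl⟩
    show x⁻¹ * (x * s * x⁻¹) * x ∈ S
    have e : x⁻¹ * (x * s * x⁻¹) * x = s := by group
    rw [e]
    exact hs
  · intro h
    refine ⟨_, h, ?_⟩
    show x * (x⁻¹ * y * x) * x⁻¹ = y
    group

theorem conj_mem_cjS {H : Type*} [Group H] (x : H) {s : H} {S : Subgroup H} (hs : s ∈ S) :
    x * s * x⁻¹ ∈ cjS x S := ⟨s, hs, rfl⟩

theorem cjS_mono {H : Type*} [Group H] (x : H) {S S' : Subgroup H} (h : S ≤ S') : cjS x S ≤ cjS x S' :=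
  Subgroup.map_mono h

theorem cjS_mul {H : Type*} [Group H] (x y : H) (S : Subgroup H) : cjS (x * y) S = cjS x (cjS y S) := by
  ext z
  simp only [mem_cjS, mul_inv_rev, mul_assoc]

theorem cjS_one {H : Type*} [Group H] (S : Subgroup H) : cjS 1 S = S := by
  ext z
  rw [mem_cjS, inv_one, one_mul, mul_one]

theorem mem_normalizer_iff_cjS {H : Type*} [Group H] {x : H} {S : Subgroup H} :
    x ∈ Subgroup.normalizer (S : Set H) ↔ cjS x S = S := by
  rw [Subgroup.mem_normalizer_iff]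
  constructor
  · intro h
    ext y
    rw [mem_cjS, h]
    have e : x * (x⁻¹ * y * x) * x⁻¹ = y := by group
    rw [e]
  · intro h y
    have h1 : x * y * x⁻¹ ∈ cjS x S ↔ y ∈ S := by
      rw [mem_cjS]
      have e : x⁻¹ * (x * y * x⁻¹) * x = y := by group
      rw [e]
    rw [h] at h1
    exact h1.symm

/-- Conjugation of a lift by an element of the extension. -/
theorem IsLift.cj (h : IsLift X S K) (x : E) : IsLift X (cjS x S) (cjS (X.π x) K) := by
  constructor
  · intro y hy h1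
    rw [mem_cjS] at hy
    have h2 := h.1 _ hy (by rw [map_mul, map_mul, h1, mul_one, ← map_mul, inv_mul_cancel, map_one])
    calc y = x * (x⁻¹ * y * x) * x⁻¹ := by group
      _ = 1 := by rw [h2, mul_one, mul_inv_cancel]
  · ext g
    rw [mem_cjS]
    constructor
    · rintro ⟨y, hy, rfl⟩
      have h1 := h.mem (mem_cjS.1 hy)
      rwa [map_mul, map_mul, map_inv] at h1
    · intro hg
      obtain ⟨s, hs, e⟩ := h.exists hg
      refine ⟨x * s * x⁻¹, conj_mem_cjS x hs, ?_⟩
      rw [map_mul, map_mul, map_inv, e]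
      group

/-- Conjugation of a lift by a vector. -/
theorem IsLift.cj_j (h : IsLift X S K) (m : M) : IsLift X (cjS (X.j m) S) K := by
  have h1 := h.cj (X.j m)
  rwa [X.π_j, cjS_one] at h1

/-- Restriction of a lift to a smaller subgroup. -/
theorem IsLift.restrict (h : IsLift X S K) (hT : T ≤ K) : IsLift X (S ⊓ T.comap X.π) T := by
  constructor
  · exact fun x hx => h.1 x hx.1
  · ext g
    constructor
    · rintro ⟨x, hx, rfl⟩
      exact hx.2
    · intro hg
      obtain ⟨x, hx, e⟩ := h.exists (hT hg)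
      exact ⟨x, ⟨hx, by show X.π x ∈ T; rw [e]; exact hg⟩, e⟩

theorem IsLift.eq_of_le (h : IsLift X S K) (h' : IsLift X S' K) (hS : S' ≤ S) : S' = S := by
  apply le_antisymm hS
  intro x hx
  obtain ⟨y, hy, e⟩ := h'.exists (h.mem hx)
  rw [← h.inj (hS hy) hx e]
  exact hy

theorem isLift_bot : IsLift X ⊥ ⊥ :=
  ⟨fun _ hx _ => Subgroup.mem_bot.1 hx, Subgroup.map_bot _⟩

/-- The difference of two lifts is a `1`-cocycle. -/
theorem IsLift.exists_z1 (h : IsLift X S K) (h' : IsLift X S' K) :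
    ∃ c : G → M, Z1 σ K c ∧ ∀ x ∈ S, X.j (c (X.π x)) * x ∈ S' := by
  classical
  have h1 : ∀ g : G, ∃ v : M, ∀ x ∈ S, X.π x = g → X.j v * x ∈ S' := by
    intro g
    by_cases hg : g ∈ K
    · obtain ⟨x, hx, e⟩ := h.exists hg
      obtain ⟨x', hx', e'⟩ := h'.exists hg
      obtain ⟨v, hv⟩ := X.of_eq (e'.trans e.symm)
      refine ⟨v, fun y hy ey => ?_⟩
      rw [h.inj hy hx (ey.trans e.symm), ← hv]
      exact hx'
    · exact ⟨0, fun x hx e => absurd (e ▸ h.mem hx) hg⟩
  choose c hc using h1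
  refine ⟨c, fun g hg k hk => ?_, fun x hx => hc _ x hx rfl⟩
  obtain ⟨x, hx, e⟩ := h.exists hg
  obtain ⟨y, hy, e'⟩ := h.exists hk
  have h2 := hc (g * k) (x * y) (S.mul_mem hx hy) (by rw [map_mul, e, e'])
  have h3 := S'.mul_mem (hc g x hx e) (hc k y hy e')
  have h4 : X.j (c g) * x * (X.j (c k) * y) = X.j (c g + σ g (c k)) * (x * y) := by
    rw [mul_assoc, ← mul_assoc x, X.conj, e, X.j_add]
    simp only [mul_assoc]
  rw [h4] at h3
  have h5 := h'.inj h2 h3 (by rw [map_mul, map_mul X.π (X.j _), X.π_j, X.π_j])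
  exact X.j_inj (mul_right_cancel h5)

/-- **Lifts are conjugate if `H¹ = 0`.** -/
theorem IsLift.conj_of_h1 (h : IsLift X S K) (h' : IsLift X S' K) (h1 : H1 σ K) :
    ∃ m : M, S' = cjS (X.j m) S := by
  obtain ⟨c, hc, hS⟩ := h.exists_z1 h'
  obtain ⟨m, hm⟩ := h1 c hc
  refine ⟨m, (h'.eq_of_le (h.cj_j m) ?_).symm⟩
  rintro _ ⟨x, hx, rfl⟩
  show X.j m * x * (X.j m)⁻¹ ∈ S'
  rw [X.conj_elt, ← hm _ (h.mem hx)]
  exact hS x hx

/-- A vector normalises a lift of `K` iff it is fixed by `K`. -/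
theorem IsLift.j_mem_normalizer (h : IsLift X S K) {m : M} :
    X.j m ∈ Subgroup.normalizer (S : Set E) ↔ ∀ g ∈ K, σ g m = m := by
  rw [mem_normalizer_iff_cjS]
  constructor
  · intro h1 g hg
    obtain ⟨x, hx, e⟩ := h.exists hg
    have h2 : X.j m * x * (X.j m)⁻¹ ∈ S := h1 ▸ conj_mem_cjS (X.j m) hx
    have h3 := h.inj h2 hx (by rw [map_mul, map_mul, map_inv, X.π_j, one_mul, inv_one, mul_one])
    rw [← e]
    exact X.fixed_of_agree h3
  · intro h1
    apply h.eq_of_le (h.cj_j m)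
    rintro _ ⟨x, hx, rfl⟩
    show X.j m * x * (X.j m)⁻¹ ∈ S
    rw [X.conj_elt, h1 _ (h.mem hx), sub_self, X.j_zero, one_mul]
    exact hx

theorem fixed_of_j_comm {m : M} {x : E} (h : x * X.j m = X.j m * x) : σ (X.π x) m = m := by
  rw [X.conj] at h
  exact X.j_inj (mul_right_cancel h)

/-- Frattini argument: the normaliser of a lift covers the normaliser of `K`. -/
theorem IsLift.exists_normalizer (h : IsLift X S K) (h1 : H1 σ K) {g : G}
    (hg : g ∈ Subgroup.normalizer (K : Set G)) : ∃ x ∈ Subgroup.normalizer (S : Set E), X.π x = g := by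
  obtain ⟨y, rfl⟩ := X.surj g
  have h2 := h.cj y
  rw [mem_normalizer_iff_cjS.1 hg] at h2
  obtain ⟨m, hm⟩ := h2.conj_of_h1 h h1
  refine ⟨X.j m * y, ?_, by rw [map_mul, X.π_j, one_mul]⟩
  rw [mem_normalizer_iff_cjS, cjS_mul, ← hm]

/-- A cocycle of the extension adapted to a lift `S` of `K`: over the normaliser of `K` the section normalises `S`
and the values of the cocycle are fixed by `K`. -/
theorem IsLift.exists_coc_fixed (h : IsLift X S K) (h1 : H1 σ K) :
    ∃ (t : G → E) (γ : G → G → M), IsCoc X t γ ∧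
      (∀ g ∈ Subgroup.normalizer (K : Set G), t g ∈ Subgroup.normalizer (S : Set E)) ∧
      ∀ g ∈ Subgroup.normalizer (K : Set G), ∀ g' ∈ Subgroup.normalizer (K : Set G), ∀ k ∈ K,
        σ k (γ g g') = γ g g' := by
  classical
  have h2 : ∀ g : G, ∃ x : E, X.π x = g ∧
      (g ∈ Subgroup.normalizer (K : Set G) → x ∈ Subgroup.normalizer (S : Set E)) := by
    intro g
    by_cases hg : g ∈ Subgroup.normalizer (K : Set G)
    · obtain ⟨x, hx, e⟩ := h.exists_normalizer h1 hg
      exact ⟨x, e, fun _ => hx⟩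
    · obtain ⟨x, e⟩ := X.surj g
      exact ⟨x, e, fun h' => absurd h' hg⟩
  choose t ht ht' using h2
  have hf : ∀ g h : G, ∃ v, t g * t h = X.j v * t (g * h) := fun g h =>
    X.of_eq (by rw [map_mul, ht, ht, ht])
  choose γ hγ using hf
  refine ⟨t, γ, ⟨ht, hγ⟩, ht', fun g hg g' hg' => ?_⟩
  apply h.j_mem_normalizer.1
  have h3 := Subgroup.mul_mem _ (Subgroup.mul_mem _ (ht' g hg) (ht' g' hg'))
    (Subgroup.inv_mem _ (ht' _ (Subgroup.mul_mem _ hg hg')))
  rwa [hγ, mul_inv_cancel_right] at h3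

/-! ### `1`-cocycles and normal subgroups -/

theorem Z1.mul_right {c : G → M} (h : Z1 σ K c) (hT : T ≤ K) (h0 : ∀ t ∈ T, c t = 0) {g t : G} (hg : g ∈ K)
    (ht : t ∈ T) : c (g * t) = c g := by
  rw [h g hg t (hT ht), h0 t ht, map_zero, add_zero]

end Cfsg.Agent.B5591
end

-- part: B5591/Geo
section
/-!
# S5591 (`3^4371 · B`): the flag, the axes, and the boxes (interface)

`Ω = ⟨z, p, 0xea, 0x9, 0x140⟩ = 2^5` (normaliser `2^30.L5(2)`), `Σ = ⟨z, p, 0xea, 0x9⟩`, `π = ⟨z, p, 0xea⟩`,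
`ℓ = ⟨z, p⟩`; `KO ≤ KS ≤ KP ≤ N0` are their centralisers in the group `G` of the model.
-/

set_option autoImplicit false

namespace Cfsg.Agent.B5591.Geo

open Cfsg.Agent.Monster Cfsg.Agent.Monster.VecEngine Cfsg.Agent.Monster.VecSpace
open Cfsg.Agent.Monster.PauliBits
open Cfsg.Agent.BabyM.Conc Cfsg.Agent.BabyM
open Cfsg.Agent.H863.BRep Cfsg.Agent.H863.SExt

/-- The field of three elements. -/
abbrev F3 : Type := ZMod 3

theorem two_ne : (2 : F3) ≠ 0 := by decide

/-- The module of degree `4371`. -/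
abbrev V3 : Type := Lane U → F3

/-- The representation of degree `4371` over `𝔽₃`. -/
noncomputable abbrev σV : G →* Module.End F3 V3 := sigma two_ne

/-- The element of `Q` with a given code. -/
noncomputable def q (c : ℕ) : G := r (dec 11 c)

/-- The central involution of `C`. -/
noncomputable def zz : G := gE .z

/-- The second point of the line `ℓ`. -/
noncomputable def pp : G := gE .Z10

/-- The group `Q = 2^{1+22}`. -/
noncomputable def QQ : Subgroup G := r.range

/-- The stabiliser in `C` of the line `ℓ`. -/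
noncomputable def NN : Subgroup G := CertInv.N.subgroupOf Inst.M.G

/-- The centraliser of the line `ℓ`. -/
noncomputable def N0 : Subgroup G := Subgroup.centralizer {zz, pp}

/-- The centraliser of the plane `π`. -/
noncomputable def KP : Subgroup G := Subgroup.centralizer {zz, pp, q 0xea}

/-- The centraliser of the solid `Σ`. -/
noncomputable def KS : Subgroup G := Subgroup.centralizer {zz, pp, q 0xea, q 0x9}

/-- The centraliser of `Ω`. -/
noncomputable def KO : Subgroup G := Subgroup.centralizer {zz, pp, q 0xea, q 0x9, q 0x140}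

theorem KO_le_KS : KO ≤ KS := Subgroup.centralizer_le
  (Set.insert_subset_insert (Set.insert_subset_insert (Set.insert_subset_insert
    (Set.singleton_subset_iff.2 (Set.mem_insert _ _)))))

theorem KS_le_KP : KS ≤ KP := Subgroup.centralizer_le
  (Set.insert_subset_insert (Set.insert_subset_insert (Set.singleton_subset_iff.2 (Set.mem_insert _ _))))

theorem KP_le_N0 : KP ≤ N0 := Subgroup.centralizer_le
  (Set.insert_subset_insert (Set.singleton_subset_iff.2 (Set.mem_insert _ _)))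

/-! ### The signed axes -/

/-- The signed axes. -/
abbrev Ax : Type := ↥(MulAction.orbit G Inst.M.d₀)

theorem smul_val (g : G) (d : Ax) : ((g • d : Ax) : V) = g.1 (d : V) := rfl

theorem neg_mem (d : Ax) : -(d : V) ∈ MulAction.orbit G Inst.M.d₀ := by
  obtain ⟨g, hg⟩ := d.2
  obtain ⟨n, hn, h⟩ := Instance.all.rep.neg
  refine ⟨g * ⟨n, InstMem.C_le_G hn⟩, ?_⟩
  have h1 : g.1 Inst.M.d₀ = (d : V) := hg
  show g.1 (n Inst.M.d₀) = -(d : V)
  rw [h, map_neg, h1]

/-- The negative of a signed axis. -/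
noncomputable def neg (d : Ax) : Ax := ⟨-(d : V), neg_mem d⟩

theorem neg_neg' (d : Ax) : neg (neg d) = d := Subtype.ext (neg_neg _)

theorem smul_neg' (g : G) (d : Ax) : g • neg d = neg (g • d) := Subtype.ext (map_neg g.1 _)

/-- The base axis. -/
noncomputable def d0 : Ax := ⟨Inst.M.d₀, MulAction.mem_orbit_self _⟩

theorem trans (d : Ax) : ∃ g : G, g • d0 = d := by
  obtain ⟨g, hg⟩ := d.2
  exact ⟨g, Subtype.ext hg⟩

/-- The axis fixed by `t2, ..., t11`. -/
noncomputable def dS : Ax := gE .y1 • d0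

/-! ### Boxes -/

/-- Every signed axis is negated by an element centralising `Ω`. -/
def BoxNeg : Prop := ∀ d : Ax, ∃ k ∈ KO, k • d = neg d

/-- The centraliser of `Σ` has order prime to three. -/
def BoxKS : Prop := ¬ 3 ∣ Nat.card KS

/-- Generation of `N0`. -/
def BoxGen0 : Prop :=
  N0 ≤ Subgroup.closure (((N0 ⊓ Subgroup.normalizer (KO : Set G) : Subgroup G) : Set G) ∪ KS)

/-- Generation of `KP`. -/
def BoxGenP : Prop :=
  KP ≤ Subgroup.closure (((KP ⊓ Subgroup.normalizer (KO : Set G) : Subgroup G) : Set G) ∪ KS)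

/-- The Sylow `3`-subgroups of `NN` have order at most nine. -/
def BoxSyl : Prop := N0 ≤ NN ∧ ¬ 27 ∣ Nat.card NN

/-- The vector of the line `ℓ`. -/
noncomputable def wV : V3 := Pi.single H863.BVec.bI 1

/-- The normal subgroup `O₂(NN)`. -/
def BoxR : Prop := ∃ R : Subgroup G, ¬ 3 ∣ Nat.card R ∧ R ≤ NN ∧ NN ≤ Subgroup.normalizer (R : Set G) ∧ QQ ≤ R ∧
  (∀ l ∈ [Ltr.y1, .y2, .y3, .y4, .y5, .y6, .y7, .y8, .y9, .y10], gE l ∈ R) ∧ (∀ g ∈ R, σV g wV = wV) ∧
  ∀ v : V3, (∀ g ∈ R, σV g v = v) → ∃ c : F3, v = c • wV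

/-- **The local-to-global theorem**, for every module: the statement of `LG`. -/
def BoxLG : Prop := ∀ {M : Type} [AddCommGroup M] [Module F3 M] {σ : G →* Module.End F3 M} {E : Type} [Group E]
  (X : _root_.Cfsg.Agent.H863.SExt.Ext σ E), Fx σ KO → Spl X N0 → Spl X ⊤

end Cfsg.Agent.B5591.Geo
end
end

-- part: B5591/LocDef_mg
section
prune_inst 0x100000400000000000009001000000380000000000000000200702020cc040000000004c0004020000000000000000001000000000000000000000000400000000000000000000000000000000000000000000000000000000000000000000000000000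
set_option linter.all false
open scoped Cfsg.Agent.FastGrp

-- part: B5591/CocG
section
/-!
# S5591: quotient modules and submodules (part g of the cocycle library)
-/

set_option autoImplicit false

namespace Cfsg.Agent.B5591

variable {F M G : Type*} [Field F] [AddCommGroup M] [Module F M] [Group G]

/-- The action on the quotient by an invariant submodule. -/
def quo (σ : G →* Module.End F M) (J : Submodule F M) (hJ : ∀ g, ∀ m ∈ J, σ g m ∈ J) :
    G →* Module.End F (M ⧸ J) where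
  toFun g := J.mapQ J (σ g) (hJ g)
  map_one' := by
    apply J.linearMap_qext
    ext m
    show J.mapQ J (σ 1) (hJ 1) (J.mkQ m) = J.mkQ m
    rw [Submodule.mkQ_apply, Submodule.mapQ_apply, act_one]
  map_mul' g h := by
    apply J.linearMap_qext
    ext m
    show J.mapQ J (σ (g * h)) (hJ _) (J.mkQ m) = J.mapQ J (σ g) (hJ g) (J.mapQ J (σ h) (hJ h) (J.mkQ m))
    simp only [Submodule.mkQ_apply, Submodule.mapQ_apply, act_mul]

/-- The action on an invariant submodule. -/
def sub (σ : G →* Module.End F M) (J : Submodule F M) (hJ : ∀ g, ∀ m ∈ J, σ g m ∈ J) :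
    G →* Module.End F J where
  toFun g := (σ g).restrict (hJ g)
  map_one' := by
    ext m
    show σ 1 m = m
    exact act_one _
  map_mul' g h := by
    ext m
    show σ (g * h) m = σ g (σ h m)
    exact act_mul _ _ _

variable {σ : G →* Module.End F M} {J : Submodule F M} {hJ : ∀ g, ∀ m ∈ J, σ g m ∈ J} {K T : Subgroup G}

theorem quo_mk (g : G) (m : M) : quo σ J hJ g (J.mkQ m) = J.mkQ (σ g m) := rfl

theorem Z2.mkQ {γ : G → G → M} (h : Z2 σ K γ) : Z2 (quo σ J hJ) K (fun g k => J.mkQ (γ g k)) :=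
  h.map J.mkQ fun _ _ _ => rfl

theorem B2.mkQ {γ : G → G → M} (h : B2 σ K γ) : B2 (quo σ J hJ) K (fun g k => J.mkQ (γ g k)) :=
  h.map J.mkQ fun _ _ _ => rfl

theorem Z1.mkQ {c : G → M} (h : Z1 σ K c) : Z1 (quo σ J hJ) K (fun g => J.mkQ (c g)) :=
  h.map J.mkQ fun _ _ _ => rfl

theorem B1.mkQ {c : G → M} (h : B1 σ K c) : B1 (quo σ J hJ) K (fun g => J.mkQ (c g)) :=
  h.map J.mkQ fun _ _ _ => rfl

/-- Fixed vectors of the quotient lift if `H¹(T, J) = 0`. -/
theorem exists_fixed_of_h1 (h1 : H1 (sub σ J hJ) T) {x : M ⧸ J} (hx : ∀ g ∈ T, quo σ J hJ g x = x) :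
    ∃ m : M, J.mkQ m = x ∧ ∀ g ∈ T, σ g m = m := by
  classical
  obtain ⟨m, rfl⟩ := J.mkQ_surjective x
  have h2 : ∀ g ∈ T, m - σ g m ∈ J := fun g hg => (Submodule.Quotient.eq J).1 (hx g hg).symm
  let c : G → J := fun g => if hg : g ∈ T then ⟨m - σ g m, h2 g hg⟩ else 0
  have hc : ∀ g ∈ T, (c g : M) = m - σ g m := fun g hg => by
    show ((if hg : g ∈ T then (⟨m - σ g m, h2 g hg⟩ : J) else 0 : J) : M) = _
    rw [dif_pos hg]
  have h3 : Z1 (sub σ J hJ) T c := by
    intro g hg k hk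
    apply Subtype.ext
    show (c (g * k) : M) = c g + σ g (c k)
    rw [hc _ (T.mul_mem hg hk), hc g hg, hc k hk, map_sub, act_mul]
    abel
  obtain ⟨n, hn⟩ := h1 c h3
  refine ⟨m - n, ?_, fun g hg => ?_⟩
  · rw [map_sub, Submodule.mkQ_apply J n, (Submodule.Quotient.mk_eq_zero J).2 n.2, sub_zero]
  · have h4 : m - σ g m = n - σ g n := (hc g hg).symm.trans (congrArg Subtype.val (hn g hg))
    rw [map_sub, sub_eq_sub_iff_sub_eq_sub, ← neg_sub m, h4, neg_sub]

/-- **Fixed vectors of the quotient lift for a group of invertible order.** -/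
theorem exists_fixed_of_card (hT : (Nat.card T : F) ≠ 0) {x : M ⧸ J} (hx : ∀ g ∈ T, quo σ J hJ g x = x) :
    ∃ m : M, J.mkQ m = x ∧ ∀ g ∈ T, σ g m = m := exists_fixed_of_h1 (h1_of_card hT) hx

/-- No fixed vectors in the quotient if all fixed vectors lie in the submodule. -/
theorem fx_quo_of_mem (hT : (Nat.card T : F) ≠ 0) (h : ∀ m, (∀ g ∈ T, σ g m = m) → m ∈ J) :
    Fx (quo σ J hJ) T := by
  intro x hx
  obtain ⟨m, rfl, hm⟩ := exists_fixed_of_card hT hx
  exact (Submodule.Quotient.mk_eq_zero J).2 (h m hm)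

/-- A class which dies in the quotient comes from the submodule. -/
theorem Z2.exists_mem {γ : G → G → M} (h : Z2 σ K γ) (hb : B2 (quo σ J hJ) K (fun g k => J.mkQ (γ g k))) :
    ∃ γ' : G → G → M, Z2 σ K γ' ∧ (∀ g ∈ K, ∀ k ∈ K, γ' g k ∈ J) ∧ B2 σ K (γ - γ') := by
  obtain ⟨b, hb⟩ := hb
  choose β hβ using fun g => J.mkQ_surjective (b g)
  refine ⟨γ - fun g k => β g + σ g (β k) - β (g * k), h.sub (z2_cob β), fun g hg k hk => ?_, ?_⟩
  · apply (Submodule.Quotient.eq J).1
    show J.mkQ (γ g k) = J.mkQ (β g + σ g (β k) - β (g * k))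
    rw [map_sub, map_add, ← quo_mk (hJ := hJ), hβ, hβ, hβ]
    exact hb g hg k hk
  · rw [sub_sub_cancel]
    exact ⟨β, fun _ _ _ _ => rfl⟩

/-- A cocycle with values in the range of an injective equivariant map is the image of a cocycle. -/
theorem Z2.exists_preimage {V : Type*} [AddCommGroup V] [Module F V] {ρ : G →* Module.End F V} (ι : V →ₗ[F] M)
    (hι : Function.Injective ι) (he : ∀ g ∈ K, ∀ v, ι (ρ g v) = σ g (ι v)) {γ : G → G → M} (h : Z2 σ K γ)
    (hr : ∀ g ∈ K, ∀ k ∈ K, γ g k ∈ LinearMap.range ι) :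
    ∃ δ : G → G → V, Z2 ρ K δ ∧ ∀ g ∈ K, ∀ k ∈ K, ι (δ g k) = γ g k := by
  classical
  have h1 : ∀ g k, ∃ v, g ∈ K → k ∈ K → ι v = γ g k := by
    intro g k
    by_cases hgk : g ∈ K ∧ k ∈ K
    · obtain ⟨v, hv⟩ := hr g hgk.1 k hgk.2
      exact ⟨v, fun _ _ => hv⟩
    · exact ⟨0, fun hg hk => absurd ⟨hg, hk⟩ hgk⟩
  choose δ hδ using h1
  refine ⟨δ, fun a ha b hb c hc => hι ?_, fun g hg k hk => hδ g k hg hk⟩
  rw [map_add, map_add, he a ha, hδ a b ha hb, hδ _ c (K.mul_mem ha hb) hc, hδ b c hb hc,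
    hδ a _ ha (K.mul_mem hb hc)]
  exact h a ha b hb c hc

end Cfsg.Agent.B5591
end

-- part: B5591/WMod
section
/-!
# S5591: the module of functions on the signed axes (box WMod)

`red d` is the axis `d` modulo `3`, `iota v d = (v, red d)`, `phi = iota wV`, `J = even + iota V`, `M = W / J`.
-/

set_option autoImplicit false

namespace Cfsg.Agent.B5591.Geo

open Cfsg.Agent.Monster Cfsg.Agent.Monster.VecEngine Cfsg.Agent.Monster.VecSpace
open Cfsg.Agent.BabyM.Conc Cfsg.Agent.BabyM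
open Cfsg.Agent.H863 Cfsg.Agent.H863.BRep Cfsg.Agent.H863.BRed Cfsg.Agent.H863.SExt Cfsg.Agent.H863.BVec

/-! ### Reduction modulo three -/

/-- The reduction of a rational vector. -/
def rv (v : V) : V3 := fun i => ((v i : ℚ) : F3)

/-- Vectors with denominators powers of two. -/
def Dy (v : V) : Prop := ∃ (k : ℕ) (y : Lane U → ℤ), (2 : ℚ) ^ k • v = up ℚ y

theorem rv_of {v : V} {k : ℕ} {y : Lane U → ℤ} (h : (2 : ℚ) ^ k • v = up ℚ y) :
    (2 : F3) ^ k • rv v = up F3 y := by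
  funext i
  have h1 : (2 : ℚ) ^ k * v i = (y i : ℚ) := congrFun h i
  have h2 : v i = (y i : ℚ) / ((2 ^ k : ℤ) : ℚ) := by
    rw [← h1]
    push_cast
    field_simp
  have h3 : (((2 ^ k : ℤ)) : F3) ≠ 0 := by
    push_cast
    exact pow_ne_zero k two_ne
  show (2 : F3) ^ k * ((v i : ℚ) : F3) = (y i : F3)
  rw [h2, ← Rat.divInt_eq_div, Rat.cast_divInt_of_ne_zero _ h3]
  push_cast
  exact mul_div_cancel₀ _ (pow_ne_zero k two_ne)

theorem Dy.smul {v : V} (h : Dy v) (g : G) : Dy (g.1 v) ∧ rv (g.1 v) = σV g (rv v) := by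
  obtain ⟨k, y, hy⟩ := h
  obtain ⟨l, w, h1, h2⟩ := sigma_red two_ne g y
  have h3 : (2 : ℚ) ^ (l + k) • g.1 v = up ℚ w := by
    rw [← h1, ← hy, pow_add, mul_smul, map_smul]
    rfl
  refine ⟨⟨_, _, h3⟩, ?_⟩
  have h4 := rv_of h3
  rw [← h2, ← rv_of hy, map_smul, smul_smul, ← pow_add] at h4
  exact smul_right_injective _ (pow_ne_zero _ two_ne) h4

theorem dy_eighth (P : Pl) : (2 : ℚ) ^ 3 • ((1 / 8 : ℚ) • vecU ℚ U P) = up ℚ (zv P) := by
  rw [smul_smul]
  have : (2 : ℚ) ^ 3 * (1 / 8) = 1 := by norm_num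
  rw [this, one_smul]
  rfl

theorem d0_val : (d0 : V) = (1 / 8 : ℚ) • vecU ℚ U (InstVec.dv 0) := Inst.d_zero.symm

theorem dy_ax (d : Ax) : Dy (d : V) := by
  obtain ⟨g, rfl⟩ := trans d
  rw [smul_val]
  exact (Dy.smul ⟨3, _, by rw [d0_val]; exact dy_eighth _⟩ g).1

/-- The axis modulo three. -/
def red (d : Ax) : V3 := rv (d : V)

theorem red_smul (g : G) (d : Ax) : red (g • d) = σV g (red d) := ((dy_ax d).smul g).2

theorem red_neg (d : Ax) : red (neg d) = -red d := by
  funext i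
  show (((-(d : V)) i : ℚ) : F3) = -(((d : V) i : ℚ) : F3)
  rw [Pi.neg_apply, Rat.cast_neg]

theorem red_of {d : Ax} {P : Pl} (h : (d : V) = (1 / 8 : ℚ) • vecU ℚ U P) : red d = -up F3 (zv P) := by
  have h1 := rv_of (dy_eighth P)
  rw [← h] at h1
  have h2 : (2 : F3) ^ 3 = -1 := by decide
  rw [h2, neg_smul, one_smul] at h1
  rw [← h1, neg_neg]
  rfl

/-! ### The invariant form -/

theorem σV_gE (l : Ltr) : σV (gE l) = (semU F3 U l.prog : Module.End F3 V3) :=
  (sigma_red two_ne (gE l)).unique two_ne (red_E two_ne l)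

theorem dot_inv (g : G) (u v : V3) : dotW F3 U wt (σV g u) (σV g v) = dotW F3 U wt u v := by
  have key : ∀ (a : V ≃ₗ[ℚ] V) (ha : a ∈ Subgroup.closure {g | ∃ l, g = E l}), ∀ u v : V3,
      dotW F3 U wt (σV ⟨a, gen_eq ▸ ha⟩ u) (σV ⟨a, gen_eq ▸ ha⟩ v) = dotW F3 U wt u v := by
    intro a ha
    induction ha using Subgroup.closure_induction with
    | mem a ha =>
      obtain ⟨l, rfl⟩ := ha
      intro u v
      have h1 := dotW_semU F3 two_ne (good_prog l) u v
      rw [← σV_gE] at h1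
      exact h1
    | one =>
      intro u v
      have e : ∀ w : V3, σV (1 : G) w = w := fun w => act_one w
      exact congrArg₂ _ (e u) (e v)
    | mul a b ha hb iha ihb =>
      intro u v
      have e : ∀ w : V3, σV ((⟨a, gen_eq ▸ ha⟩ : G) * ⟨b, gen_eq ▸ hb⟩) w =
        σV ⟨a, gen_eq ▸ ha⟩ (σV ⟨b, gen_eq ▸ hb⟩ w) := fun w => act_mul _ _ w
      exact (congrArg₂ _ (e u) (e v)).trans ((iha _ _).trans (ihb u v))
    | inv a ha ih =>
      intro u v
      have e : ∀ w : V3, σV (⟨a, gen_eq ▸ ha⟩ : G) (σV (⟨a, gen_eq ▸ ha⟩ : G)⁻¹ w) = w := fun w => act_act_inv _ w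
      exact (ih _ _).symm.trans (congrArg₂ _ (e u) (e v))
  exact key g.1 (gen_eq ▸ g.2) u v

/-! ### The embedding -/

/-- The permutation module. -/
noncomputable abbrev σW : G →* Module.End F3 (Ax → F3) := perm F3 G Ax

/-- The embedding of `V3` into the functions on the signed axes. -/
noncomputable def iota : V3 →ₗ[F3] (Ax → F3) where
  toFun v d := dotW F3 U wt v (red d)
  map_add' u v := funext fun _ => dotW_add_left F3 U wt u v _
  map_smul' c v := funext fun _ => dotW_smul_left F3 U wt c v _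

theorem iota_apply (v : V3) (d : Ax) : iota v d = dotW F3 U wt v (red d) := rfl

theorem iota_smul (g : G) (v : V3) (d : Ax) : iota (σV g v) (g • d) = iota v d := by
  rw [iota_apply, red_smul, dot_inv, iota_apply]

theorem iota_equiv (g : G) (v : V3) : iota (σV g v) = σW g (iota v) := by
  funext d
  rw [perm_apply, ← iota_smul g v (g⁻¹ • d), smul_inv_smul]

theorem iota_neg (v : V3) (d : Ax) : iota v (neg d) = -iota v d := by
  rw [iota_apply, red_neg, iota_apply, dotW_comm, dotW_comm F3 U wt v, ← neg_one_smul F3 (red d), dotW_smul_left,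
    neg_one_mul]

/-- The function of the line `ℓ`. -/
noncomputable def phi : Ax → F3 := iota wV

theorem phi_eq (d : Ax) : phi d = red d bI := by
  show dotW F3 U wt (Pi.single bI 1) (red d) = _
  rw [dotW_comm, dotW_single]
  have h : val wt bI.1 = 0 := Inst.wt_I
  rw [h, neg_zero, zpow_zero, one_mul]

/-- The value of `phi` on an explicit axis. -/
theorem phi_of {d : Ax} {P : Pl} (h : (d : V) = (1 / 8 : ℚ) • vecU ℚ U P) : phi d = -((val P 1344 : ℤ) : F3) := by
  rw [phi_eq, red_of h]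
  rfl

theorem phi_neg (d : Ax) : phi (neg d) = -phi d := iota_neg _ d

theorem phi_smul_of_fix {g : G} (h : σV g wV = wV) (d : Ax) : phi (g • d) = phi d := by
  have h1 := iota_smul g wV d
  rwa [h] at h1

theorem phi_smul_of_neg {g : G} (h : σV g wV = -wV) (d : Ax) : phi (g • d) = -phi d := by
  have h1 := iota_smul g wV d
  rw [h, map_neg, Pi.neg_apply] at h1
  exact neg_eq_iff_eq_neg.1 h1

theorem phi_d0 : phi d0 ≠ 0 := by
  rw [phi_of d0_val, show val (InstVec.dv 0) 1344 = 32 by decide +kernel]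
  decide

theorem iota_injective : Function.Injective iota := by
  rw [← LinearMap.ker_eq_bot]
  rcases BFin.irred two_ne (LinearMap.ker iota) (fun g m hm => by
    rw [LinearMap.mem_ker] at hm ⊢
    have h := iota_equiv g m
    rw [hm, map_zero] at h
    exact h) with h | h
  · exact h
  · exfalso
    have h1 : wV ∈ LinearMap.ker iota := by rw [h]; exact Submodule.mem_top
    exact phi_d0 (congrFun (LinearMap.mem_ker.1 h1) d0)

/-! ### Even and odd functions, the quotient -/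

/-- The even functions. -/
def Ev : Submodule F3 (Ax → F3) where
  carrier := {f | ∀ d, f (neg d) = f d}
  add_mem' {f g} hf hg d := by rw [Pi.add_apply, Pi.add_apply, hf d, hg d]
  zero_mem' _ := rfl
  smul_mem' c f hf d := by rw [Pi.smul_apply, Pi.smul_apply, hf d]

/-- `f ↦ f - f ∘ neg` (twice the odd part). -/
noncomputable def od : (Ax → F3) →ₗ[F3] (Ax → F3) where
  toFun f d := f d - f (neg d)
  map_add' f g := by
    funext d
    simp only [Pi.add_apply]
    ring
  map_smul' c f := by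
    funext d
    simp only [Pi.smul_apply, smul_eq_mul, RingHom.id_apply]
    ring

theorem od_apply (f : Ax → F3) (d : Ax) : od f d = f d - f (neg d) := rfl

theorem od_equiv (g : G) (f : Ax → F3) : od (σW g f) = σW g (od f) := by
  funext d
  rw [od_apply, perm_apply, perm_apply, perm_apply, od_apply, smul_neg']

theorem od_neg (f : Ax → F3) (d : Ax) : od f (neg d) = -od f d := by
  rw [od_apply, od_apply, neg_neg', neg_sub]

theorem od_of_even {f : Ax → F3} (h : f ∈ Ev) : od f = 0 := by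
  funext d
  rw [od_apply, h d, sub_self, Pi.zero_apply]

theorem od_of_odd {f : Ax → F3} (h : ∀ d, f (neg d) = -f d) : od f = -f := by
  funext d
  rw [od_apply, h d, Pi.neg_apply]
  generalize f d = a
  revert a
  decide

/-- The submodule `even + iota V`. -/
noncomputable def J : Submodule F3 (Ax → F3) := Ev ⊔ LinearMap.range iota

theorem J_inv (g : G) (f : Ax → F3) (hf : f ∈ J) : σW g f ∈ J := by
  obtain ⟨e, he, _, ⟨v, rfl⟩, rfl⟩ := Submodule.mem_sup.1 hf
  rw [map_add, ← iota_equiv]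
  refine Submodule.add_mem _ (Submodule.mem_sup_left ?_) (Submodule.mem_sup_right ⟨_, rfl⟩)
  intro d
  rw [perm_apply, perm_apply, smul_neg', he]

theorem od_mem {f : Ax → F3} (hf : f ∈ J) : od f ∈ LinearMap.range iota := by
  obtain ⟨e, he, _, ⟨v, rfl⟩, rfl⟩ := Submodule.mem_sup.1 hf
  rw [map_add, od_of_even he, zero_add, od_of_odd (iota_neg v)]
  exact Submodule.neg_mem _ ⟨v, rfl⟩

theorem iota_mem (v : V3) : iota v ∈ J := Submodule.mem_sup_right ⟨v, rfl⟩

/-- The module `M = W / J`. -/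
noncomputable abbrev σM : G →* Module.End F3 ((Ax → F3) ⧸ J) := quo σW J J_inv

theorem even_of_fixed (hN : BoxNeg) {f : Ax → F3} (h : ∀ g ∈ KO, σW g f = f) : f ∈ Ev := by
  intro d
  obtain ⟨k, hk, hd⟩ := hN d
  have h1 := congrFun (h k hk) (k • d)
  rw [perm_apply, inv_smul_smul, hd] at h1
  exact h1.symm

theorem card_KO (hK : BoxKS) : (Nat.card KO : F3) ≠ 0 := by
  intro h
  exact hK (((ZMod.natCast_eq_zero_iff _ 3).1 h).trans (Subgroup.card_dvd_of_le KO_le_KS))

theorem fx_V (hN : BoxNeg) : Fx σV KO := by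
  intro v hv
  apply iota_injective
  have h1 : iota v ∈ Ev := even_of_fixed hN fun g hg => by rw [← iota_equiv, hv g hg]
  have h2 := od_of_even h1
  rw [od_of_odd (iota_neg v), neg_eq_zero] at h2
  rw [h2, map_zero]

theorem fx_M (hN : BoxNeg) (hK : BoxKS) : Fx σM KO :=
  fx_quo_of_mem (card_KO hK) fun _ hf => Submodule.mem_sup_left (even_of_fixed hN hf)

end Cfsg.Agent.B5591.Geo
end

-- part: B5591/LocDef
section
/-!
# S5591: the data for the local analysis at the Sylow `3`-subgroup of `NN` (interface)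
-/

set_option autoImplicit false

namespace Cfsg.Agent.B5591.Geo

open Cfsg.Agent.BabyM.Conc Cfsg.Agent.H863.BRep

/-- The subgroup generated by `Q` and the sign changes `y_k`. -/
noncomputable def R0 : Subgroup G :=
  Subgroup.closure ((QQ : Set G) ∪ {g | ∃ l ∈ [Ltr.y1, .y2, .y3, .y4, .y5, .y6, .y7, .y8, .y9, .y10], g = gE l})

theorem QQ_le_R0 : QQ ≤ R0 := fun _ h => Subgroup.subset_closure (Or.inl h)

theorem gE_mem_R0 {l : Ltr} (h : l ∈ [Ltr.y1, .y2, .y3, .y4, .y5, .y6, .y7, .y8, .y9, .y10]) : gE l ∈ R0 :=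
  Subgroup.subset_closure (Or.inr ⟨l, h, rfl⟩)

/-- The class of the triple cover of the stabiliser of `dS` does not vanish on the pair `u, v`. -/
def BoxA0 (u v : G) : Prop :=
  ∃ a : G → G → F3, Z2 (triv F3 G) (MulAction.stabilizer G dS) a ∧ pairing a u v = 1

/-- The data of the local analysis. -/
structure LocData (u v : G) where
  x1 : G
  x2 : G
  e3 : Ax
  n0 : G
  n1 : G
  k : G
  a : ℕ
  b : ℕ
  c : ℕ
  d : ℕ
  x1_3 : x1 ^ 3 = 1
  x2_3 : x2 ^ 3 = 1
  comm : x1 * x2 = x2 * x1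
  x1_mem : x1 ∈ NN
  x2_mem : x2 ∈ NN
  fix1 : x1 • e3 = e3
  fix2 : x2 • e3 = e3
  phi_ne : phi e3 ≠ 0
  hR : ∀ n ∈ NN, ∃ ρ ∈ R0, n • e3 = ρ • e3 ∨ n • e3 = neg (ρ • e3)
  n0_mem : n0 ∈ NN
  n0_1 : n0 * x1 * n0⁻¹ = x1⁻¹
  n0_2 : n0 * x2 * n0⁻¹ = x2⁻¹
  n0_phi : phi (n0 • e3) = phi e3
  n1_mem : n1 ∈ NN
  n1_1 : n1 * x1 * n1⁻¹ = x1 ^ a * x2 ^ b
  n1_2 : n1 * x2 * n1⁻¹ = x1 ^ c * x2 ^ d
  n1_det : (a : F3) * d - b * c = -1
  n1_phi : phi (n1 • e3) = -phi e3
  k_u : k * u * k⁻¹ = x1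
  k_v : k * v * k⁻¹ = x2
  k_e : k • dS = e3 ∨ k • dS = neg e3
  cover : ∀ p : Ax, ∃ g : G, g * x1 = x1 * g ∧ g * x2 = x2 * g ∧ phi (g • p) = phi p ∧
    ((∃ t ∈ R0, t • g • p = neg (g • p)) ∨
      ∃ n ∈ NN, ∃ s : G, s * x1 = x1 * s ∧ s * x2 = x2 * s ∧ phi (s • e3) = phi e3 ∧
        (g • p = n • s • e3 ∨ g • p = neg (n • s • e3)))

end Cfsg.Agent.B5591.Geo
end

-- part: B5591/CocD
section
/-!
# S5591: cocycles with values in permutation modules (part d of the cocycle library)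

`Z1.b1_perm`, `Z2.b2_perm`: a cocycle with values in the module of functions on a `G`-set is a coboundary on `K` if
its components at representatives of the `K`-orbits are coboundaries on the stabilisers.
`Z2.conj`: conjugation changes a `2`-cocycle by an explicit coboundary.
-/

set_option autoImplicit false

namespace Cfsg.Agent.B5591

open Cfsg.Agent.H863.SExt

section Conj

variable {F M G : Type*} [Field F] [AddCommGroup M] [Module F M] [Group G] {σ : G →* Module.End F M}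
  {K : Subgroup G}

/-- The cochain which measures the effect of conjugation by `k`. -/
def cjc (γ : G → G → M) (k x : G) : M := γ k x - γ (k * x * k⁻¹) k

/-- Conjugation of a `2`-cocycle. -/
theorem Z2.conj {γ : G → G → M} (h : Z2 σ K γ) {k x y : G} (hk : k ∈ K) (hx : x ∈ K) (hy : y ∈ K) :
    γ (k * x * k⁻¹) (k * y * k⁻¹) =
      σ k (γ x y) + cjc γ k (x * y) - cjc γ k x - σ (k * x * k⁻¹) (cjc γ k y) := by
  have hx' : k * x * k⁻¹ ∈ K := K.mul_mem (K.mul_mem hk hx) (K.inv_mem hk)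
  have hy' : k * y * k⁻¹ ∈ K := K.mul_mem (K.mul_mem hk hy) (K.inv_mem hk)
  have h1 := h k hk x hx y hy
  have h2 := h _ hx' k hk y hy
  have h3 := h _ hx' _ hy' k hk
  have e1 : k * x * k⁻¹ * k = k * x := by group
  have e2 : k * y * k⁻¹ * k = k * y := by group
  have e3 : k * x * k⁻¹ * (k * y * k⁻¹) = k * (x * y) * k⁻¹ := by group
  rw [e1] at h2
  rw [e2, e3] at h3
  unfold cjc
  rw [map_sub]
  have h4 : γ (k * x * k⁻¹) (k * y * k⁻¹) =
      σ (k * x * k⁻¹) (γ (k * y * k⁻¹) k) + γ (k * x * k⁻¹) (k * y) - γ (k * (x * y) * k⁻¹) k := by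
    rw [← h3]; abel
  have h5 : γ (k * x * k⁻¹) (k * y) = γ (k * x * k⁻¹) k + γ (k * x) y - σ (k * x * k⁻¹) (γ k y) := by
    rw [h2]; abel
  have h6 : γ (k * x) y = σ k (γ x y) + γ k (x * y) - γ k x := by
    rw [← h1]; abel
  rw [h4, h5, h6]
  abel

theorem Z2.cjc_one {γ : G → G → M} (h : Z2 σ K γ) {k : G} (hk : k ∈ K) : cjc γ k 1 = σ k (γ 1 1) - γ 1 1 := by
  unfold cjc
  rw [mul_one, mul_inv_cancel, h.one_right hk, h.one_left hk]

/-- Coboundaries on conjugate subgroups. -/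
theorem B2.cj {γ : G → G → M} (h : Z2 σ K γ) {A : Subgroup G} (hA : A ≤ K) (hb : B2 σ A γ) {k : G} (hk : k ∈ K) :
    B2 σ (cjS k A) γ := by
  obtain ⟨b, hb⟩ := hb
  refine ⟨fun g => σ k (b (k⁻¹ * g * k)) - cjc γ k (k⁻¹ * g * k), ?_⟩
  rintro _ ⟨x, hx, rfl⟩ _ ⟨y, hy, rfl⟩
  show γ (k * x * k⁻¹) (k * y * k⁻¹) = σ k (b (k⁻¹ * (k * x * k⁻¹) * k)) - cjc γ k (k⁻¹ * (k * x * k⁻¹) * k) +
    σ (k * x * k⁻¹) (σ k (b (k⁻¹ * (k * y * k⁻¹) * k)) - cjc γ k (k⁻¹ * (k * y * k⁻¹) * k)) -
    (σ k (b (k⁻¹ * (k * x * k⁻¹ * (k * y * k⁻¹)) * k)) - cjc γ k (k⁻¹ * (k * x * k⁻¹ * (k * y * k⁻¹)) * k))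
  have e1 : ∀ z : G, k⁻¹ * (k * z * k⁻¹) * k = z := fun z => by group
  have e2 : k⁻¹ * (k * x * k⁻¹ * (k * y * k⁻¹)) * k = x * y := by group
  have e3 : σ (k * x * k⁻¹) (σ k (b y)) = σ k (σ x (b y)) := by
    rw [← act_mul, ← act_mul, inv_mul_cancel_right]
  rw [e1, e1, e2, h.conj hk (hA hx) (hA hy), hb x hx y hy, map_sub, map_add, map_sub, e3]
  abel

end Conj

section Perm

variable {F : Type*} [Field F] {G D : Type*} [Group G] [MulAction G D] {K : Subgroup G}

theorem triv_apply (g : G) (x : F) : triv F G g x = x := rfl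

theorem z2_triv {a : G → G → F} :
    Z2 (triv F G) K a ↔ ∀ g ∈ K, ∀ h ∈ K, ∀ k ∈ K, a g h + a (g * h) k = a h k + a g (h * k) := Iff.rfl

theorem b2_triv {a : G → G → F} :
    B2 (triv F G) K a ↔ ∃ b : G → F, ∀ g ∈ K, ∀ h ∈ K, a g h = b g + b h - b (g * h) := Iff.rfl

theorem z1_perm {c : G → D → F} :
    Z1 (perm F G D) K c ↔ ∀ g ∈ K, ∀ h ∈ K, ∀ d, c (g * h) d = c g d + c h (g⁻¹ • d) :=
  ⟨fun h g hg k hk d => congrFun (h g hg k hk) d, fun h g hg k hk => funext (h g hg k hk)⟩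

theorem z2_perm {γ : G → G → D → F} :
    Z2 (perm F G D) K γ ↔
      ∀ g ∈ K, ∀ h ∈ K, ∀ k ∈ K, ∀ d, γ g h d + γ (g * h) k d = γ h k (g⁻¹ • d) + γ g (h * k) d :=
  ⟨fun h a ha b hb c hc d => congrFun (h a ha b hb c hc) d, fun h a ha b hb c hc => funext (h a ha b hb c hc)⟩

/-- The component of a cocycle at a point is a cocycle of the stabiliser. -/
theorem Z2.at {γ : G → G → D → F} (h : Z2 (perm F G D) K γ) (d : D) :
    Z2 (triv F G) (K ⊓ MulAction.stabilizer G d) (fun g k => γ g k d) := by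
  intro a ha b hb c hc
  have h1 := z2_perm.1 h a ha.1 b hb.1 c hc.1 d
  have h2 : a⁻¹ • d = d := (MulAction.stabilizer G d).inv_mem ha.2
  rw [h2] at h1
  exact h1

theorem B2.at {γ : G → G → D → F} (h : B2 (perm F G D) K γ) (d : D) :
    B2 (triv F G) (K ⊓ MulAction.stabilizer G d) (fun g k => γ g k d) := by
  obtain ⟨b, hb⟩ := h
  refine ⟨fun g => b g d, fun g hg k hk => ?_⟩
  have h1 := congrFun (hb g hg.1 k hk.1) d
  have h2 : g⁻¹ • d = d := (MulAction.stabilizer G d).inv_mem hg.2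
  have h3 : γ g k d = b g d + b k (g⁻¹ • d) - b (g * k) d := h1
  rw [h2] at h3
  exact h3

theorem Z1.at {c : G → D → F} (h : Z1 (perm F G D) K c) (d : D) {g k : G} (hg : g ∈ K) (hk : k ∈ K)
    (hd : g • d = d) : c (g * k) d = c g d + c k d := by
  have h1 := z1_perm.1 h g hg k hk d
  have h2 : g⁻¹ • d = d := (MulAction.stabilizer G d).inv_mem hd
  rwa [h2] at h1

/-- Representatives of the `K`-orbits with a given property. -/
theorem exists_reps (K : Subgroup G) (P : D → Prop) (h : ∀ d, ∃ k ∈ K, P (k • d)) :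
    ∃ (r : D → D) (κ : D → G), (∀ d, P (r d)) ∧ (∀ d, κ d ∈ K) ∧ (∀ d, κ d • r d = d) ∧
      ∀ g ∈ K, ∀ d, r (g • d) = r d := by
  choose k hk hP using h
  let q : D → MulAction.orbitRel.Quotient K D := fun d => Quotient.mk'' d
  let r : D → D := fun d => k (q d).out • (q d).out
  have h1 : ∀ d, ∃ κ ∈ K, κ • r d = d := by
    intro d
    have h2 : (MulAction.orbitRel K D).r d (q d).out := Quotient.exact' (Quotient.out_eq' (q d)).symm
    obtain ⟨g, hg⟩ := MulAction.orbitRel_apply.1 h2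
    refine ⟨g * (k (q d).out)⁻¹, K.mul_mem g.2 (K.inv_mem (hk _)), ?_⟩
    show ((g : G) * (k (q d).out)⁻¹) • (k (q d).out • (q d).out) = d
    rw [mul_smul, inv_smul_smul]
    exact hg
  choose κ hκ hκ' using h1
  refine ⟨r, κ, fun d => hP _, hκ, hκ', fun g hg d => ?_⟩
  have h3 : q (g • d) = q d := Quotient.sound' (MulAction.orbitRel_apply.2 ⟨⟨g, hg⟩, rfl⟩)
  show k (q (g • d)).out • (q (g • d)).out = k (q d).out • (q d).out
  rw [h3]

/-- **`H²` of a permutation module is local.** -/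
theorem Z2.b2_perm {γ : G → G → D → F} (hγ : Z2 (perm F G D) K γ)
    (h : ∀ d : D, ∃ k ∈ K, B2 (triv F G) (K ⊓ MulAction.stabilizer G (k • d)) (fun g g' => γ g g' (k • d))) :
    B2 (perm F G D) K γ := by
  obtain ⟨r, κ, h1, h2, h3, h4⟩ := exists_reps K
    (fun d => B2 (triv F G) (K ⊓ MulAction.stabilizer G d) (fun g g' => γ g g' d)) h
  have h1' : ∀ d, ∃ b : G → F, r d = d → ∀ g ∈ K ⊓ MulAction.stabilizer G d, ∀ k ∈ K ⊓ MulAction.stabilizer G d,
      γ g k d = b g + b k - b (g * k) := by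
    intro d
    obtain ⟨b, hb⟩ := h1 d
    exact ⟨b, fun e => by rw [e] at hb; exact hb⟩
  choose b hb using h1'
  have hr : ∀ d, (κ d)⁻¹ • d = r d := fun d => by rw [inv_smul_eq_iff, h3]
  have hrr : ∀ d, r (r d) = r d := fun d => by
    rw [← hr d, h4 _ (K.inv_mem (h2 d)), hr]
  let s : G → D → G := fun g d => (κ d)⁻¹ * g * κ (g⁻¹ • d)
  have hs : ∀ g ∈ K, ∀ d, s g d ∈ K ⊓ MulAction.stabilizer G (r d) := by
    intro g hg d
    refine ⟨K.mul_mem (K.mul_mem (K.inv_mem (h2 d)) hg) (h2 _), ?_⟩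
    show ((κ d)⁻¹ * g * κ (g⁻¹ • d)) • r d = r d
    rw [mul_smul, mul_smul, ← h4 g⁻¹ (K.inv_mem hg) d, h3, smul_inv_smul, hr, h4 g⁻¹ (K.inv_mem hg) d]
  have hγ' := z2_perm.1 hγ
  refine ⟨fun g d => b (r d) (s g d) + γ g (κ (g⁻¹ • d)) d - γ (κ d) (s g d) d, fun g hg k hk => funext fun d => ?_⟩
  show γ g k d = (b (r d) (s g d) + γ g (κ (g⁻¹ • d)) d - γ (κ d) (s g d) d) +
    (b (r (g⁻¹ • d)) (s k (g⁻¹ • d)) + γ k (κ (k⁻¹ • g⁻¹ • d)) (g⁻¹ • d) -
      γ (κ (g⁻¹ • d)) (s k (g⁻¹ • d)) (g⁻¹ • d)) -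
    (b (r d) (s (g * k) d) + γ (g * k) (κ ((g * k)⁻¹ • d)) d - γ (κ d) (s (g * k) d) d)
  have e0 : (g * k)⁻¹ • d = k⁻¹ • g⁻¹ • d := by rw [mul_inv_rev, mul_smul]
  have e1 : s (g * k) d = s g d * s k (g⁻¹ • d) := by
    show (κ d)⁻¹ * (g * k) * κ ((g * k)⁻¹ • d) =
      (κ d)⁻¹ * g * κ (g⁻¹ • d) * ((κ (g⁻¹ • d))⁻¹ * k * κ (k⁻¹ • g⁻¹ • d))
    rw [e0]
    group
  have e2 : κ (g⁻¹ • d) * s k (g⁻¹ • d) = k * κ (k⁻¹ • g⁻¹ • d) := by
    show κ (g⁻¹ • d) * ((κ (g⁻¹ • d))⁻¹ * k * κ (k⁻¹ • g⁻¹ • d)) = _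
    group
  have e3 : κ d * s g d = g * κ (g⁻¹ • d) := by
    show κ d * ((κ d)⁻¹ * g * κ (g⁻¹ • d)) = _
    group
  have e4 : r (g⁻¹ • d) = r d := h4 _ (K.inv_mem hg) d
  have s1 := hs g hg d
  have s2 := hs k hk (g⁻¹ • d)
  rw [e4] at s2
  have i0 := hb (r d) (hrr d) _ s1 _ s2
  have i1 := hγ' g hg k hk _ (h2 (k⁻¹ • g⁻¹ • d)) d
  have i2 := hγ' g hg _ (h2 (g⁻¹ • d)) _ s2.1 d
  have i3 := hγ' _ (h2 d) _ s1.1 _ s2.1 d
  rw [e2] at i2
  rw [e3, hr] at i3
  rw [e0, e1, e4]
  linear_combination i1 - i2 + i3 + i0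

theorem Z2.b2_perm' {γ : G → G → D → F} (hγ : Z2 (perm F G D) K γ)
    (h : ∀ d : D, B2 (triv F G) (K ⊓ MulAction.stabilizer G d) (fun g g' => γ g g' d)) :
    B2 (perm F G D) K γ :=
  hγ.b2_perm fun _ => ⟨1, K.one_mem, h _⟩

/-- Conjugation of the components: for `x, y` fixing `d`. -/
theorem Z2.conj_at {γ : G → G → D → F} (h : Z2 (perm F G D) K γ) {k x y : G} (hk : k ∈ K) (hx : x ∈ K)
    (hy : y ∈ K) {d : D} (hxd : x • d = d) :
    γ (k * x * k⁻¹) (k * y * k⁻¹) (k • d) =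
      γ x y d + cjc γ k (x * y) (k • d) - cjc γ k x (k • d) - cjc γ k y (k • d) := by
  have h1 := congrFun (h.conj hk hx hy) (k • d)
  have h2 : (k * x * k⁻¹)⁻¹ • k • d = k • d := by
    rw [inv_smul_eq_iff, mul_smul, mul_smul, inv_smul_smul, hxd]
  have h3 : γ (k * x * k⁻¹) (k * y * k⁻¹) (k • d) = γ x y (k⁻¹ • k • d) + cjc γ k (x * y) (k • d) -
      cjc γ k x (k • d) - cjc γ k y ((k * x * k⁻¹)⁻¹ • k • d) := h1
  rwa [inv_smul_smul, h2] at h3

end Perm

end Cfsg.Agent.B5591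
end

-- part: B5591/CocF
section
/-!
# S5591: commutator pairing and cube invariant; elementary abelian groups of order nine (part f)
-/

set_option autoImplicit false
set_option linter.unusedSectionVars false

namespace Cfsg.Agent.B5591

open Cfsg.Agent.H863.SExt

section Pairing

variable {F : Type*} [Field F] {G : Type*} [Group G] {K : Subgroup G} {a a' : G → G → F} {x y z k : G}

theorem pairing_self (a : G → G → F) (x : G) : pairing a x x = 0 := sub_self _

theorem pairing_swap (a : G → G → F) (x y : G) : pairing a y x = -pairing a x y := (neg_sub _ _).symm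

theorem pairing_add (a a' : G → G → F) (x y : G) : pairing (a + a') x y = pairing a x y + pairing a' x y := by
  simp only [pairing, Pi.add_apply]; ring

theorem pairing_sub (a a' : G → G → F) (x y : G) : pairing (a - a') x y = pairing a x y - pairing a' x y := by
  simp only [pairing, Pi.sub_apply]; ring

theorem pairing_neg (a : G → G → F) (x y : G) : pairing (-a) x y = -pairing a x y := by
  simp only [pairing, Pi.neg_apply]; ring

theorem pairing_smul (c : F) (a : G → G → F) (x y : G) : pairing (c • a) x y = c * pairing a x y := by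
  simp only [pairing, Pi.smul_apply, smul_eq_mul]; ring

theorem cube_sub (a a' : G → G → F) (x : G) : cube (a - a') x = cube a x - cube a' x := by
  simp only [cube, Pi.sub_apply]; ring

theorem cube_neg (a : G → G → F) (x : G) : cube (-a) x = -cube a x := by
  simp only [cube, Pi.neg_apply]; ring

theorem cube_smul (c : F) (a : G → G → F) (x : G) : cube (c • a) x = c * cube a x := by
  simp only [cube, Pi.smul_apply, smul_eq_mul]; ring

theorem Z2.pairing_mul_right (h : Z2 (triv F G) K a) (hx : x ∈ K) (hy : y ∈ K) (hz : z ∈ K)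
    (hxy : x * y = y * x) (hxz : x * z = z * x) : pairing a x (y * z) = pairing a x y + pairing a x z := by
  have h' := z2_triv.1 h
  have h1 := h' x hx y hy z hz
  have h2 := h' y hy x hx z hz
  have h3 := h' y hy z hz x hx
  rw [← hxy] at h2
  rw [← hxz] at h3
  unfold pairing
  linear_combination -h1 + h2 - h3

theorem Z2.pairing_mul_left (h : Z2 (triv F G) K a) (hx : x ∈ K) (hy : y ∈ K) (hz : z ∈ K)
    (hxz : x * z = z * x) (hyz : y * z = z * y) : pairing a (x * y) z = pairing a x z + pairing a y z := by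
  rw [pairing_swap, h.pairing_mul_right hz hx hy hxz.symm hyz.symm, pairing_swap a z x, pairing_swap a z y]
  ring

theorem Z2.pairing_one_right (h : Z2 (triv F G) K a) (hx : x ∈ K) : pairing a x 1 = 0 := by
  unfold pairing
  rw [h.one_right hx, h.one_left hx, triv_apply, sub_self]

theorem Z2.pairing_one_left (h : Z2 (triv F G) K a) (hx : x ∈ K) : pairing a 1 x = 0 := by
  rw [pairing_swap, h.pairing_one_right hx, neg_zero]

theorem Z2.pairing_pow_right (h : Z2 (triv F G) K a) (hx : x ∈ K) (hy : y ∈ K) (hxy : x * y = y * x) (n : ℕ) :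
    pairing a x (y ^ n) = n * pairing a x y := by
  induction n with
  | zero => rw [pow_zero, h.pairing_one_right hx, Nat.cast_zero, zero_mul]
  | succ n ih =>
    rw [pow_succ, h.pairing_mul_right hx (K.pow_mem hy n) hy (Commute.pow_right hxy n) hxy, ih]
    push_cast
    ring

theorem Z2.pairing_pow_left (h : Z2 (triv F G) K a) (hx : x ∈ K) (hy : y ∈ K) (hxy : x * y = y * x) (n : ℕ) :
    pairing a (x ^ n) y = n * pairing a x y := by
  rw [pairing_swap, h.pairing_pow_right hy hx hxy.symm, pairing_swap a y x]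
  ring

theorem B2.pairing_eq_zero (h : B2 (triv F G) K a) (hx : x ∈ K) (hy : y ∈ K) (hxy : x * y = y * x) :
    pairing a x y = 0 := by
  obtain ⟨b, hb⟩ := b2_triv.1 h
  unfold pairing
  rw [hb x hx y hy, hb y hy x hx, hxy]
  ring

theorem B2.pairing_eq (h : B2 (triv F G) K (a - a')) (hx : x ∈ K) (hy : y ∈ K) (hxy : x * y = y * x) :
    pairing a x y = pairing a' x y := by
  have h1 := h.pairing_eq_zero hx hy hxy
  rwa [pairing_sub, sub_eq_zero] at h1

theorem cube_eq_one {H : Type*} [Group H] {x : H} (hx : x ^ 3 = 1) : x * x * x = 1 := by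
  rwa [pow_succ, pow_two] at hx

theorem B2.cube_eq_zero (h3 : (3 : F) = 0) (h : B2 (triv F G) K a) (hx : x ∈ K) (hx3 : x ^ 3 = 1) :
    cube a x = 0 := by
  obtain ⟨b, hb⟩ := b2_triv.1 h
  unfold cube
  rw [hb 1 K.one_mem 1 K.one_mem, hb x hx x hx, hb _ (K.mul_mem hx hx) x hx, cube_eq_one hx3, mul_one]
  linear_combination b x * h3

theorem B2.cube_eq (h3 : (3 : F) = 0) (h : B2 (triv F G) K (a - a')) (hx : x ∈ K) (hx3 : x ^ 3 = 1) :
    cube a x = cube a' x := by
  have h1 := h.cube_eq_zero h3 hx hx3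
  rwa [cube_sub, sub_eq_zero] at h1

theorem Z2.cube_inv (h3 : (3 : F) = 0) (h : Z2 (triv F G) K a) (hx : x ∈ K) (hx3 : x ^ 3 = 1) :
    cube a x⁻¹ = -cube a x := by
  have h' := z2_triv.1 h
  have e0 := cube_eq_one hx3
  have e1 : x⁻¹ = x * x := inv_eq_of_mul_eq_one_left e0
  have e2 : x * x * (x * x) = x := by rw [← mul_assoc, e0, one_mul]
  have h1 := h' x hx x hx x hx
  have h2 := h' _ (K.mul_mem hx hx) x hx x hx
  rw [e0, h.one_left hx] at h2
  unfold cube
  rw [e1, e2]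
  linear_combination -h1 - h2 + (a 1 1 + a (x * x) x) * h3

end Pairing

/-! ### Lifting elementary abelian groups of order at most nine -/

section Nine

variable {H : Type*} [Group H]

theorem mem_zpowers_three {x y : H} (hx : x ^ 3 = 1) (hy : y ∈ Subgroup.zpowers x) :
    y = 1 ∨ y = x ∨ y = x * x := by
  obtain ⟨n, rfl⟩ := hy
  have h1 : x ^ n = x ^ (n % 3) := by
    have h2 : x ^ (3 : ℤ) = 1 := by exact_mod_cast hx
    exact zpow_eq_zpow_emod n h2
  have h3 : n % 3 = 0 ∨ n % 3 = 1 ∨ n % 3 = 2 := by omega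
  show x ^ n = 1 ∨ x ^ n = x ∨ x ^ n = x * x
  rcases h3 with h | h | h <;> rw [h1, h]
  · left; exact zpow_zero x
  · right; left; exact zpow_one x
  · right; right; exact zpow_two x

theorem mem_closure_pair_three {x y z : H} (hx : x ^ 3 = 1) (hy : y ^ 3 = 1) (hxy : x * y = y * x)
    (hz : z ∈ Subgroup.closure ({x, y} : Set H)) : ∃ i < 3, ∃ j < 3, z = x ^ i * y ^ j := by
  have hc : Commute x y := hxy
  have key : ∀ i j : ℕ, ∃ i' < 3, ∃ j' < 3, x ^ i * y ^ j = x ^ i' * y ^ j' := fun i j =>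
    ⟨i % 3, Nat.mod_lt _ (by norm_num), j % 3, Nat.mod_lt _ (by norm_num), by
      rw [← pow_eq_pow_mod i hx, ← pow_eq_pow_mod j hy]⟩
  induction hz using Subgroup.closure_induction with
  | mem w hw =>
    rcases hw with rfl | rfl
    · exact ⟨1, by norm_num, 0, by norm_num, by rw [pow_one, pow_zero, mul_one]⟩
    · exact ⟨0, by norm_num, 1, by norm_num, by rw [pow_one, pow_zero, one_mul]⟩
  | one => exact ⟨0, by norm_num, 0, by norm_num, by rw [pow_zero, pow_zero, one_mul]⟩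
  | mul u v _ _ hu hv =>
    obtain ⟨i, -, j, -, rfl⟩ := hu
    obtain ⟨i', -, j', -, rfl⟩ := hv
    have e : x ^ i * y ^ j * (x ^ i' * y ^ j') = x ^ (i + i') * y ^ (j + j') := by
      rw [pow_add, pow_add, mul_assoc, mul_assoc, ← mul_assoc (y ^ j), ← (hc.pow_pow i' j).eq, mul_assoc]
    rw [e]
    exact key _ _
  | inv u _ hu =>
    obtain ⟨i, -, j, -, rfl⟩ := hu
    have e : (x ^ i * y ^ j)⁻¹ = x ^ (2 * i) * y ^ (2 * j) := by
      apply inv_eq_of_mul_eq_one_right
      calc x ^ i * y ^ j * (x ^ (2 * i) * y ^ (2 * j)) = (x ^ i * x ^ (2 * i)) * (y ^ j * y ^ (2 * j)) := by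
            rw [mul_assoc, mul_assoc, ← mul_assoc (y ^ j), ← (hc.pow_pow (2 * i) j).eq, mul_assoc]
        _ = (x ^ 3) ^ i * (y ^ 3) ^ j := by
            rw [← pow_add, ← pow_add, ← pow_mul, ← pow_mul]
            congr 2 <;> ring
        _ = 1 := by rw [hx, hy, one_pow, one_pow, one_mul]
    rw [e]
    exact key _ _

theorem indep_three {x y : H} (hx : x ^ 3 = 1) (hy : y ^ 3 = 1) (hx1 : x ≠ 1) (hyx : y ∉ Subgroup.zpowers x)
    {i j : ℕ} (hi : i < 3) (hj : j < 3) (e : x ^ i * y ^ j = 1) : i = 0 ∧ j = 0 := by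
  have h1 : y ^ j ∈ Subgroup.zpowers x := by
    rw [eq_inv_of_mul_eq_one_right e]
    exact Subgroup.inv_mem _ (Subgroup.pow_mem _ (Subgroup.mem_zpowers x) i)
  have hj0 : j = 0 := by
    by_contra h
    apply hyx
    have h2 : j = 1 ∨ j = 2 := by omega
    rcases h2 with rfl | rfl
    · rwa [pow_one] at h1
    · have h3 := Subgroup.pow_mem _ h1 2
      rwa [← pow_mul, show 2 * 2 = 3 + 1 from rfl, pow_succ, hy, one_mul] at h3
  subst hj0
  rw [pow_zero, mul_one] at e
  refine ⟨?_, rfl⟩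
  by_contra h
  apply hx1
  have h2 : i = 1 ∨ i = 2 := by omega
  rcases h2 with rfl | rfl
  · rwa [pow_one] at e
  · rwa [pow_succ, e, one_mul] at hx

theorem closure_pair_of_mem {x y : H} (h : y ∈ Subgroup.zpowers x) :
    Subgroup.closure ({x, y} : Set H) = Subgroup.zpowers x := by
  apply le_antisymm
  · rw [Subgroup.closure_le]
    rintro _ (rfl | rfl)
    · exact Subgroup.mem_zpowers _
    · exact h
  · rw [Subgroup.zpowers_le]
    exact Subgroup.subset_closure (Set.mem_insert _ _)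

theorem pair_inj_three {x y : H} (hx : x ^ 3 = 1) (hy : y ^ 3 = 1) (hxy : x * y = y * x) (hx1 : x ≠ 1)
    (hyx : y ∉ Subgroup.zpowers x) {i j i' j' : ℕ} (e : x ^ i * y ^ j = x ^ i' * y ^ j') :
    i % 3 = i' % 3 ∧ j % 3 = j' % 3 := by
  have hc : Commute x y := hxy
  have hmul : ∀ i j i' j' : ℕ, x ^ i * y ^ j * (x ^ i' * y ^ j') = x ^ (i + i') * y ^ (j + j') := by
    intro i j i' j'
    rw [pow_add, pow_add, mul_assoc, mul_assoc, ← mul_assoc (y ^ j), ← (hc.pow_pow i' j).eq, mul_assoc]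
  have e2 : x ^ ((i + 2 * i') % 3) * y ^ ((j + 2 * j') % 3) = 1 := by
    rw [← pow_eq_pow_mod _ hx, ← pow_eq_pow_mod _ hy, ← hmul, e, hmul]
    rw [show i' + 2 * i' = 3 * i' by ring, show j' + 2 * j' = 3 * j' by ring, pow_mul, pow_mul, hx, hy,
      one_pow, one_pow, one_mul]
  obtain ⟨e3, e4⟩ := indep_three hx hy hx1 hyx (Nat.mod_lt _ (by norm_num)) (Nat.mod_lt _ (by norm_num)) e2
  (clear * - e3 e4; solve | lia | omega)

/-- The order from independence. -/
theorem card_of_indep {x y : H} (hx : x ^ 3 = 1) (hy : y ^ 3 = 1) (hxy : x * y = y * x) (hx1 : x ≠ 1)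
    (hyx : y ∉ Subgroup.zpowers x) : Nat.card (Subgroup.closure ({x, y} : Set H)) = 9 := by
  have hxK : x ∈ Subgroup.closure ({x, y} : Set H) := Subgroup.subset_closure (Set.mem_insert _ _)
  have hyK : y ∈ Subgroup.closure ({x, y} : Set H) := Subgroup.subset_closure (Set.mem_insert_of_mem _ rfl)
  have hm : ∀ i j : ℕ, x ^ i * y ^ j ∈ Subgroup.closure ({x, y} : Set H) := fun i j =>
    Subgroup.mul_mem _ (Subgroup.pow_mem _ hxK i) (Subgroup.pow_mem _ hyK j)
  have hf : Function.Bijective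
      (fun p : Fin 3 × Fin 3 => (⟨x ^ p.1.1 * y ^ p.2.1, hm _ _⟩ : Subgroup.closure ({x, y} : Set H))) := by
    constructor
    · intro p q e
      have e1 : x ^ p.1.1 * y ^ p.2.1 = x ^ q.1.1 * y ^ q.2.1 := Subtype.ext_iff.1 e
      obtain ⟨e3, e4⟩ := pair_inj_three hx hy hxy hx1 hyx e1
      rw [Nat.mod_eq_of_lt p.1.2, Nat.mod_eq_of_lt q.1.2] at e3
      rw [Nat.mod_eq_of_lt p.2.2, Nat.mod_eq_of_lt q.2.2] at e4
      exact Prod.ext (Fin.ext e3) (Fin.ext e4)
    · intro z
      obtain ⟨i, hi, j, hj, e⟩ := mem_closure_pair_three hx hy hxy z.2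
      exact ⟨(⟨i, hi⟩, ⟨j, hj⟩), Subtype.ext e.symm⟩
  have h1 := Nat.card_eq_of_bijective _ hf
  rw [Nat.card_prod, Nat.card_fin] at h1
  exact h1.symm

variable {F M G : Type*} [Field F] [AddCommGroup M] [Module F M] [Group G] {σ : G →* Module.End F M}
  {E : Type*} [Group E] {X : _root_.Cfsg.Agent.H863.SExt.Ext σ E}

theorem spl_of_cube {x : E} (hx : x ^ 3 = 1) : Spl X (Subgroup.zpowers (X.π x)) := by
  by_cases h1 : X.π x = 1
  · rw [h1, Subgroup.zpowers_one_eq_bot]
    exact ⟨⊥, isLift_bot⟩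
  · refine ⟨Subgroup.zpowers x, fun y hy e => ?_, MonoidHom.map_zpowers _ _⟩
    rcases mem_zpowers_three hx hy with h | h | h
    · exact h
    · rw [h] at e
      exact absurd e h1
    · exfalso
      apply h1
      have h2 := congrArg X.π (cube_eq_one hx)
      rw [map_mul, ← h, e, one_mul, map_one] at h2
      exact h2

/-- Commuting lifts of order three give a splitting. -/
theorem spl_of_pair {x y : E} (hx : x ^ 3 = 1) (hy : y ^ 3 = 1) (hxy : x * y = y * x) :
    Spl X (Subgroup.closure ({X.π x, X.π y} : Set G)) := by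
  by_cases h1 : X.π y ∈ Subgroup.zpowers (X.π x)
  · rw [closure_pair_of_mem h1]
    exact spl_of_cube hx
  by_cases h2 : X.π x = 1
  · rw [Set.pair_comm, closure_pair_of_mem (by rw [h2]; exact Subgroup.one_mem _)]
    exact spl_of_cube hy
  refine ⟨Subgroup.closure {x, y}, fun z hz e => ?_, ?_⟩
  · obtain ⟨i, hi, j, hj, rfl⟩ := mem_closure_pair_three hx hy hxy hz
    rw [map_mul, map_pow, map_pow] at e
    obtain ⟨rfl, rfl⟩ := indep_three (by rw [← map_pow, hx, map_one]) (by rw [← map_pow, hy, map_one]) h2 h1 hi hj e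
    rw [pow_zero, pow_zero, one_mul]
  · rw [MonoidHom.map_closure, Set.image_pair]

/-- The commutator of two lifts. -/
theorem IsCoc.comm {t : G → E} {γ : G → G → M} (h : IsCoc X t γ) {x y : G} (hxy : x * y = y * x) :
    t x * t y = X.j (γ x y - γ y x) * (t y * t x) := by
  rw [h.2, h.2, ← hxy, ← mul_assoc, ← X.j_add, sub_add_cancel]

/-- The cube of a lift. -/
theorem IsCoc.cube_eq {t : G → E} {γ : G → G → M} (h : IsCoc X t γ) {x : G} (hx : x ^ 3 = 1) :
    t x ^ 3 = X.j (γ 1 1 + γ x x + γ (x * x) x) := by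
  rw [pow_succ, pow_two, h.2, mul_assoc, h.2, cube_eq_one hx, h.one, ← X.j_add, ← X.j_add]
  congr 1
  abel

/-- Transfer of coboundaries from the subgroup as a group. -/
theorem B2.of_subtype {K : Subgroup G} {γ : G → G → M}
    (h : B2 (σ.comp K.subtype) ⊤ (fun x y : K => γ x y)) : B2 σ K γ := by
  classical
  obtain ⟨b, hb⟩ := h
  refine ⟨fun g => if hg : g ∈ K then b ⟨g, hg⟩ else 0, fun g hg k hk => ?_⟩
  simp only [dif_pos hg, dif_pos hk, dif_pos (K.mul_mem hg hk)]
  exact hb ⟨g, hg⟩ trivial ⟨k, hk⟩ trivial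

theorem Z2.subtype {K : Subgroup G} {γ : G → G → M} (h : Z2 σ K γ) :
    Z2 (σ.comp K.subtype) ⊤ (fun x y : K => γ x y) := h.comap K.subtype fun x _ => x.2

theorem B2.subtype {K : Subgroup G} {γ : G → G → M} (h : B2 σ K γ) :
    B2 (σ.comp K.subtype) ⊤ (fun x y : K => γ x y) := h.comap K.subtype fun x _ => x.2

/-- A cocycle on `⟨x, y⟩ ≤ 3²` with trivial commutator and trivial cubes is a coboundary (any module). -/
theorem Z2.b2_pair {x y : G} {γ : G → G → M} (h : Z2 σ (Subgroup.closure {x, y}) γ) (hx : x ^ 3 = 1)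
    (hy : y ^ 3 = 1) (hxy : x * y = y * x) (h1 : γ x y = γ y x) (h2 : γ 1 1 + γ x x + γ (x * x) x = 0)
    (h3 : γ 1 1 + γ y y + γ (y * y) y = 0) : B2 σ (Subgroup.closure {x, y}) γ := by
  apply B2.of_subtype
  set K : Subgroup G := Subgroup.closure {x, y} with hK
  have hxK : x ∈ K := Subgroup.subset_closure (Set.mem_insert _ _)
  have hyK : y ∈ K := Subgroup.subset_closure (Set.mem_insert_of_mem _ rfl)
  have hc := isCoc_tw h.subtype
  have e1 := hc.cube_eq (x := ⟨x, hxK⟩) (Subtype.ext hx)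
  have e2 := hc.cube_eq (x := ⟨y, hyK⟩) (Subtype.ext hy)
  have e3 := hc.comm (x := ⟨x, hxK⟩) (y := ⟨y, hyK⟩) (Subtype.ext hxy)
  have z1 : γ ((1 : K) : G) ((1 : K) : G) + γ x x + γ ((⟨x, hxK⟩ * ⟨x, hxK⟩ : K) : G) x = 0 := h2
  have z2 : γ ((1 : K) : G) ((1 : K) : G) + γ y y + γ ((⟨y, hyK⟩ * ⟨y, hyK⟩ : K) : G) y = 0 := h3
  simp only [z1, Ext.j_zero] at e1
  simp only [z2, Ext.j_zero] at e2
  simp only [h1, sub_self, Ext.j_zero, one_mul] at e3
  have h4 := spl_of_pair (X := twExt h.subtype) e1 e2 e3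
  rw [hc.1, hc.1, hc.spl_iff] at h4
  have h5 : Subgroup.closure ({⟨x, hxK⟩, ⟨y, hyK⟩} : Set K) = ⊤ := by
    apply Subgroup.map_injective K.subtype_injective
    rw [MonoidHom.map_closure, Set.image_pair, ← MonoidHom.range_eq_map, Subgroup.range_subtype]
    rfl
  rwa [h5] at h4

/-- A cocycle on a cyclic group of order three with trivial cube is a coboundary (any module). -/
theorem Z2.b2_zpowers {x : G} {γ : G → G → M} (h : Z2 σ (Subgroup.zpowers x) γ) (hx : x ^ 3 = 1)
    (h2 : γ 1 1 + γ x x + γ (x * x) x = 0) : B2 σ (Subgroup.zpowers x) γ := by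
  have e := closure_pair_of_mem (Subgroup.mem_zpowers x)
  rw [← e] at h ⊢
  exact h.b2_pair hx hx rfl rfl h2 h2

end Nine

section Triv

variable {F : Type*} [Field F] {G : Type*} [Group G] {a : G → G → F} {x y : G}

/-- **The invariants on `3²` are complete.** -/
theorem Z2.b2_iff_pair (h3 : (3 : F) = 0) (h : Z2 (triv F G) (Subgroup.closure {x, y}) a) (hx : x ^ 3 = 1)
    (hy : y ^ 3 = 1) (hxy : x * y = y * x) :
    B2 (triv F G) (Subgroup.closure {x, y}) a ↔ pairing a x y = 0 ∧ cube a x = 0 ∧ cube a y = 0 := by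
  have hxK : x ∈ Subgroup.closure ({x, y} : Set G) := Subgroup.subset_closure (Set.mem_insert _ _)
  have hyK : y ∈ Subgroup.closure ({x, y} : Set G) := Subgroup.subset_closure (Set.mem_insert_of_mem _ rfl)
  constructor
  · exact fun hb => ⟨hb.pairing_eq_zero hxK hyK hxy, hb.cube_eq_zero h3 hxK hx, hb.cube_eq_zero h3 hyK hy⟩
  · rintro ⟨h1, h2, h4⟩
    exact h.b2_pair hx hy hxy (sub_eq_zero.1 h1) h2 h4

theorem Z2.b2_iff_zpowers (h3 : (3 : F) = 0) (h : Z2 (triv F G) (Subgroup.zpowers x) a) (hx : x ^ 3 = 1) :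
    B2 (triv F G) (Subgroup.zpowers x) a ↔ cube a x = 0 :=
  ⟨fun hb => hb.cube_eq_zero h3 (Subgroup.mem_zpowers x) hx, fun h2 => h.b2_zpowers hx h2⟩

/-- Coordinates on `3²`. -/
theorem exists_coord (hx : x ^ 3 = 1) (hy : y ^ 3 = 1) (hxy : x * y = y * x) (hx1 : x ≠ 1)
    (hyx : y ∉ Subgroup.zpowers x) :
    ∃ α β : G → ZMod 3, (∀ i j : ℕ, α (x ^ i * y ^ j) = i ∧ β (x ^ i * y ^ j) = j) ∧
      ∀ g ∈ Subgroup.closure ({x, y} : Set G), ∀ h ∈ Subgroup.closure ({x, y} : Set G),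
        α (g * h) = α g + α h ∧ β (g * h) = β g + β h := by
  classical
  have hc : Commute x y := hxy
  have hmul : ∀ i j i' j' : ℕ, x ^ i * y ^ j * (x ^ i' * y ^ j') = x ^ (i + i') * y ^ (j + j') := by
    intro i j i' j'
    rw [pow_add, pow_add, mul_assoc, mul_assoc, ← mul_assoc (y ^ j), ← (hc.pow_pow i' j).eq, mul_assoc]
  have hinj : ∀ i j i' j' : ℕ, x ^ i * y ^ j = x ^ i' * y ^ j' →
      ((i : ZMod 3) = (i' : ZMod 3)) ∧ ((j : ZMod 3) = (j' : ZMod 3)) := by
    intro i j i' j' e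
    rw [ZMod.natCast_eq_natCast_iff', ZMod.natCast_eq_natCast_iff']
    exact pair_inj_three hx hy hxy hx1 hyx e
  have h1 : ∀ g : G, ∃ p : ZMod 3 × ZMod 3, ∀ i j : ℕ, g = x ^ i * y ^ j → p.1 = i ∧ p.2 = j := by
    intro g
    by_cases hg : ∃ i j : ℕ, g = x ^ i * y ^ j
    · obtain ⟨i, j, rfl⟩ := hg
      exact ⟨(i, j), fun i' j' e => hinj i j i' j' e⟩
    · exact ⟨(0, 0), fun i j e => absurd ⟨i, j, e⟩ hg⟩
  choose p hp using h1
  refine ⟨fun g => (p g).1, fun g => (p g).2, fun i j => hp _ i j rfl, fun g hg h hh => ?_⟩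
  obtain ⟨i, -, j, -, rfl⟩ := mem_closure_pair_three hx hy hxy hg
  obtain ⟨i', -, j', -, rfl⟩ := mem_closure_pair_three hx hy hxy hh
  have h2 := hp _ _ _ (hmul i j i' j')
  have h3 := hp _ i j rfl
  have h4 := hp _ i' j' rfl
  simp only [h2.1, h2.2, h3.1, h3.2, h4.1, h4.2, Nat.cast_add, and_self]

/-- **The Heisenberg cocycle.** -/
theorem exists_heis (hx : x ^ 3 = 1) (hy : y ^ 3 = 1) (hxy : x * y = y * x) (hx1 : x ≠ 1)
    (hyx : y ∉ Subgroup.zpowers x) :
    ∃ θ : G → G → ZMod 3, Z2 (triv (ZMod 3) G) (Subgroup.closure {x, y}) θ ∧ pairing θ x y = 1 ∧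
      ∀ g ∈ Subgroup.closure ({x, y} : Set G), cube θ g = 0 := by
  obtain ⟨α, β, h1, h2⟩ := exists_coord hx hy hxy hx1 hyx
  refine ⟨fun g h => α g * β h, ?_, ?_, ?_⟩
  · rw [z2_triv]
    intro g hg h hh k hk
    rw [(h2 g hg h hh).1, (h2 h hh k hk).2]
    ring
  · have e1 := h1 1 0
    have e2 := h1 0 1
    rw [pow_one, pow_zero, mul_one] at e1
    rw [pow_one, pow_zero, one_mul] at e2
    show α x * β y - α y * β x = 1
    rw [e1.1, e1.2, e2.1, e2.2]
    simp
  · intro g hg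
    have e1 := h1 0 0
    rw [pow_zero, pow_zero, mul_one] at e1
    show α 1 * β 1 + α g * β g + α (g * g) * β g = 0
    rw [e1.1, (h2 g hg g hg).1]
    have h3 : (3 : ZMod 3) = 0 := rfl
    linear_combination (α g * β g) * h3

end Triv

end Cfsg.Agent.B5591
end

-- part: B5591/CocE
section
/-!
# S5591: the Shapiro cocycle (part e of the cocycle library)

For a transitive `G`-set `D`, a point `d₀` with stabiliser `Y` and a `2`-cocycle `a` of `Y` with trivial coefficients:
a `2`-cocycle of `G` with values in the functions on `D` whose component at `d₀` is `a`.  Invariants of the components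
at the other points; components under conjugation.
-/

set_option autoImplicit false

namespace Cfsg.Agent.B5591

variable {F : Type*} [Field F] {G D : Type*} [Group G] [MulAction G D] {K : Subgroup G}

/-- The pairing of the components of a cocycle is invariant under `K`. -/
theorem Z2.pairing_at_conj {γ : G → G → D → F} (h : Z2 (perm F G D) K γ) {k x y : G} (hk : k ∈ K) (hx : x ∈ K)
    (hy : y ∈ K) (hxy : x * y = y * x) {d : D} (hxd : x • d = d) (hyd : y • d = d) :
    pairing (fun g g' => γ g g' (k • d)) (k * x * k⁻¹) (k * y * k⁻¹) = pairing (fun g g' => γ g g' d) x y := by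
  show γ (k * x * k⁻¹) (k * y * k⁻¹) (k • d) - γ (k * y * k⁻¹) (k * x * k⁻¹) (k • d) = γ x y d - γ y x d
  rw [h.conj_at hk hx hy hxd, h.conj_at hk hy hx hyd, hxy]
  ring

/-- The cube invariant of the components of a cocycle is invariant under `K`. -/
theorem Z2.cube_at_conj (h3 : (3 : F) = 0) {γ : G → G → D → F} (h : Z2 (perm F G D) K γ) {k x : G} (hk : k ∈ K)
    (hx : x ∈ K) (hx3 : x ^ 3 = 1) {d : D} (hxd : x • d = d) :
    cube (fun g g' => γ g g' (k • d)) (k * x * k⁻¹) = cube (fun g g' => γ g g' d) x := by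
  show γ 1 1 (k • d) + γ (k * x * k⁻¹) (k * x * k⁻¹) (k • d) +
    γ (k * x * k⁻¹ * (k * x * k⁻¹)) (k * x * k⁻¹) (k • d) = γ 1 1 d + γ x x d + γ (x * x) x d
  have e : k * x * k⁻¹ * (k * x * k⁻¹) = k * (x * x) * k⁻¹ := by group
  have h1 : cjc γ k 1 (k • d) = γ 1 1 (k⁻¹ • k • d) - γ 1 1 (k • d) := congrFun (h.cjc_one hk) (k • d)
  have hxx : (x * x) • d = d := by rw [mul_smul, hxd, hxd]
  rw [inv_smul_smul] at h1
  rw [e, h.conj_at hk (K.mul_mem hx hx) hx hxx, h.conj_at hk hx hx hxd, cube_eq_one hx3, h1]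
  linear_combination (-cjc γ k x (k • d)) * h3

/-- **The Shapiro cocycle.** -/
theorem exists_shapiro₀ (d₀ : D) (htr : ∀ d : D, ∃ g : G, g • d₀ = d) {Y : Subgroup G}
    (hY : Y = MulAction.stabilizer G d₀) {a : Y → Y → F} (ha : Z2 (triv F Y) ⊤ a) :
    ∃ γ : G → G → D → F, Z2 (perm F G D) ⊤ γ ∧ ∀ x y : Y, γ x y d₀ = a x y := by
  classical
  subst hY
  have h1 : ∀ d : D, ∃ g : G, g • d₀ = d ∧ (d = d₀ → g = 1) := by
    intro d
    by_cases hd : d = d₀
    · exact ⟨1, by rw [one_smul, hd], fun _ => rfl⟩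
    · obtain ⟨g, hg⟩ := htr d
      exact ⟨g, hg, fun h => absurd h hd⟩
  choose κ hκ hκ₀ using h1
  have hs : ∀ (g : G) (d : D), (κ d)⁻¹ * g * κ (g⁻¹ • d) ∈ MulAction.stabilizer G d₀ := by
    intro g d
    show ((κ d)⁻¹ * g * κ (g⁻¹ • d)) • d₀ = d₀
    rw [mul_smul, mul_smul, hκ, smul_inv_smul, inv_smul_eq_iff, hκ]
  let s : G → D → MulAction.stabilizer G d₀ := fun g d => ⟨_, hs g d⟩
  have hmul : ∀ (g h : G) (d : D), s (g * h) d = s g d * s h (g⁻¹ • d) := by
    intro g h d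
    apply Subtype.ext
    show (κ d)⁻¹ * (g * h) * κ ((g * h)⁻¹ • d) =
      (κ d)⁻¹ * g * κ (g⁻¹ • d) * ((κ (g⁻¹ • d))⁻¹ * h * κ (h⁻¹ • g⁻¹ • d))
    rw [mul_inv_rev, mul_smul]
    group
  refine ⟨fun g h d => a (s g d) (s h (g⁻¹ • d)), ?_, fun x y => ?_⟩
  · rw [z2_perm]
    intro g _ h _ k _ d
    have e0 : (g * h)⁻¹ • d = h⁻¹ • g⁻¹ • d := by rw [mul_inv_rev, mul_smul]
    rw [hmul g h, hmul h k, e0]
    exact z2_triv.1 ha _ trivial _ trivial _ trivial
  · have h2 : ∀ x : MulAction.stabilizer G d₀, (x : G)⁻¹ • d₀ = d₀ := fun x =>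
      (MulAction.stabilizer G d₀).inv_mem x.2
    have h3 : ∀ x : MulAction.stabilizer G d₀, s x d₀ = x := by
      intro x
      apply Subtype.ext
      show (κ d₀)⁻¹ * x * κ ((x : G)⁻¹ • d₀) = x
      rw [h2, hκ₀ d₀ rfl, inv_one, one_mul, mul_one]
    show a (s x d₀) (s y ((x : G)⁻¹ • d₀)) = a x y
    rw [h2, h3, h3]

/-- The Shapiro cocycle with the invariants of all components. -/
theorem exists_shapiro (h3 : (3 : F) = 0) (d₀ : D) (htr : ∀ d : D, ∃ g : G, g • d₀ = d) {Y : Subgroup G}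
    (hY : Y = MulAction.stabilizer G d₀) {a : Y → Y → F} (ha : Z2 (triv F Y) ⊤ a) :
    ∃ γ : G → G → D → F, Z2 (perm F G D) ⊤ γ ∧ (∀ x y : Y, γ x y d₀ = a x y) ∧
      (∀ (g₀ : G) (x y : Y), x * y = y * x →
        pairing (fun g h => γ g h (g₀ • d₀)) (g₀ * x * g₀⁻¹) (g₀ * y * g₀⁻¹) = pairing a x y) ∧
      (∀ (g₀ : G) (x : Y), x ^ 3 = 1 → cube (fun g h => γ g h (g₀ • d₀)) (g₀ * x * g₀⁻¹) = cube a x) ∧
      B2 (triv F Y) ⊤ ((fun x y : Y => γ x y d₀) - a) := by
  obtain ⟨γ, h1, h2⟩ := exists_shapiro₀ d₀ htr hY ha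
  have hfix : ∀ x : Y, (x : G) • d₀ = d₀ := fun x => hY.le x.2
  refine ⟨γ, h1, h2, fun g₀ x y hxy => ?_, fun g₀ x hx => ?_, ?_⟩
  · rw [h1.pairing_at_conj (Subgroup.mem_top g₀) (Subgroup.mem_top _) (Subgroup.mem_top _)
      (congrArg Subtype.val hxy) (hfix x) (hfix y)]
    show γ x y d₀ - γ y x d₀ = a x y - a y x
    rw [h2, h2]
  · rw [h1.cube_at_conj h3 (Subgroup.mem_top g₀) (Subgroup.mem_top _) (congrArg Subtype.val hx) (hfix x)]
    show γ ((1 : Y) : G) ((1 : Y) : G) d₀ + γ x x d₀ + γ ((x * x : Y) : G) x d₀ = a 1 1 + a x x + a (x * x) x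
    rw [h2, h2, h2]
  · have e : ((fun x y : Y => γ x y d₀) - a) = 0 := by
      funext x y
      show γ x y d₀ - a x y = 0
      rw [h2, sub_self]
    rw [e]
    exact B2.zero

end Cfsg.Agent.B5591
end

-- part: B5591/LocAbs
section
/-!
# S5591: the local analysis of an odd cocycle at a Sylow `3`-subgroup of order nine (box LocAbs)
-/

set_option autoImplicit false
set_option linter.unusedSectionVars false

namespace Cfsg.Agent.B5591

section Fix

variable {G D : Type*} [Group G] [Finite G] [MulAction G D]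

/-- Coprime action: a transporter can be chosen centralising a `3`-group. -/
theorem exists_cent_transporter {B R : Subgroup G} (hB : IsPGroup 3 B) (hR : ¬ 3 ∣ Nat.card R)
    (hn : B ≤ Subgroup.normalizer (R : Set G)) {d d' : D} (hd : ∀ b ∈ B, b • d = d) (hd' : ∀ b ∈ B, b • d' = d')
    {ρ : G} (hρ : ρ ∈ R) (e : ρ • d = d') : ∃ τ ∈ R, τ • d = d' ∧ ∀ b ∈ B, b * τ = τ * b := by
  let S : Type _ := {τ : G // τ ∈ R ∧ τ • d = d'}
  let act : MulAction B S :=
    { smul := fun b τ => ⟨b * τ.1 * (b : G)⁻¹, (Subgroup.mem_normalizer_iff.1 (hn b.2) _).1 τ.2.1, by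
        rw [mul_smul, mul_smul, hd _ (B.inv_mem b.2), τ.2.2, hd' _ b.2]⟩
      one_smul := fun τ => Subtype.ext (by
        show ((1 : B) : G) * τ.1 * ((1 : B) : G)⁻¹ = τ.1
        simp only [_root_.OneMemClass.coe_one, _root_.one_mul, _root_.inv_one, _root_.mul_one])
      mul_smul := fun a b τ => Subtype.ext (by
        show ((a * b : B) : G) * τ.1 * ((a * b : B) : G)⁻¹ = a * (b * τ.1 * (b : G)⁻¹) * (a : G)⁻¹
        rw [Subgroup.coe_mul]
        group) }
  have hc : Nat.card S = Nat.card (R ⊓ MulAction.stabilizer G d : Subgroup G) := by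
    apply Nat.card_congr
    refine ⟨fun τ => ⟨ρ⁻¹ * τ.1, R.mul_mem (R.inv_mem hρ) τ.2.1, ?_⟩,
      fun τ => ⟨ρ * τ.1, R.mul_mem hρ τ.2.1, ?_⟩, fun τ => Subtype.ext ?_, fun τ => Subtype.ext ?_⟩
    · show (ρ⁻¹ * τ.1) • d = d
      rw [mul_smul, τ.2.2, ← e, inv_smul_smul]
    · have h1 : τ.1 • d = d := τ.2.2
      rw [mul_smul, h1, e]
    · exact mul_inv_cancel_left ρ τ.1
    · exact inv_mul_cancel_left ρ τ.1
  have : Fact (Nat.Prime 3) := ⟨Nat.prime_three⟩
  obtain ⟨τ, hτ⟩ := hB.nonempty_fixed_point_of_prime_not_dvd_card S (by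
    rw [hc]
    exact fun h => hR (h.trans (Subgroup.card_dvd_of_le inf_le_left)))
  refine ⟨τ.1, τ.2.1, τ.2.2, fun b hb => ?_⟩
  have h1 : b * τ.1 * b⁻¹ = τ.1 := congrArg Subtype.val (hτ ⟨b, hb⟩)
  rw [← mul_inv_eq_iff_eq_mul]
  exact h1

/-- A `3`-subgroup is conjugate into a subgroup of index prime to three. -/
theorem exists_conj_into {B A H : Subgroup G} (hB : IsPGroup 3 B) (hBH : B ≤ H) (hi : ¬ 3 ∣ A.relIndex H) :
    ∃ m ∈ H, ∀ b ∈ B, m⁻¹ * b * m ∈ A := by
  let act : MulAction B (H ⧸ A.subgroupOf H) := MulAction.compHom _ (Subgroup.inclusion hBH)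
  have : Fact (Nat.Prime 3) := ⟨Nat.prime_three⟩
  obtain ⟨q, hq⟩ := hB.nonempty_fixed_point_of_prime_not_dvd_card (H ⧸ A.subgroupOf H) hi
  obtain ⟨m, rfl⟩ := QuotientGroup.mk_surjective q
  refine ⟨m, m.2, fun b hb => ?_⟩
  have h1 : (QuotientGroup.mk ((⟨b, hBH hb⟩ : H) * m) : H ⧸ A.subgroupOf H) = QuotientGroup.mk m := hq ⟨b, hb⟩
  have h2 := QuotientGroup.eq.1 h1.symm
  rw [Subgroup.mem_subgroupOf] at h2
  rw [mul_assoc]
  exact h2

end Fix

theorem Z2.pairing_det {F : Type*} [Field F] {G : Type*} [Group G] {K : Subgroup G} {γ : G → G → F} {x y : G}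
    (h : Z2 (triv F G) K γ) (hx : x ∈ K) (hy : y ∈ K) (hxy : x * y = y * x) (a b c d : ℕ) :
    pairing γ (x ^ a * y ^ b) (x ^ c * y ^ d) = ((a : F) * d - b * c) * pairing γ x y := by
  have C : Commute x y := hxy
  have hw : x ^ c * y ^ d ∈ K := K.mul_mem (K.pow_mem hx c) (K.pow_mem hy d)
  have c1 : Commute x (x ^ c * y ^ d) := (Commute.self_pow x c).mul_right (C.pow_right d)
  have c2 : Commute y (x ^ c * y ^ d) := (C.symm.pow_right c).mul_right (Commute.self_pow y d)
  rw [h.pairing_mul_left (K.pow_mem hx a) (K.pow_mem hy b) hw (c1.pow_left a) (c2.pow_left b),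
    h.pairing_pow_left hx hw c1, h.pairing_pow_left hy hw c2,
    h.pairing_mul_right hx (K.pow_mem hx c) (K.pow_mem hy d) (Commute.self_pow x c) (C.pow_right d),
    h.pairing_mul_right hy (K.pow_mem hx c) (K.pow_mem hy d) (C.symm.pow_right c) (Commute.self_pow y d),
    h.pairing_pow_right hx hx rfl, h.pairing_pow_right hx hy hxy, h.pairing_pow_right hy hx hxy.symm,
    h.pairing_pow_right hy hy rfl, pairing_self, pairing_self, pairing_swap γ x y]
  ring

theorem eq_zero_of_eq_neg3 {a : ZMod 3} (h : a = -a) : a = 0 := by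
  revert a
  decide

/-- The abstract data of the local analysis. -/
structure Loc (G D : Type*) [Group G] [MulAction G D] where
  ν : D → D
  φ : D → ZMod 3
  N : Subgroup G
  R : Subgroup G
  x1 : G
  x2 : G
  e3 : D
  n0 : G
  ν_smul : ∀ (g : G) (d : D), g • ν d = ν (g • d)
  ν_ν : ∀ d, ν (ν d) = d
  φ_ν : ∀ d, φ (ν d) = -φ d
  N27 : ¬ 27 ∣ Nat.card N
  R3 : ¬ 3 ∣ Nat.card R
  NR : N ≤ Subgroup.normalizer (R : Set G)
  φ_R : ∀ ρ ∈ R, ∀ d, φ (ρ • d) = φ d
  φ_N : ∀ n ∈ N, (∀ d, φ (n • d) = φ d) ∨ ∀ d, φ (n • d) = -φ d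
  x1_3 : x1 ^ 3 = 1
  x2_3 : x2 ^ 3 = 1
  comm : x1 * x2 = x2 * x1
  x1_ne : x1 ≠ 1
  x2_not : x2 ∉ Subgroup.zpowers x1
  x1_mem : x1 ∈ N
  x2_mem : x2 ∈ N
  fix1 : x1 • e3 = e3
  fix2 : x2 • e3 = e3
  φ_ne : φ e3 ≠ 0
  hR : ∀ n ∈ N, ∃ ρ ∈ R, n • e3 = ρ • e3 ∨ n • e3 = ν (ρ • e3)
  n0_mem : n0 ∈ N
  n0_1 : n0 * x1 * n0⁻¹ = x1⁻¹
  n0_2 : n0 * x2 * n0⁻¹ = x2⁻¹
  n0_φ : φ (n0 • e3) = φ e3
  cover : ∀ p : D, ∃ g : G, g * x1 = x1 * g ∧ g * x2 = x2 * g ∧ φ (g • p) = φ p ∧
    ((∃ t ∈ R, t • g • p = ν (g • p)) ∨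
      ∃ n ∈ N, ∃ s : G, s * x1 = x1 * s ∧ s * x2 = x2 * s ∧ φ (s • e3) = φ e3 ∧
        (g • p = n • s • e3 ∨ g • p = ν (n • s • e3)))

namespace Loc

variable {G D : Type*} [Group G] [Finite G] [MulAction G D] (L : Loc G D)

/-- The group of order nine. -/
def A : Subgroup G := Subgroup.closure {L.x1, L.x2}

theorem x1_A : L.x1 ∈ L.A := Subgroup.subset_closure (Set.mem_insert _ _)

theorem x2_A : L.x2 ∈ L.A := Subgroup.subset_closure (Set.mem_insert_of_mem _ rfl)

theorem card_A : Nat.card L.A = 9 := card_of_indep L.x1_3 L.x2_3 L.comm L.x1_ne L.x2_not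

theorem A_p : IsPGroup 3 L.A := IsPGroup.of_card (n := 2) L.card_A

theorem A_le {H : Subgroup G} (h1 : L.x1 ∈ H) (h2 : L.x2 ∈ H) : L.A ≤ H := by
  unfold A
  rw [Subgroup.closure_le]
  rintro t (rfl | rfl)
  exacts [h1, h2]

theorem A_le_N : L.A ≤ L.N := L.A_le L.x1_mem L.x2_mem

theorem A_fix {d : D} (h1 : L.x1 • d = d) (h2 : L.x2 • d = d) {x : G} (hx : x ∈ L.A) : x • d = d :=
  L.A_le (H := MulAction.stabilizer G d) h1 h2 hx

theorem A_e3 {x : G} (hx : x ∈ L.A) : x • L.e3 = L.e3 := L.A_fix L.fix1 L.fix2 hx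

theorem A_cent {g : G} (h1 : g * L.x1 = L.x1 * g) (h2 : g * L.x2 = L.x2 * g) {x : G} (hx : x ∈ L.A) :
    g * x = x * g := by
  have h := L.A_le (H := Subgroup.centralizer {g}) (Subgroup.mem_centralizer_singleton_iff.2 h1.symm)
    (Subgroup.mem_centralizer_singleton_iff.2 h2.symm) hx
  exact (Subgroup.mem_centralizer_singleton_iff.1 h).symm

theorem A_comm {x y : G} (hx : x ∈ L.A) (hy : y ∈ L.A) : x * y = y * x :=
  L.A_cent (L.A_cent rfl L.comm hx).symm (L.A_cent L.comm.symm rfl hx).symm hy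

theorem A_cube {x : G} (hx : x ∈ L.A) : x ^ 3 = 1 := by
  obtain ⟨i, -, j, -, rfl⟩ := mem_closure_pair_three L.x1_3 L.x2_3 L.comm hx
  have C : Commute (L.x1 ^ i) (L.x2 ^ j) := Commute.pow_pow L.comm i j
  rw [C.mul_pow, ← pow_mul, ← pow_mul, mul_comm i, mul_comm j, pow_mul, pow_mul, L.x1_3, L.x2_3, one_pow, one_pow,
    one_mul]

theorem n0_inv {x : G} (hx : x ∈ L.A) : L.n0 * x * L.n0⁻¹ = x⁻¹ := by
  induction hx using Subgroup.closure_induction with
  | mem x hx =>
    rcases hx with rfl | rfl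
    exacts [L.n0_1, L.n0_2]
  | one => rw [mul_one, mul_inv_cancel, inv_one]
  | mul x y hx hy ihx ihy =>
    have e : L.n0 * (x * y) * L.n0⁻¹ = (L.n0 * x * L.n0⁻¹) * (L.n0 * y * L.n0⁻¹) := by group
    rw [e, ihx, ihy, L.A_comm hx hy, mul_inv_rev]
  | inv x _ ih =>
    have e : L.n0 * x⁻¹ * L.n0⁻¹ = (L.n0 * x * L.n0⁻¹)⁻¹ := by group
    rw [e, ih]

theorem ν_fix {x : G} {d : D} (h : x • L.ν d = L.ν d) : x • d = d := by
  rw [← L.ν_ν d, L.ν_smul, h]

theorem φ_A {x : G} (hx : x ∈ L.A) (d : D) : L.φ (x • d) = L.φ d := by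
  rcases L.φ_N x (L.A_le_N hx) with h | h
  · exact h d
  · have h1 := h L.e3
    rw [L.A_e3 hx] at h1
    exact absurd (eq_zero_of_eq_neg3 h1) L.φ_ne

/-- The `A`-fixed points in the orbit of `e3`. -/
theorem transport {n : G} (hn : n ∈ L.N) (hf : ∀ x ∈ L.A, x • n • L.e3 = n • L.e3) :
    ∃ ρ : G, (∀ x ∈ L.A, x * ρ = ρ * x) ∧ ((ρ • L.e3 = n • L.e3 ∧ ∀ d, L.φ (n • d) = L.φ d) ∨
      (ρ • L.ν L.e3 = n • L.e3 ∧ ∀ d, L.φ (n • d) = -L.φ d)) := by
  have hA : L.A ≤ Subgroup.normalizer (L.R : Set G) := L.A_le_N.trans L.NR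
  obtain ⟨ρ, hρ, h | h⟩ := L.hR n hn
  · obtain ⟨τ, -, h1, h2⟩ := exists_cent_transporter L.A_p L.R3 hA (fun _ hb => L.A_e3 hb) hf hρ h.symm
    refine ⟨τ, h2, Or.inl ⟨h1, ?_⟩⟩
    rcases L.φ_N n hn with h3 | h3
    · exact h3
    · have h4 := h3 L.e3
      rw [h, L.φ_R ρ hρ] at h4
      exact absurd (eq_zero_of_eq_neg3 h4) L.φ_ne
  · rw [← L.ν_smul] at h
    obtain ⟨τ, -, h1, h2⟩ := exists_cent_transporter L.A_p L.R3 hA
      (fun b hb => by rw [L.ν_smul, L.A_e3 hb]) hf hρ h.symm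
    refine ⟨τ, h2, Or.inr ⟨h1, ?_⟩⟩
    rcases L.φ_N n hn with h3 | h3
    · have h4 := h3 L.e3
      rw [h, L.φ_R ρ hρ, L.φ_ν] at h4
      exact absurd (eq_zero_of_eq_neg3 h4.symm) L.φ_ne
    · exact h3

/-- Sylow's theorem in the stabiliser of an `A`-fixed point. -/
theorem sylow {e : D} (he : ∀ x ∈ L.A, x • e = e) {n : G} (hn : n ∈ L.N) :
    ∃ m ∈ L.N, m • e = n • e ∧ ∀ x ∈ L.A, x • n • e = n • e → m⁻¹ * x * m ∈ L.A := by
  let H : Subgroup G := L.N ⊓ MulAction.stabilizer G e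
  have hAH : L.A ≤ H := fun x hx => ⟨L.A_le_N hx, he x hx⟩
  let B : Subgroup G := cjS n⁻¹ (L.A ⊓ MulAction.stabilizer G (n • e))
  have hB : IsPGroup 3 B := (L.A_p.to_le inf_le_left).map _
  have hBH : B ≤ H := by
    rintro _ ⟨x, ⟨hx, hxe⟩, rfl⟩
    refine ⟨L.N.mul_mem (L.N.mul_mem (L.N.inv_mem hn) (L.A_le_N hx)) (L.N.inv_mem (L.N.inv_mem hn)), ?_⟩
    have h1 : x • n • e = n • e := hxe
    show (n⁻¹ * x * n⁻¹⁻¹) • e = e
    rw [inv_inv, mul_smul, mul_smul, h1, inv_smul_smul]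
  have hi : ¬ 3 ∣ L.A.relIndex H := by
    have h1 := relIndex_ne_zero_three hAH (k := 2) L.card_A
      (fun h => L.N27 (h.trans (Subgroup.card_dvd_of_le inf_le_left)))
    exact fun h => h1 ((ZMod.natCast_eq_zero_iff _ 3).2 h)
  obtain ⟨m, hm, h1⟩ := exists_conj_into hB hBH hi
  refine ⟨n * m, L.N.mul_mem hn hm.1, ?_, fun x hx hxe => ?_⟩
  · have h2 : m • e = e := hm.2
    rw [mul_smul, h2]
  · have h2 := h1 _ (conj_mem_cjS n⁻¹ (S := L.A ⊓ MulAction.stabilizer G (n • e)) ⟨hx, hxe⟩)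
    have e1 : (n * m)⁻¹ * x * (n * m) = m⁻¹ * (n⁻¹ * x * n⁻¹⁻¹) * m := by group
    rw [e1]
    exact h2

section

variable {γ : G → G → D → ZMod 3} (hγ : Z2 (perm (ZMod 3) G D) ⊤ γ)

include hγ

omit [Finite G] in
theorem cube_cent {g x : G} (h : g * x = x * g) (hx : x ^ 3 = 1) {d : D} (hd : x • d = d) :
    cube (fun a b => γ a b (g • d)) x = cube (fun a b => γ a b d) x := by
  have h1 := hγ.cube_at_conj rfl (Subgroup.mem_top g) (Subgroup.mem_top x) hx hd
  rwa [h, mul_inv_cancel_right] at h1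

omit [Finite G] in
theorem pairing_cent {g x y : G} (h : g * x = x * g) (h' : g * y = y * g) (hxy : x * y = y * x) {d : D}
    (hd : x • d = d) (hd' : y • d = d) :
    pairing (fun a b => γ a b (g • d)) x y = pairing (fun a b => γ a b d) x y := by
  have h1 := hγ.pairing_at_conj (Subgroup.mem_top g) (Subgroup.mem_top x) (Subgroup.mem_top y) hxy hd hd'
  rwa [h, h', mul_inv_cancel_right, mul_inv_cancel_right] at h1

/-- The cubes vanish at `e3`. -/
theorem cube_e3 {x : G} (hx : x ∈ L.A) : cube (fun a b => γ a b L.e3) x = 0 := by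
  have hf : ∀ y ∈ L.A, y • L.n0 • L.e3 = L.n0 • L.e3 := by
    intro y hy
    have h1 := L.n0_inv (L.A.inv_mem hy)
    rw [inv_inv] at h1
    rw [← h1, mul_smul, mul_smul, inv_smul_smul, L.A_e3 (L.A.inv_mem hy)]
  obtain ⟨ρ, h1, ⟨h2, -⟩ | ⟨-, h2⟩⟩ := L.transport L.n0_mem hf
  · have h3 := hγ.cube_at_conj rfl (Subgroup.mem_top L.n0) (Subgroup.mem_top x) (L.A_cube hx) (L.A_e3 hx)
    have hi := L.A.inv_mem hx
    rw [L.n0_inv hx, ← h2, cube_cent hγ (h1 _ hi).symm (L.A_cube hi) (L.A_e3 hi),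
      (hγ.at L.e3).cube_inv rfl ⟨Subgroup.mem_top x, L.A_e3 hx⟩ (L.A_cube hx)] at h3
    exact eq_zero_of_eq_neg3 h3.symm
  · have h3 := h2 L.e3
    rw [L.n0_φ] at h3
    exact absurd (eq_zero_of_eq_neg3 h3) L.φ_ne

/-- The pairings at `e3` and at `ν e3` are opposite. -/
theorem pairing_ν {n1 : G} {a b c d : ℕ} (hn : n1 ∈ L.N) (h1 : n1 * L.x1 * n1⁻¹ = L.x1 ^ a * L.x2 ^ b)
    (h2 : n1 * L.x2 * n1⁻¹ = L.x1 ^ c * L.x2 ^ d) (hdet : (a : ZMod 3) * d - b * c = -1)
    (hφ : L.φ (n1 • L.e3) = -L.φ L.e3) :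
    pairing (fun g h => γ g h (L.ν L.e3)) L.x1 L.x2 = -pairing (fun g h => γ g h L.e3) L.x1 L.x2 := by
  have hz : H863.STT.Nz L.A n1 := by
    apply H863.STT.nz_closure
    rintro t (rfl | rfl)
    · rw [h1]; exact L.A.mul_mem (L.A.pow_mem L.x1_A _) (L.A.pow_mem L.x2_A _)
    · rw [h2]; exact L.A.mul_mem (L.A.pow_mem L.x1_A _) (L.A.pow_mem L.x2_A _)
  have hf : ∀ y ∈ L.A, y • n1 • L.e3 = n1 • L.e3 := by
    intro y hy
    have h3 : n1⁻¹ * y * n1⁻¹⁻¹ ∈ L.A := H863.STT.Nz.conj (Subgroup.inv_mem _ hz) hy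
    have h4 := L.A_e3 h3
    rw [inv_inv, mul_smul, mul_smul, inv_smul_eq_iff] at h4
    exact h4
  obtain ⟨ρ, h3, ⟨-, h4⟩ | ⟨h4, -⟩⟩ := L.transport hn hf
  · rw [h4] at hφ
    exact absurd (eq_zero_of_eq_neg3 hφ) L.φ_ne
  · have h5 := hγ.pairing_at_conj (Subgroup.mem_top n1) (Subgroup.mem_top L.x1) (Subgroup.mem_top L.x2) L.comm
      L.fix1 L.fix2
    have f1 : L.x1 • L.ν L.e3 = L.ν L.e3 := by rw [L.ν_smul, L.fix1]
    have f2 : L.x2 • L.ν L.e3 = L.ν L.e3 := by rw [L.ν_smul, L.fix2]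
    rw [h1, h2, (hγ.at (n1 • L.e3)).pairing_det ⟨Subgroup.mem_top _, hf _ L.x1_A⟩
      ⟨Subgroup.mem_top _, hf _ L.x2_A⟩ L.comm, hdet, ← h4,
      pairing_cent hγ (h3 _ L.x1_A).symm (h3 _ L.x2_A).symm L.comm f1 f2] at h5
    rw [← h5]
    ring

variable (hodd : ∀ g h d, γ g h (L.ν d) = -γ g h d)

include hodd

omit [Finite G] hγ in
theorem cube_ν (x : G) (d : D) : cube (fun a b => γ a b (L.ν d)) x = -cube (fun a b => γ a b d) x := by
  rw [← cube_neg]
  congr 1
  funext a b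
  exact hodd a b d

omit [Finite G] hγ in
theorem pairing_odd (x y : G) (d : D) :
    pairing (fun a b => γ a b (L.ν d)) x y = -pairing (fun a b => γ a b d) x y := by
  rw [← pairing_neg]
  congr 1
  funext a b
  exact hodd a b d

omit hγ hodd in
theorem negator {p : D} {t : G} (ht : t ∈ L.R) (h : t • p = L.ν p) :
    ∃ τ : G, τ • p = L.ν p ∧ ∀ x ∈ L.A, x • p = p → τ * x = x * τ := by
  obtain ⟨τ, -, h1, h2⟩ := exists_cent_transporter (B := L.A ⊓ MulAction.stabilizer G p)
    (L.A_p.to_le inf_le_left) L.R3 (inf_le_left.trans (L.A_le_N.trans L.NR)) (fun _ hb => hb.2)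
    (fun b hb => by
      have h3 : b • p = p := hb.2
      rw [L.ν_smul, h3]) ht h
  exact ⟨τ, h1, fun x hx hp => (h2 x ⟨hx, hp⟩).symm⟩

omit hodd in
theorem cube_Y {n s : G} (hn : n ∈ L.N) (h1 : s * L.x1 = L.x1 * s) (h2 : s * L.x2 = L.x2 * s) {x : G}
    (hx : x ∈ L.A) (hp : x • n • s • L.e3 = n • s • L.e3) : cube (fun a b => γ a b (n • s • L.e3)) x = 0 := by
  have he : ∀ y ∈ L.A, y • s • L.e3 = s • L.e3 := fun y hy => by
    rw [← mul_smul, ← L.A_cent h1 h2 hy, mul_smul, L.A_e3 hy]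
  obtain ⟨m, -, h3, h4⟩ := L.sylow he hn
  have hy := h4 x hx hp
  have h5 := hγ.cube_at_conj rfl (Subgroup.mem_top m) (Subgroup.mem_top _) (L.A_cube hy) (he _ hy)
  have e : m * (m⁻¹ * x * m) * m⁻¹ = x := by group
  rw [e, h3, cube_cent hγ (L.A_cent h1 h2 hy) (L.A_cube hy) (L.A_e3 hy), L.cube_e3 hγ hy] at h5
  exact h5

/-- All cubes vanish. -/
theorem cube_zero {x : G} (hx : x ∈ L.A) {p : D} (hp : x • p = p) : cube (fun a b => γ a b p) x = 0 := by
  obtain ⟨g, g1, g2, -, hc⟩ := L.cover p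
  have hg := L.A_cent g1 g2 hx
  rw [← cube_cent hγ hg (L.A_cube hx) hp]
  have hp' : x • g • p = g • p := by rw [← mul_smul, ← hg, mul_smul, hp]
  rcases hc with ⟨t, ht, h⟩ | ⟨n, hn, s, h1, h2, -, h | h⟩
  · obtain ⟨τ, h1, h2⟩ := L.negator ht h
    have h3 := cube_cent hγ (h2 x hx hp') (L.A_cube hx) hp'
    rw [h1, L.cube_ν hodd] at h3
    exact eq_zero_of_eq_neg3 h3.symm
  · rw [h] at hp' ⊢
    exact L.cube_Y hγ hn h1 h2 hx hp'
  · rw [h] at hp' ⊢
    rw [L.cube_ν hodd, L.cube_Y hγ hn h1 h2 hx (L.ν_fix hp'), neg_zero]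

theorem pairing_Y {n s : G} (hn : n ∈ L.N) (h1 : s * L.x1 = L.x1 * s) (h2 : s * L.x2 = L.x2 * s)
    (hφ : L.φ (s • L.e3) = L.φ L.e3) (hp : ∀ x ∈ L.A, x • n • s • L.e3 = n • s • L.e3) :
    pairing (fun a b => γ a b (n • s • L.e3)) L.x1 L.x2 * L.φ L.e3 =
      pairing (fun a b => γ a b L.e3) L.x1 L.x2 * L.φ (n • s • L.e3) := by
  have he : ∀ y ∈ L.A, y • s • L.e3 = s • L.e3 := fun y hy => by
    rw [← mul_smul, ← L.A_cent h1 h2 hy, mul_smul, L.A_e3 hy]
  obtain ⟨m, hm, h3, h4⟩ := L.sylow he hn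
  have y1 := h4 _ L.x1_A (hp _ L.x1_A)
  have y2 := h4 _ L.x2_A (hp _ L.x2_A)
  have e : ∀ x : G, m * (m⁻¹ * x * m) * m⁻¹ = x := fun x => by group
  have h5 := hγ.pairing_at_conj (Subgroup.mem_top m) (Subgroup.mem_top _) (Subgroup.mem_top _) (L.A_comm y1 y2)
    (he _ y1) (he _ y2)
  have h6 := hγ.pairing_at_conj (Subgroup.mem_top m) (Subgroup.mem_top _) (Subgroup.mem_top _) (L.A_comm y1 y2)
    (L.A_e3 y1) (L.A_e3 y2)
  rw [e, e] at h5 h6
  rw [pairing_cent hγ (L.A_cent h1 h2 y1) (L.A_cent h1 h2 y2) (L.A_comm y1 y2) (L.A_e3 y1) (L.A_e3 y2), ← h6] at h5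
  have hf : ∀ x ∈ L.A, x • m • L.e3 = m • L.e3 := by
    intro x hx
    have h7 := L.A_e3 (h4 x hx (hp x hx))
    rw [mul_smul, mul_smul, inv_smul_eq_iff] at h7
    exact h7
  rw [← h3, h5]
  obtain ⟨ρ, h7, ⟨h8, h9⟩ | ⟨h8, h9⟩⟩ := L.transport hm hf
  · rw [← h8, pairing_cent hγ (h7 _ L.x1_A).symm (h7 _ L.x2_A).symm L.comm L.fix1 L.fix2, h9, hφ]
  · have f1 : L.x1 • L.ν L.e3 = L.ν L.e3 := by rw [L.ν_smul, L.fix1]
    have f2 : L.x2 • L.ν L.e3 = L.ν L.e3 := by rw [L.ν_smul, L.fix2]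
    rw [← h8, pairing_cent hγ (h7 _ L.x1_A).symm (h7 _ L.x2_A).symm L.comm f1 f2, h9, hφ, L.pairing_odd hodd]
    ring

/-- The pairings are proportional to `φ`. -/
theorem pairing_eq {p : D} (hp : ∀ x ∈ L.A, x • p = p) :
    pairing (fun a b => γ a b p) L.x1 L.x2 * L.φ L.e3 = pairing (fun a b => γ a b L.e3) L.x1 L.x2 * L.φ p := by
  obtain ⟨g, g1, g2, g3, hc⟩ := L.cover p
  rw [← pairing_cent hγ g1 g2 L.comm (hp _ L.x1_A) (hp _ L.x2_A), ← g3]
  have hp' : ∀ x ∈ L.A, x • g • p = g • p := fun x hx => by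
    rw [← mul_smul, ← L.A_cent g1 g2 hx, mul_smul, hp x hx]
  rcases hc with ⟨t, ht, h⟩ | ⟨n, hn, s, h1, h2, h3, h | h⟩
  · obtain ⟨τ, h1, h2⟩ := L.negator ht h
    have h3 := pairing_cent hγ (h2 _ L.x1_A (hp' _ L.x1_A)) (h2 _ L.x2_A (hp' _ L.x2_A)) L.comm
      (hp' _ L.x1_A) (hp' _ L.x2_A)
    rw [h1, L.pairing_odd hodd] at h3
    have h4 := L.φ_R t ht (g • p)
    rw [h, L.φ_ν] at h4
    rw [eq_zero_of_eq_neg3 h3.symm, eq_zero_of_eq_neg3 h4.symm, zero_mul, mul_zero]
  · rw [h] at hp' ⊢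
    exact L.pairing_Y hγ hodd hn h1 h2 h3 hp'
  · rw [h] at hp' ⊢
    rw [L.pairing_odd hodd, L.φ_ν, neg_mul, L.pairing_Y hγ hodd hn h1 h2 h3 (fun x hx => L.ν_fix (hp' x hx)),
      mul_neg]

omit hγ hodd in
theorem sub_A {B : Subgroup G} (hB : B ≤ L.A) : B = L.A ∨ ∃ x ∈ L.A, B = Subgroup.zpowers x := by
  by_cases h0 : B = ⊥
  · exact Or.inr ⟨1, L.A.one_mem, by rw [h0, Subgroup.zpowers_one_eq_bot]⟩
  obtain ⟨⟨x, hx⟩, hx1⟩ := Subgroup.ne_bot_iff_exists_ne_one.1 h0
  have hx1' : x ≠ 1 := fun h => hx1 (Subtype.ext h)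
  have h1 : Nat.card B ∣ 3 ^ 2 := by
    have := Subgroup.card_dvd_of_le hB
    rwa [L.card_A] at this
  have : Fact (Nat.Prime 3) := ⟨Nat.prime_three⟩
  have h2 : Nat.card (Subgroup.zpowers x) = 3 := by
    rw [Nat.card_zpowers]
    exact orderOf_eq_prime (L.A_cube (hB hx)) hx1'
  have h3 : Subgroup.zpowers x ≤ B := by rw [Subgroup.zpowers_le]; exact hx
  obtain ⟨k, hk, h4⟩ := (Nat.dvd_prime_pow Nat.prime_three).1 h1
  rcases Nat.lt_or_ge k 2 with h5 | h5
  · right
    refine ⟨x, hB hx, (Subgroup.eq_of_le_of_card_ge h3 ?_).symm⟩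
    rw [h2, h4]
    interval_cases k <;> norm_num
  · left
    apply Subgroup.eq_of_le_of_card_ge hB
    rw [L.card_A, h4, le_antisymm hk h5]
    norm_num

/-- **The local theorem.** -/
theorem b2 : ∃ a : G → G → ZMod 3, B2 (perm (ZMod 3) G D) L.A (γ - fun g h => a g h • L.φ) := by
  obtain ⟨θ, hθ, h1, h3⟩ := exists_heis L.x1_3 L.x2_3 L.comm L.x1_ne L.x2_not
  obtain ⟨c, hc⟩ : ∃ c : ZMod 3, c * L.φ L.e3 = pairing (fun a b => γ a b L.e3) L.x1 L.x2 :=
    ⟨_ * (L.φ L.e3)⁻¹, inv_mul_cancel_right₀ L.φ_ne _⟩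
  refine ⟨c • θ, ?_⟩
  have hθ' : Z2 (perm (ZMod 3) G D) L.A (fun g h => (c • θ) g h • L.φ) :=
    (hθ.smul c).map (LinearMap.toSpanSingleton (ZMod 3) (D → ZMod 3) L.φ) fun g hg m => by
      funext d
      show m * L.φ d = m * L.φ (g⁻¹ • d)
      rw [L.φ_A (L.A.inv_mem hg)]
  have hδ := (hγ.mono le_top).sub hθ'
  apply hδ.b2_perm'
  intro p
  have hp := hδ.at p
  have e : (fun g k => (γ - fun g h => (c • θ) g h • L.φ) g k p) = (fun g k => γ g k p) - (c * L.φ p) • θ := by
    funext g k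
    show γ g k p - c * θ g k * L.φ p = γ g k p - c * L.φ p * θ g k
    ring
  rw [e] at hp ⊢
  have hcube : ∀ x ∈ L.A, x • p = p → cube ((fun g k => γ g k p) - (c * L.φ p) • θ) x = 0 := by
    intro x hx hxp
    rw [cube_sub, cube_smul, L.cube_zero hγ hodd hx hxp, h3 x hx, mul_zero, sub_zero]
  rcases L.sub_A (B := L.A ⊓ MulAction.stabilizer G p) inf_le_left with h | ⟨x, hx, h⟩
  · have hf : ∀ x ∈ L.A, x • p = p := fun x hx => by
      rw [← h] at hx
      exact hx.2
    rw [h] at hp ⊢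
    refine (hp.b2_iff_pair rfl L.x1_3 L.x2_3 L.comm).2 ⟨?_, hcube _ L.x1_A (hf _ L.x1_A), hcube _ L.x2_A (hf _ L.x2_A)⟩
    rw [pairing_sub, pairing_smul, h1, mul_one, sub_eq_zero]
    apply mul_right_cancel₀ L.φ_ne
    rw [L.pairing_eq hγ hodd hf, ← hc]
    ring
  · have hf : x • p = p := by
      have h4 : x ∈ L.A ⊓ MulAction.stabilizer G p := by rw [h]; exact Subgroup.mem_zpowers x
      exact h4.2
    rw [h] at hp ⊢
    exact (hp.b2_iff_zpowers rfl (L.A_cube hx)).2 (hcube x hx hf)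

end

end Loc

end Cfsg.Agent.B5591
end

-- part: B5591/LGAbs
section
/-!
# S5591: gluing of lifts along a flag (abstract part)
-/

set_option autoImplicit false

namespace Cfsg.Agent.B5591.LGAbs

open Cfsg.Agent.H863.SExt Subgroup

section Grp

variable {H : Type*} [Group H]

theorem cent_cj {g h a : H} : a * (g⁻¹ * h * g) = (g⁻¹ * h * g) * a ↔ (g * a * g⁻¹) * h = h * (g * a * g⁻¹) := by
  constructor
  · intro e
    calc g * a * g⁻¹ * h = g * (a * (g⁻¹ * h * g)) * g⁻¹ := by group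
      _ = g * ((g⁻¹ * h * g) * a) * g⁻¹ := by rw [e]
      _ = _ := by group
  · intro e
    calc a * (g⁻¹ * h * g) = g⁻¹ * ((g * a * g⁻¹) * h) * g := by group
      _ = g⁻¹ * (h * (g * a * g⁻¹)) * g := by rw [e]
      _ = _ := by group

omit [Group H] in
theorem fs {a : H} {P : H → Prop} : (∀ x ∈ ({a} : Set H), P x) ↔ P a :=
  ⟨fun h => h a rfl, fun h _ hx => hx ▸ h⟩

theorem mem_c2 {a b h : H} : h ∈ centralizer ({a, b} : Set H) ↔ a * h = h * a ∧ b * h = h * b := by
  rw [mem_centralizer_iff, Set.forall_mem_insert, fs]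

theorem mem_c3 {a b c h : H} :
    h ∈ centralizer ({a, b, c} : Set H) ↔ a * h = h * a ∧ b * h = h * b ∧ c * h = h * c := by
  rw [mem_centralizer_iff, Set.forall_mem_insert, Set.forall_mem_insert, fs]

theorem mem_c4 {a b c d h : H} :
    h ∈ centralizer ({a, b, c, d} : Set H) ↔ a * h = h * a ∧ b * h = h * b ∧ c * h = h * c ∧ d * h = h * d := by
  rw [mem_centralizer_iff, Set.forall_mem_insert, Set.forall_mem_insert, Set.forall_mem_insert,
    fs]

theorem cjS_c2 (g a b : H) :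
    cjS g (centralizer ({a, b} : Set H)) = centralizer ({g * a * g⁻¹, g * b * g⁻¹} : Set H) := by
  ext h
  rw [mem_cjS, mem_c2, mem_c2, cent_cj, cent_cj]

theorem cjS_c3 (g a b c : H) :
    cjS g (centralizer ({a, b, c} : Set H)) = centralizer ({g * a * g⁻¹, g * b * g⁻¹, g * c * g⁻¹} : Set H) := by
  ext h
  rw [mem_cjS, mem_c3, mem_c3, cent_cj, cent_cj, cent_cj]

theorem cjS_c4 (g a b c d : H) :
    cjS g (centralizer ({a, b, c, d} : Set H)) =
      centralizer ({g * a * g⁻¹, g * b * g⁻¹, g * c * g⁻¹, g * d * g⁻¹} : Set H) := by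
  ext h
  rw [mem_cjS, mem_c4, mem_c4, cent_cj, cent_cj, cent_cj, cent_cj]

theorem comm_mul {a b h : H} (ha : a * h = h * a) (hb : b * h = h * b) : a * b * h = h * (a * b) := by
  rw [mul_assoc, hb, ← mul_assoc, ha, mul_assoc]

/-- `y` is `x` modulo `z`. -/
def Md (z x y : H) : Prop := y = x ∨ y = z * x

theorem Md.comm {z x y h : H} (m : Md z x y) (hz : z * h = h * z) (hx : x * h = h * x) : y * h = h * y := by
  rcases m with rfl | rfl
  · exact hx
  · exact comm_mul hz hx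

theorem Md.symm {z x y : H} (m : Md z x y) (hz : z * z = 1) : Md z y x := by
  rcases m with rfl | rfl
  · exact Or.inl rfl
  · exact Or.inr (by rw [← mul_assoc, hz, one_mul])

/-- An element mapping the generators into the group they generate normalises the centraliser. -/
theorem mem_normalizer_cent [Finite H] {S : Set H} {g : H} (h : ∀ a ∈ S, g * a * g⁻¹ ∈ _root_.Subgroup.closure S) :
    g ∈ normalizer ((centralizer S : Subgroup H) : Set H) := by
  rw [← inv_mem_iff, mem_normalizer_iff_cjS]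
  apply eq_of_le_of_card_ge
  · intro x hx
    rw [mem_cjS, inv_inv] at hx
    rw [mem_centralizer_iff]
    intro a ha
    have h1 : closure S ≤ centralizer {g * x * g⁻¹} := by
      rw [closure_le]
      intro b hb
      show b ∈ centralizer {g * x * g⁻¹}
      rw [mem_centralizer_iff, fs]
      exact (mem_centralizer_iff.1 hx b hb).symm
    have h2 := h1 (h a ha)
    rw [mem_centralizer_iff, fs] at h2
    calc a * x = g⁻¹ * ((g * a * g⁻¹) * (g * x * g⁻¹)) * g := by group
      _ = g⁻¹ * ((g * x * g⁻¹) * (g * a * g⁻¹)) * g := by rw [h2]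
      _ = x * a := by group
  · exact (card_map_of_injective (MulAut.conj g⁻¹).injective).ge

end Grp

variable {F M G : Type*} [Field F] [AddCommGroup M] [Module F M] [Group G] {σ : G →* Module.End F M}
  {E : Type*} [Group E] {X : _root_.Cfsg.Agent.H863.SExt.Ext σ E}

theorem fx_cj {K : Subgroup G} (h : Fx σ K) (g : G) : Fx σ (cjS g K) := by
  intro m hm
  have h1 : σ g⁻¹ m = 0 := h _ fun k hk => by
    have h2 := hm _ (conj_mem_cjS g hk)
    rw [act_mul, act_mul] at h2
    apply act_inj (σ := σ) g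
    rw [h2, act_act_inv]
  rw [← act_act_inv (σ := σ) g m, h1, map_zero]

theorem norm_restrict {S : Subgroup E} {T : Subgroup G} {e : E} (h : e ∈ normalizer (S : Set E))
    (hT : X.π e ∈ normalizer (T : Set G)) : e ∈ normalizer ((S ⊓ T.comap X.π : Subgroup E) : Set E) := by
  rw [mem_normalizer_iff] at h hT ⊢
  intro x
  rw [mem_inf, mem_inf, mem_comap, mem_comap, map_mul, map_mul, map_inv, ← h x, ← hT (X.π x)]

theorem norm_inj {S : Subgroup E} {K : Subgroup G} (hS : IsLift X S K) (h0 : Fx σ K) {x y : E}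
    (hx : x ∈ normalizer (S : Set E)) (hy : y ∈ normalizer (S : Set E)) (e : X.π x = X.π y) : x = y := by
  obtain ⟨m, hm⟩ := X.of_eq e
  have h1 : X.j m ∈ normalizer (S : Set E) := by
    have h2 : X.j m = x * y⁻¹ := by rw [hm, mul_inv_cancel_right]
    rw [h2]
    exact mul_mem hx (inv_mem hy)
  rw [hm, h0 m (hS.j_mem_normalizer.1 h1), X.j_zero, one_mul]

theorem norm_one {S : Subgroup E} {K : Subgroup G} (hS : IsLift X S K) (h0 : Fx σ K) {x : E}
    (hx : x ∈ normalizer (S : Set E)) (e : X.π x = 1) : x = 1 :=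
  norm_inj hS h0 hx (one_mem _) (by rw [e, map_one])

/-- **The gluing lemma.** -/
theorem gl {K L H : Subgroup G} {S : Subgroup E} (hS : IsLift X S H) (hK : K ≤ L) (hL : L ≤ H) (h0 : Fx σ K)
    (h1 : H1 σ L) (hgen : H ≤ _root_.Subgroup.closure (((H ⊓ normalizer (K : Set G) : Subgroup G) : Set G) ∪ L)) {g : G}
    (gK : g ∈ normalizer (K : Set G)) (gL : g ∈ normalizer (L : Set G)) (gH : g ∈ normalizer (H : Set G)) :
    ∃ e ∈ normalizer (S : Set E), X.π e = g := by
  have hSL := hS.restrict hL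
  have hSK := hS.restrict (hK.trans hL)
  obtain ⟨e, he, rfl⟩ := hSL.exists_normalizer h1 gL
  refine ⟨e, ?_, rfl⟩
  have eK : e ∈ normalizer ((S ⊓ K.comap X.π : Subgroup E) : Set E) := by
    have h2 := norm_restrict (X := X) he gK
    rwa [inf_assoc, inf_eq_right.2 (comap_mono hK)] at h2
  let S' : Subgroup E := S ⊓ cjS e⁻¹ S
  have hS' : ∀ x, x ∈ S' ↔ x ∈ S ∧ e * x * e⁻¹ ∈ S := by
    intro x
    rw [mem_inf, mem_cjS, inv_inv]
  have h3 : H ≤ S'.map X.π := by
    refine hgen.trans ((closure_le _).2 ?_)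
    rintro h (⟨hh, hn⟩ | hh)
    · obtain ⟨x, hx, rfl⟩ := hS.exists hh
      refine ⟨x, (hS' x).2 ⟨hx, ?_⟩, rfl⟩
      have h4 : X.π e * X.π x * (X.π e)⁻¹ ∈ H := (mem_normalizer_iff.1 gH _).1 hh
      obtain ⟨y, hy, ey⟩ := hS.exists h4
      have h5 : x ∈ normalizer ((S ⊓ K.comap X.π : Subgroup E) : Set E) := norm_restrict (le_normalizer hx) hn
      have h6 : y ∈ normalizer ((S ⊓ K.comap X.π : Subgroup E) : Set E) :=
        norm_restrict (le_normalizer hy) (by rw [ey]; exact mul_mem (mul_mem gK hn) (inv_mem gK))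
      have h7 := norm_inj hSK h0 (mul_mem (mul_mem eK h5) (inv_mem eK)) h6 (by rw [ey, map_mul, map_mul, map_inv])
      rw [h7]
      exact hy
    · obtain ⟨x, hx, rfl⟩ := hSL.exists hh
      exact ⟨x, (hS' x).2 ⟨hx.1, ((mem_normalizer_iff.1 he x).1 hx).1⟩, rfl⟩
  have h8 : cjS e S ≤ S := by
    rintro _ ⟨x, hx, rfl⟩
    obtain ⟨x', hx', ex⟩ := h3 (hS.mem hx)
    replace hx' := (hS' x').1 hx'
    rw [← hS.inj hx'.1 hx ex]
    exact hx'.2
  have h9 := hS.cj e
  rw [mem_normalizer_iff_cjS.1 gH] at h9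
  exact mem_normalizer_iff_cjS.2 (hS.eq_of_le h9 h8)

/-! ### Agreement of lifts -/

variable (X) in
/-- `S` and `S'` have the same elements over `H`. -/
def Agree (S S' : Subgroup E) (H : Subgroup G) : Prop := ∀ h ∈ H, ∃ e ∈ S, e ∈ S' ∧ X.π e = h

theorem Agree.mono {S S' : Subgroup E} {H H' : Subgroup G} (h : Agree X S S' H) (hH : H' ≤ H) : Agree X S S' H' :=
  fun g hg => h g (hH hg)

theorem Agree.symm {S S' : Subgroup E} {H : Subgroup G} (h : Agree X S S' H) : Agree X S' S H := by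
  intro g hg
  obtain ⟨e, h1, h2, h3⟩ := h g hg
  exact ⟨e, h2, h1, h3⟩

theorem Agree.trans {S S' S'' : Subgroup E} {H K : Subgroup G} (h : Agree X S S' H) (h' : Agree X S' S'' H)
    (hS : IsLift X S' K) : Agree X S S'' H := by
  intro g hg
  obtain ⟨e, h1, h2, h3⟩ := h g hg
  obtain ⟨e', h4, h5, h6⟩ := h' g hg
  rw [← hS.inj h2 h4 (h3.trans h6.symm)] at h5
  exact ⟨e, h1, h5, h3⟩

theorem Agree.cj {S S' : Subgroup E} {H : Subgroup G} (h : Agree X S S' H) (e : E) :
    Agree X (cjS e S) (cjS e S') (cjS (X.π e) H) := by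
  rintro _ ⟨g, hg, rfl⟩
  obtain ⟨x, h1, h2, rfl⟩ := h g hg
  refine ⟨e * x * e⁻¹, conj_mem_cjS e h1, conj_mem_cjS e h2, ?_⟩
  rw [map_mul, map_mul, map_inv]
  rfl

/-! ### Admissible lifts -/

section Adm

variable {z p : G} {S0 : Subgroup E}

variable (X z p S0) in
/-- The conjugates of the lift `S0`. -/
def Adm (S : Subgroup E) (u v : G) : Prop :=
  ∃ e : E, X.π e * z * (X.π e)⁻¹ = u ∧ X.π e * p * (X.π e)⁻¹ = v ∧ S = cjS e S0

theorem adm_base : Adm X z p S0 S0 z p :=
  ⟨1, by rw [map_one, one_mul, inv_one, mul_one], by rw [map_one, one_mul, inv_one, mul_one], (cjS_one _).symm⟩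

theorem Adm.cj {S : Subgroup E} {u v : G} (h : Adm X z p S0 S u v) (e : E) :
    Adm X z p S0 (cjS e S) (X.π e * u * (X.π e)⁻¹) (X.π e * v * (X.π e)⁻¹) := by
  obtain ⟨f, rfl, rfl, rfl⟩ := h
  refine ⟨e * f, ?_, ?_, (cjS_mul _ _ _).symm⟩ <;> rw [map_mul] <;> group

variable (h0 : IsLift X S0 (centralizer {z, p}))

include h0

theorem Adm.lift {S : Subgroup E} {u v : G} (h : Adm X z p S0 S u v) : IsLift X S (centralizer {u, v}) := by
  obtain ⟨e, rfl, rfl, rfl⟩ := h
  rw [← cjS_c2]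
  exact h0.cj e

/-- An admissible lift is a conjugate by an element over any given transporter. -/
theorem Adm.over {S : Subgroup E} {g : G} (h : Adm X z p S0 S (g * z * g⁻¹) (g * p * g⁻¹)) :
    ∃ e, X.π e = g ∧ S = cjS e S0 := by
  obtain ⟨e, h1, h2, rfl⟩ := h
  have h3 : (X.π e)⁻¹ * g ∈ centralizer ({z, p} : Set G) := by
    rw [mem_c2]
    constructor
    · calc z * ((X.π e)⁻¹ * g) = (X.π e)⁻¹ * (X.π e * z * (X.π e)⁻¹) * g := by group
        _ = (X.π e)⁻¹ * (g * z * g⁻¹) * g := by rw [h1]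
        _ = _ := by group
    · calc p * ((X.π e)⁻¹ * g) = (X.π e)⁻¹ * (X.π e * p * (X.π e)⁻¹) * g := by group
        _ = (X.π e)⁻¹ * (g * p * g⁻¹) * g := by rw [h2]
        _ = _ := by group
  obtain ⟨x, hx, ex⟩ := h0.exists h3
  refine ⟨e * x, by rw [map_mul, ex, mul_inv_cancel_left], ?_⟩
  rw [cjS_mul, mem_normalizer_iff_cjS.1 (le_normalizer hx)]

theorem Adm.conj_j {S S' : Subgroup E} {u v : G} (h : Adm X z p S0 S u v) (h' : Adm X z p S0 S' u v) :
    ∃ m, S' = cjS (X.j m) S := by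
  obtain ⟨e, rfl, rfl, rfl⟩ := h
  obtain ⟨e', h1, rfl⟩ := h'.over h0
  obtain ⟨m, hm⟩ := X.of_eq h1
  exact ⟨m, by rw [hm, cjS_mul]⟩

theorem Adm.uniq {S S' : Subgroup E} {u v : G} (h : Adm X z p S0 S u v) (h' : Adm X z p S0 S' u v)
    {H : Subgroup G} (hH : Fx σ H) (ha : Agree X S S' H) : S = S' := by
  obtain ⟨m, rfl⟩ := h.conj_j h0 h'
  have h1 : m = 0 := hH m fun g hg => by
    obtain ⟨e, h2, h3, rfl⟩ := ha g hg
    rw [mem_cjS] at h3
    have h4 := (h.lift h0).inj h3 h2 (by rw [map_mul, map_mul, map_inv, X.π_j, inv_one, one_mul, mul_one])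
    apply fixed_of_j_comm (X := X)
    calc e * X.j m = X.j m * ((X.j m)⁻¹ * e * X.j m) := by group
      _ = X.j m * e := by rw [h4]
  rw [h1, X.j_zero, cjS_one]

theorem Adm.exists_norm {S : Subgroup E} {u v g : G} (h : Adm X z p S0 S u v)
    (h' : Adm X z p S0 S (g * u * g⁻¹) (g * v * g⁻¹)) : ∃ e ∈ normalizer (S : Set E), X.π e = g := by
  obtain ⟨e, rfl⟩ := X.surj g
  obtain ⟨m, hm⟩ := (h.cj e).conj_j h0 h'
  refine ⟨X.j m * e, mem_normalizer_iff_cjS.2 ?_, by rw [map_mul, X.π_j, one_mul]⟩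
  rw [cjS_mul, ← hm]

/-- Transfer of a normalising element. -/
theorem Adm.transfer {S S' : Subgroup E} {K H : Subgroup G} {u v : G} (h : Adm X z p S0 S' u v) (hS : IsLift X S K)
    (ha : Agree X S S' H) (hH : Fx σ H) {e : E} (he : e ∈ normalizer (S : Set E))
    (h' : Adm X z p S0 S' (X.π e * u * (X.π e)⁻¹) (X.π e * v * (X.π e)⁻¹)) (hn : H ≤ cjS (X.π e) H) :
    e ∈ normalizer (S' : Set E) := by
  have h1 := (ha.cj e).mono hn
  rw [mem_normalizer_iff_cjS.1 he] at h1
  exact mem_normalizer_iff_cjS.2 (h'.uniq h0 (h.cj e) hH (ha.symm.trans h1 hS)).symm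

/-- Transport of a neighbour. -/
theorem Adm.nb {S S1 : Subgroup E} {a b g : G} {H : Subgroup G} (h : Adm X z p S0 S (g * z * g⁻¹) (g * p * g⁻¹))
    (h1 : Adm X z p S0 S1 a b) (ha : Agree X S0 S1 H) :
    ∃ S', Adm X z p S0 S' (g * a * g⁻¹) (g * b * g⁻¹) ∧ Agree X S S' (cjS g H) := by
  obtain ⟨e, rfl, rfl⟩ := h.over h0
  exact ⟨_, h1.cj e, ha.cj e⟩

/-- The lines of the base plane. -/
theorem plane {K L H : Subgroup G} (hK : K ≤ L) (hL : L ≤ H) (hH : H ≤ centralizer {z, p}) (hf : Fx σ K)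
    (h1 : H1 σ L) (hgen : H ≤ _root_.Subgroup.closure (((H ⊓ normalizer (K : Set G) : Subgroup G) : Set G) ∪ L)) {g : G}
    (gK : g ∈ normalizer (K : Set G)) (gL : g ∈ normalizer (L : Set G)) (gH : g ∈ normalizer (H : Set G)) :
    ∃ S1, Adm X z p S0 S1 (g * z * g⁻¹) (g * p * g⁻¹) ∧ Agree X S0 S1 H := by
  have h2 := h0.restrict hH
  obtain ⟨e, he, rfl⟩ := gl h2 hK hL hf h1 hgen gK gL gH
  refine ⟨cjS e S0, ⟨e, rfl, rfl, rfl⟩, fun h hh => ?_⟩
  obtain ⟨x, hx, rfl⟩ := h2.exists hh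
  refine ⟨x, hx.1, ?_, rfl⟩
  rw [← mem_normalizer_iff_cjS.1 he] at hx
  exact cjS_mono e inf_le_left hx

omit h0 in
theorem Adm.move {S : Subgroup E} {u v : G} (h : Adm X z p S0 S u v) {n : E} (hn : n ∈ normalizer (S0 : Set E)) :
    ∃ g : G, g * z * g⁻¹ = u ∧ g * p * g⁻¹ = v ∧
      Adm X z p S0 S (g * (X.π n * z * (X.π n)⁻¹) * g⁻¹) (g * (X.π n * p * (X.π n)⁻¹) * g⁻¹) := by
  obtain ⟨e, h1, h2, rfl⟩ := h
  refine ⟨X.π e, h1, h2, e * n, ?_, ?_, ?_⟩
  · rw [map_mul]; group
  · rw [map_mul]; group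
  · rw [cjS_mul, mem_normalizer_iff_cjS.1 hn]

end Adm

/-! ### The setting -/

variable (X) in
/-- The lifts of a line, with its symmetries and its neighbours in the base plane. -/
structure Setting (z p y1 y2 : G) (S0 : Subgroup E) : Prop where
  zz : z * z = 1
  pp : p * p = 1
  zp : z * p = p * z
  lift : IsLift X S0 (centralizer {z, p})
  rho : ∃ n ∈ normalizer (S0 : Set E), X.π n * z * (X.π n)⁻¹ = z ∧ X.π n * p * (X.π n)⁻¹ = z * p
  tau : ∃ n ∈ normalizer (S0 : Set E), X.π n * z * (X.π n)⁻¹ = p ∧ X.π n * p * (X.π n)⁻¹ = z * p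
  nb1 : ∃ S, Adm X z p S0 S z y1 ∧ Agree X S0 S (centralizer {z, p, y1})
  nb2 : ∃ S, Adm X z p S0 S p y2 ∧ Agree X S0 S (centralizer {z, p, y2})

/-- The lines `⟨z, x⟩` and `⟨z, y⟩` are a translate of the base pair. -/
def Edge (z p y1 x y : G) : Prop := ∃ g, g * z * g⁻¹ = z ∧ Md z x (g * p * g⁻¹) ∧ Md z y (g * y1 * g⁻¹)

/-- The line `⟨x, y⟩` is a translate of the base line off `z`. -/
def Off (z p y2 x y : G) : Prop := ∃ g, g * z * g⁻¹ = z ∧ g * p * g⁻¹ = x ∧ g * y2 * g⁻¹ = y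

variable (X) in
/-- Adjacent lifts. -/
def Rel (z p : G) (S0 S : Subgroup E) (x : G) (S' : Subgroup E) (y : G) : Prop :=
  Adm X z p S0 S z x ∧ Adm X z p S0 S' z y ∧ Agree X S S' (centralizer {z, x, y})

theorem Rel.symm {z p x y : G} {S0 S S' : Subgroup E} (h : Rel X z p S0 S x S' y) : Rel X z p S0 S' y S x :=
  ⟨h.2.1, h.1, h.2.2.symm.mono fun g hg => by
    rw [mem_c3] at hg ⊢
    exact ⟨hg.1, hg.2.2, hg.2.1⟩⟩

namespace Setting

variable {z p y1 y2 : G} {S0 : Subgroup E} (T : Setting X z p y1 y2 S0)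

include T

theorem adm_rho {S : Subgroup E} {u v : G} (h : Adm X z p S0 S u v) : Adm X z p S0 S u (u * v) := by
  obtain ⟨n, hn, h1, h2⟩ := T.rho
  obtain ⟨g, rfl, rfl, h3⟩ := h.move hn
  rw [h1, h2] at h3
  rwa [show g * z * g⁻¹ * (g * p * g⁻¹) = g * (z * p) * g⁻¹ by group]

theorem adm_tau {S : Subgroup E} {u v : G} (h : Adm X z p S0 S u v) : Adm X z p S0 S v (u * v) := by
  obtain ⟨n, hn, h1, h2⟩ := T.tau
  obtain ⟨g, rfl, rfl, h3⟩ := h.move hn
  rw [h1, h2] at h3
  rwa [show g * z * g⁻¹ * (g * p * g⁻¹) = g * (z * p) * g⁻¹ by group]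

theorem adm_sw {S : Subgroup E} {u v : G} (h : Adm X z p S0 S u v) : Adm X z p S0 S (u * v) v := by
  have h1 := T.adm_rho (T.adm_tau (T.adm_tau h))
  obtain ⟨e, rfl, rfl, -⟩ := h
  generalize X.π e = g at h1 ⊢
  have e1 : g * z * g⁻¹ * (g * p * g⁻¹) * (g * p * g⁻¹ * (g * z * g⁻¹ * (g * p * g⁻¹))) =
      g * (z * (p * p) * z * p) * g⁻¹ := by group
  rw [e1, T.pp, mul_one, T.zz, one_mul] at h1
  exact h1

theorem adm_md {S : Subgroup E} {x y : G} (h : Adm X z p S0 S z x) (m : Md z x y) : Adm X z p S0 S z y := by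
  rcases m with rfl | rfl
  · exact h
  · exact T.adm_rho h

theorem exists_rel {S : Subgroup E} {x y : G} (h : Adm X z p S0 S z x) (he : Edge z p y1 x y) :
    ∃ S', Rel X z p S0 S x S' y := by
  obtain ⟨g, h1, h2, h3⟩ := he
  obtain ⟨S1, h4, h5⟩ := T.nb1
  have h6 := T.adm_md h h2
  nth_rewrite 2 [← h1] at h6
  obtain ⟨S', h7, h8⟩ := h6.nb T.lift h4 h5
  rw [h1] at h7
  refine ⟨S', h, T.adm_md h7 (h3.symm T.zz), h8.mono fun k hk => ?_⟩
  rw [cjS_c3, h1, mem_c3]
  rw [mem_c3] at hk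
  exact ⟨hk.1, h2.comm hk.1 hk.2.1, h3.comm hk.1 hk.2.2⟩

theorem tri {S1 S2 S3 : Subgroup E} {x y u : G} (h1 : Rel X z p S0 S1 x S2 y) (h2 : Rel X z p S0 S2 y S3 u)
    (he : Edge z p y1 x u) (hf : Fx σ (centralizer {z, x, y, u})) : Rel X z p S0 S1 x S3 u := by
  obtain ⟨S', h3⟩ := T.exists_rel h1.1 he
  have a1 : Agree X S1 S2 (centralizer {z, x, y, u}) := h1.2.2.mono fun k hk => by
    rw [mem_c4] at hk
    exact mem_c3.2 ⟨hk.1, hk.2.1, hk.2.2.1⟩
  have a2 : Agree X S2 S3 (centralizer {z, x, y, u}) := h2.2.2.mono fun k hk => by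
    rw [mem_c4] at hk
    exact mem_c3.2 ⟨hk.1, hk.2.2.1, hk.2.2.2⟩
  have a3 : Agree X S1 S' (centralizer {z, x, y, u}) := h3.2.2.mono fun k hk => by
    rw [mem_c4] at hk
    exact mem_c3.2 ⟨hk.1, hk.2.1, hk.2.2.2⟩
  have a4 := a3.symm.trans (a1.trans a2 (h1.2.1.lift T.lift)) (h1.1.lift T.lift)
  rwa [h3.2.1.uniq T.lift h2.2.1 hf a4] at h3

/-- Elements normalising all lines through `z` are transferred along edges. -/
theorem norm_rel {S S' : Subgroup E} {x y : G} (h : Rel X z p S0 S x S' y) (hf : Fx σ (centralizer {z, x, y}))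
    {e : E} (he : e ∈ normalizer (S : Set E)) (ez : X.π e * z * (X.π e)⁻¹ = z)
    (ex : Md z x (X.π e * x * (X.π e)⁻¹)) (ey : Md z y (X.π e * y * (X.π e)⁻¹)) : e ∈ normalizer (S' : Set E) := by
  refine h.2.1.transfer T.lift (h.1.lift T.lift) h.2.2 hf he ?_ ?_
  · rw [ez]
    exact T.adm_md h.2.1 ey
  · intro k hk
    rw [cjS_c3, ez, mem_c3]
    rw [mem_c3] at hk
    exact ⟨hk.1, ex.comm hk.1 hk.2.1, ey.comm hk.1 hk.2.2⟩

theorem exists_norm_md {S : Subgroup E} {x g : G} (h : Adm X z p S0 S z x) (gz : g * z * g⁻¹ = z)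
    (gx : Md z x (g * x * g⁻¹)) : ∃ e ∈ normalizer (S : Set E), X.π e = g := by
  refine h.exists_norm T.lift ?_
  rw [gz]
  exact T.adm_md h gx

theorem exists_norm_sw {S : Subgroup E} {x g : G} (h : Adm X z p S0 S z x) (gz : g * z * g⁻¹ = z * x)
    (gx : g * x * g⁻¹ = x) : ∃ e ∈ normalizer (S : Set E), X.π e = g := by
  refine h.exists_norm T.lift ?_
  rw [gz, gx]
  exact T.adm_sw h

theorem exists_off {S : Subgroup E} {x y : G} (h : Adm X z p S0 S z x) (ho : Off z p y2 x y) :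
    ∃ S', Adm X z p S0 S' x y ∧ Agree X S S' (centralizer {z, x, y}) := by
  obtain ⟨g, h1, rfl, rfl⟩ := ho
  obtain ⟨S1, h4, h5⟩ := T.nb2
  nth_rewrite 2 [← h1] at h
  obtain ⟨S', h7, h8⟩ := h.nb T.lift h4 h5
  rw [cjS_c3, h1] at h8
  exact ⟨S', h7, h8⟩

theorem norm_off {S S' S'' : Subgroup E} {a x y : G} (h : Rel X z p S0 S a S' x) (h1 : Adm X z p S0 S'' x y)
    (h2 : Agree X S' S'' (centralizer {z, x, y})) (hf : Fx σ (centralizer {z, a, x, y})) {e : E}
    (he : e ∈ normalizer (S : Set E)) (ez : X.π e * z * (X.π e)⁻¹ = z * a) (ea : X.π e * a * (X.π e)⁻¹ = a)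
    (ex : X.π e * x * (X.π e)⁻¹ = x) (ey : X.π e * y * (X.π e)⁻¹ = y) : e ∈ normalizer (S'' : Set E) := by
  have a1 : Agree X S S' (centralizer {z, a, x, y}) := h.2.2.mono fun k hk => by
    rw [mem_c4] at hk
    exact mem_c3.2 ⟨hk.1, hk.2.1, hk.2.2.1⟩
  have a2 : Agree X S' S'' (centralizer {z, a, x, y}) := h2.mono fun k hk => by
    rw [mem_c4] at hk
    exact mem_c3.2 ⟨hk.1, hk.2.2.1, hk.2.2.2⟩
  refine h1.transfer T.lift (h.1.lift T.lift) (a1.trans a2 (h.2.1.lift T.lift)) hf he ?_ ?_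
  · rw [ex, ey]
    exact h1
  · intro k hk
    rw [cjS_c4, ez, ea, ex, ey, mem_c4]
    rw [mem_c4] at hk
    exact ⟨comm_mul hk.1 hk.2.1, hk.2⟩

/-- **Commutation of two lifts.** -/
theorem comm {Sa Sb S : Subgroup E} {a b x y : G} (ha : Rel X z p S0 Sa a S x) (hb : Rel X z p S0 Sb b S x)
    (ho : Off z p y2 x y) (fa : Fx σ (centralizer {z, a, x, y})) (fb : Fx σ (centralizer {z, b, x, y}))
    {e f : E} (he : e ∈ normalizer (Sa : Set E)) (hf : f ∈ normalizer (Sb : Set E))
    (ez : X.π e * z * (X.π e)⁻¹ = z * a) (ea : X.π e * a * (X.π e)⁻¹ = a)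
    (ex : X.π e * x * (X.π e)⁻¹ = x) (ey : X.π e * y * (X.π e)⁻¹ = y)
    (fz : X.π f * z * (X.π f)⁻¹ = z * b) (fa' : X.π f * b * (X.π f)⁻¹ = b)
    (fx : X.π f * x * (X.π f)⁻¹ = x) (fy : X.π f * y * (X.π f)⁻¹ = y)
    (hc : X.π e * X.π f = X.π f * X.π e) : e * f = f * e := by
  obtain ⟨S'', h1, h2⟩ := T.exists_off ha.2.1 ho
  have h3 := T.norm_off ha h1 h2 fa he ez ea ex ey
  have h4 := T.norm_off hb h1 h2 fb hf fz fa' fx fy
  refine norm_inj (h1.lift T.lift) (fa.mono fun k hk => ?_) (mul_mem h3 h4) (mul_mem h4 h3)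
    (by rw [map_mul, map_mul, hc])
  rw [mem_c4] at hk
  exact mem_c2.2 hk.2.2

end Setting

end Cfsg.Agent.B5591.LGAbs
end

-- part: B5591/LGAbs2
section
/-!
# S5591: gluing of lifts along a flag (the finite configuration, abstract part)
-/

set_option autoImplicit false

namespace Cfsg.Agent.B5591.LGAbs

open Cfsg.Agent.H863.SExt Subgroup

section Grp

variable {H : Type*} [Group H]

/-- The lines `⟨z, x⟩`, `⟨z, u⟩`, `⟨z, w⟩` are a translate of the base triple. -/
def Tri (z p y c x u w : H) : Prop :=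
  ∃ g, g * z * g⁻¹ = z ∧ Md z x (g * p * g⁻¹) ∧ Md z u (g * y * g⁻¹) ∧ Md z w (g * c * g⁻¹)

theorem Tri.edge {z p y c x u w : H} (h : Tri z p y c x u w) : Edge z p y x u := by
  obtain ⟨g, h1, h2, h3, -⟩ := h
  exact ⟨g, h1, h2, h3⟩

theorem Edge.off {z p y x u : H} (hz : z * z = 1) (h : Edge z p y x u)
    (ha : ∃ a, a * z * a⁻¹ = z ∧ a * p * a⁻¹ = z * p ∧ a * y * a⁻¹ = y)
    (hb : ∃ b, b * z * b⁻¹ = z ∧ b * p * b⁻¹ = p ∧ b * y * b⁻¹ = z * y) : Off z p (z * y) x u := by
  obtain ⟨a, a1, a2, a3⟩ := ha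
  obtain ⟨b, b1, b2, b3⟩ := hb
  have key : ∀ g s t : H, g * (s * t) * g⁻¹ = (g * s * g⁻¹) * (g * t * g⁻¹) := fun g s t => by group
  have key2 : ∀ g k s : H, g * k * s * (g * k)⁻¹ = g * (k * s * k⁻¹) * g⁻¹ := fun g s t => by group
  have s1 : ∃ g, g * z * g⁻¹ = z ∧ g * p * g⁻¹ = x ∧ Md z u (g * y * g⁻¹) := by
    obtain ⟨g, h1, h2 | h2, h3⟩ := h
    · exact ⟨g, h1, h2, h3⟩
    · refine ⟨g * a, by rw [key2, a1, h1], ?_, by rwa [key2, a3]⟩
      rw [key2, a2, key, h1, h2, ← mul_assoc, hz, one_mul]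
  obtain ⟨g, h1, h2, h3 | h3⟩ := s1
  · refine ⟨g * b, by rw [key2, b1, h1], by rw [key2, b2, h2], ?_⟩
    rw [key2, key b, b1, b3, ← mul_assoc z, hz, one_mul, h3]
  · refine ⟨g, h1, h2, ?_⟩
    rw [key, h1, h3, ← mul_assoc, hz, one_mul]

theorem c4_le_acb {z a b c : H} : centralizer ({z, a, b, c} : Set H) ≤ centralizer {z, a, c, b} := fun _ hk =>
  have h := mem_c4.1 hk
  mem_c4.2 ⟨h.1, h.2.1, h.2.2.2, h.2.2.1⟩

theorem c4_le_cab {z a b c : H} : centralizer ({z, a, b, c} : Set H) ≤ centralizer {z, c, a, b} := fun _ hk =>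
  have h := mem_c4.1 hk
  mem_c4.2 ⟨h.1, h.2.2.2, h.2.1, h.2.2.1⟩

theorem c4_le_c3 {z a b c : H} : centralizer ({z, a, b, c} : Set H) ≤ centralizer {z, a, b} := fun _ hk =>
  have h := mem_c4.1 hk
  mem_c3.2 ⟨h.1, h.2.1, h.2.2.1⟩

theorem c3_le_c2 {z a b : H} : centralizer ({z, a, b} : Set H) ≤ centralizer {z, b} := fun _ hk =>
  have h := mem_c3.1 hk
  mem_c2.2 ⟨h.1, h.2.2⟩

theorem c3_le_swap {z a b : H} : centralizer ({z, a, b} : Set H) ≤ centralizer {z, b, a} := fun _ hk =>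
  have h := mem_c3.1 hk
  mem_c3.2 ⟨h.1, h.2.2, h.2.1⟩

theorem Md.mem_closure {z x y : H} {S : Set H} (m : Md z x y) (hz : z ∈ S) (hx : x ∈ S) : y ∈ _root_.Subgroup.closure S := by
  rcases m with rfl | rfl
  · exact _root_.Subgroup.subset_closure hx
  · exact mul_mem (_root_.Subgroup.subset_closure hz) (_root_.Subgroup.subset_closure hx)

theorem conj_of_comm {g a : H} (h : a * g = g * a) : g * a * g⁻¹ = a := by
  rw [← h, mul_inv_cancel_right]

theorem conj_of_mul {g a b : H} (h : g * a = b * g) : g * a * g⁻¹ = b := by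
  rw [h, mul_inv_cancel_right]

/-- The involution `g` interchanges `z` and `z a`. -/
theorem sw_of {z a w g : H} (hg : g * g = 1) (hz : z * z = 1) (h : g * z * g = w) (ha : a = z * w)
    (hw : w * z = z * w) : g * z * g⁻¹ = z * a ∧ g * a * g⁻¹ = a := by
  have e : g⁻¹ = g := inv_eq_of_mul_eq_one_right hg
  rw [e, ha, h]
  refine ⟨by rw [← mul_assoc, hz, one_mul], ?_⟩
  calc g * (z * w) * g = (g * z * g) * (g * w * g) := by
        rw [show (g * z * g) * (g * w * g) = g * z * (g * g) * w * g by group, hg]; group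
    _ = w * z := by
        rw [h, ← h, show g * (g * z * g) * g = (g * g) * z * (g * g) by group, hg, one_mul, mul_one]
    _ = z * w := hw

end Grp

variable {F M G : Type*} [Field F] [AddCommGroup M] [Module F M] [Group G] {σ : G →* Module.End F M}
  {E : Type*} [Group E] {X : _root_.Cfsg.Agent.H863.SExt.Ext σ E}

theorem Edge.fx {z p y x u : G} (hz : z * z = 1) (h : Edge z p y x u) (hf : Fx σ (centralizer {z, p, y})) :
    Fx σ (centralizer {z, x, u}) := by
  obtain ⟨g, h1, h2, h3⟩ := h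
  refine (fx_cj hf g).mono fun k hk => ?_
  rw [cjS_c3, h1, mem_c3] at hk
  exact mem_c3.2 ⟨hk.1, (h2.symm hz).comm hk.1 hk.2.1, (h3.symm hz).comm hk.1 hk.2.2⟩

theorem Tri.fx {z p y c x u w : G} (hz : z * z = 1) (h : Tri z p y c x u w) (hf : Fx σ (centralizer {z, p, y, c})) :
    Fx σ (centralizer {z, x, u, w}) := by
  obtain ⟨g, h1, h2, h3, h4⟩ := h
  refine (fx_cj hf g).mono fun k hk => ?_
  rw [cjS_c4, h1, mem_c4] at hk
  exact mem_c4.2 ⟨hk.1, (h2.symm hz).comm hk.1 hk.2.1, (h3.symm hz).comm hk.1 hk.2.2.1,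
    (h4.symm hz).comm hk.1 hk.2.2.2⟩

variable (X) in
/-- The setting with rigidity of the solids. -/
structure Setting2 (z p y c : G) (S0 : Subgroup E) : Prop where
  T : Setting X z p y (z * y) S0
  fx : Fx σ (centralizer {z, p, y, c})
  ha : ∃ a, a * z * a⁻¹ = z ∧ a * p * a⁻¹ = z * p ∧ a * y * a⁻¹ = y
  hb : ∃ b, b * z * b⁻¹ = z ∧ b * p * b⁻¹ = p ∧ b * y * b⁻¹ = z * y

variable (X) in
/-- A path of length two from the base line. -/
def Path (z p : G) (S0 S : Subgroup E) (m a : G) : Prop :=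
  ∃ Sm, Rel X z p S0 S0 p Sm m ∧ Rel X z p S0 Sm m S a

namespace Setting2

variable {z p y c : G} {S0 : Subgroup E} (U : Setting2 X z p y c S0)

include U

theorem fx3 : Fx σ (centralizer {z, p, y}) := U.fx.mono c4_le_c3

theorem fx2 : Fx σ (centralizer {z, p}) := U.fx3.mono (c3_le_swap.trans c3_le_c2)

theorem exists_path {m a : G} (h1 : Edge z p y p m) (h2 : Edge z p y m a) : ∃ S, Path X z p S0 S m a := by
  obtain ⟨Sm, r1⟩ := U.T.exists_rel adm_base h1
  obtain ⟨S, r2⟩ := U.T.exists_rel r1.2.1 h2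
  exact ⟨S, Sm, r1, r2⟩

theorem path_lift {S : Subgroup E} {m a : G} (h : Path X z p S0 S m a) : IsLift X S (centralizer {z, a}) := by
  obtain ⟨Sm, -, r2⟩ := h
  exact r2.2.1.lift U.T.lift

theorem path_fx {m a : G} (h2 : Edge z p y m a) : Fx σ (centralizer {z, a}) :=
  (h2.fx U.T.zz U.fx3).mono c3_le_c2

theorem path_norm {S : Subgroup E} {m a : G} (h : Path X z p S0 S m a) (h1 : Edge z p y p m) (h2 : Edge z p y m a)
    {e : E} (he : e ∈ normalizer (S0 : Set E)) (ez : X.π e * z * (X.π e)⁻¹ = z)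
    (ep : Md z p (X.π e * p * (X.π e)⁻¹)) (em : Md z m (X.π e * m * (X.π e)⁻¹))
    (ea : Md z a (X.π e * a * (X.π e)⁻¹)) : e ∈ normalizer (S : Set E) := by
  obtain ⟨Sm, r1, r2⟩ := h
  exact U.T.norm_rel r2 (h2.fx U.T.zz U.fx3) (U.T.norm_rel r1 (h1.fx U.T.zz U.fx3) he ez ep em) ez em ea

theorem path_sw {S : Subgroup E} {m a g : G} (h : Path X z p S0 S m a)
    (hg : g * z * g⁻¹ = z * a ∧ g * a * g⁻¹ = a) : ∃ e ∈ normalizer (S : Set E), X.π e = g := by
  obtain ⟨Sm, -, r2⟩ := h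
  exact U.T.exists_norm_sw r2.2.1 hg.1 hg.2

theorem comm0 {S : Subgroup E} {m a q : G} (h : Path X z p S0 S m a) (t1 : Tri z p y c m q p)
    (t2 : Tri z p y c a q m) {e f : E} (he : e ∈ normalizer (S0 : Set E)) (hf : f ∈ normalizer (S : Set E))
    (e1 : X.π e * z * (X.π e)⁻¹ = z * p ∧ X.π e * p * (X.π e)⁻¹ = p)
    (e2 : m * X.π e = X.π e * m) (e3 : q * X.π e = X.π e * q)
    (f1 : X.π f * z * (X.π f)⁻¹ = z * a ∧ X.π f * a * (X.π f)⁻¹ = a)
    (f2 : m * X.π f = X.π f * m) (f3 : q * X.π f = X.π f * q)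
    (hc : X.π e * X.π f = X.π f * X.π e) : e * f = f * e := by
  obtain ⟨Sm, r1, r2⟩ := h
  exact U.T.comm r1 r2.symm (t1.edge.off U.T.zz U.ha U.hb) ((t1.fx U.T.zz U.fx).mono c4_le_cab)
    ((t2.fx U.T.zz U.fx).mono c4_le_acb) he hf e1.1 e1.2 (conj_of_comm e2) (conj_of_comm e3) f1.1 f1.2
    (conj_of_comm f2) (conj_of_comm f3) hc

theorem rel_q {S S' : Subgroup E} {m a q : G} (h : Path X z p S0 S m a) (r0 : Rel X z p S0 S0 p S' q)
    (t1 : Tri z p y c m q p) (t2 : Tri z p y c a q m) : Rel X z p S0 S a S' q := by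
  obtain ⟨Sm, r1, r2⟩ := h
  have r3 := U.T.tri r1.symm r0 t1.edge ((t1.fx U.T.zz U.fx).mono c4_le_acb)
  exact U.T.tri r2.symm r3 t2.edge ((t2.fx U.T.zz U.fx).mono c4_le_acb)

theorem comm1 {S S' : Subgroup E} {m a m' a' q r : G} (h : Path X z p S0 S m a) (h' : Path X z p S0 S' m' a')
    (h0 : Edge z p y p q) (t1 : Tri z p y c m q p) (t2 : Tri z p y c a q m)
    (t1' : Tri z p y c m' q p) (t2' : Tri z p y c a' q m') (o : Tri z p y c q r a) (o' : Tri z p y c q r a')
    {e f : E} (he : e ∈ normalizer (S : Set E)) (hf : f ∈ normalizer (S' : Set E))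
    (e1 : X.π e * z * (X.π e)⁻¹ = z * a ∧ X.π e * a * (X.π e)⁻¹ = a)
    (e2 : q * X.π e = X.π e * q) (e3 : r * X.π e = X.π e * r)
    (f1 : X.π f * z * (X.π f)⁻¹ = z * a' ∧ X.π f * a' * (X.π f)⁻¹ = a')
    (f2 : q * X.π f = X.π f * q) (f3 : r * X.π f = X.π f * r)
    (hc : X.π e * X.π f = X.π f * X.π e) : e * f = f * e := by
  obtain ⟨Sq, r0⟩ := U.T.exists_rel adm_base h0
  exact U.T.comm (U.rel_q h r0 t1 t2) (U.rel_q h' r0 t1' t2') (o.edge.off U.T.zz U.ha U.hb)
    ((o.fx U.T.zz U.fx).mono c4_le_cab) ((o'.fx U.T.zz U.fx).mono c4_le_cab) he hf e1.1 e1.2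
    (conj_of_comm e2) (conj_of_comm e3) f1.1 f1.2 (conj_of_comm f2) (conj_of_comm f3) hc

end Setting2

end Cfsg.Agent.B5591.LGAbs
end

-- part: B5591/LGSet
section
/-!
# S5591: the setting of the gluing argument in the model
-/

set_option autoImplicit false

namespace Cfsg.Agent.B5591.LGSet

open Cfsg.Agent.Monster Cfsg.Agent.Monster.VecEngine Cfsg.Agent.Monster.VecSpace
open Cfsg.Agent.Monster.PauliBasic Cfsg.Agent.Monster.PauliBits
open Cfsg.Agent.BabyM.Conc Cfsg.Agent.BabyM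
open Cfsg.Agent.H863.BRep Cfsg.Agent.H863.SExt Cfsg.Agent.H863.BCode Cfsg.Agent.H863.BGrp Cfsg.Agent.H863.SMod
open Cfsg.Agent.B5591.Geo Cfsg.Agent.B5591.LGAbs Subgroup

theorem zz_sq : zz * zz = 1 := z_sq

theorem r_z (y : Pauli 11) : r y * zz = zz * r y := z_comm (r_mem y)

theorem q_z (c : ℕ) : q c * zz = zz * q c := r_z _

theorem pp_eq : pp = q 0x400 := gE_Z10

theorem pp_sq : pp * pp = 1 := z1_sq

theorem zp : zz * pp = pp * zz := by rw [pp_eq, q_z]

theorem y_eq : q 0x4ea = pp * q 0xea := n0_eq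

theorem ea_eq : q 0xea = pp * q 0x4ea := by rw [y_eq, ← mul_assoc, pp_sq, one_mul]

theorem md_of_or {g x y : G} (hx : x * zz = zz * x) (h : g * y = x * g ∨ g * y = x * zz * g) :
    Md zz x (g * y * g⁻¹) := by
  rcases h with h | h
  · exact Or.inl (conj_of_mul h)
  · exact Or.inr ((conj_of_mul h).trans hx)

theorem md_of_Cj {g : G} {a b c : ℕ} (h : Cj g.1 a b) (hc : b = c &&& 0x3fffff) : Md zz (q c) (g * q a * g⁻¹) :=
  md_of_or (q_z c) (of_Cj h (p := dec 11 a) rfl (w := dec 11 c) (by rw [hc, ab_dec_mask]))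

theorem md_Q (y : Pauli 11) (c : ℕ) : Md zz (q c) (r y * q c * (r y)⁻¹) := by
  apply md_of_or (q_z c)
  have h1 : Pauli.form y (dec 11 c) = 0 ∨ Pauli.form y (dec 11 c) = 1 := by
    generalize Pauli.form y (dec 11 c) = a
    revert a; decide
  unfold q
  rcases h1 with h1 | h1
  · left
    rw [← map_mul, ← map_mul, pauli_comm _ _ h1]
  · right
    rw [← map_mul, comm_of_form _ _ h1, map_mul, map_mul, ← gE_z]
    rfl

/-- The check of a triple. -/
noncomputable def triC (w : List Ltr) (a b c : ℕ) : Bool :=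
  and (allW w) (and (Nat.beq (lw w 0x400) (Nat.land a 0x3fffff))
    (and (Nat.beq (lw w 0x4ea) (Nat.land b 0x3fffff)) (Nat.beq (lw w 0x9) (Nat.land c 0x3fffff))))

/-- The check of a pair. -/
noncomputable def edgeC (w : List Ltr) (a b : ℕ) : Bool :=
  and (allW w) (and (Nat.beq (lw w 0x400) (Nat.land a 0x3fffff)) (Nat.beq (lw w 0x4ea) (Nat.land b 0x3fffff)))

theorem md_word {w : List Ltr} (h : allW w = true) {a c : ℕ} (hc : Nat.beq (lw w a) (Nat.land c 0x3fffff) = true) :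
    Md zz (q c) (gW w * q a * (gW w)⁻¹) :=
  md_of_Cj (g := gW w) (Cj_word w h a) (Nat.eq_of_beq_eq_true hc)

theorem z_word {w : List Ltr} (h : allW w = true) : gW w * zz * (gW w)⁻¹ = zz :=
  conj_of_mul (z_comm (g := gW w) (W_mem_C w h))

theorem tri_of {w : List Ltr} {a b c : ℕ} (h : triC w a b c = true) :
    Tri zz pp (q 0x4ea) (q 0x9) (q a) (q b) (q c) := by
  unfold triC at h
  rw [Bool.and_eq_true, Bool.and_eq_true, Bool.and_eq_true] at h
  refine ⟨gW w, z_word h.1, ?_, md_word h.1 h.2.2.1, md_word h.1 h.2.2.2⟩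
  rw [pp_eq]
  exact md_word h.1 h.2.1

theorem edge_of {w : List Ltr} {a b : ℕ} (h : edgeC w a b = true) : Edge zz pp (q 0x4ea) (q a) (q b) := by
  unfold edgeC at h
  rw [Bool.and_eq_true, Bool.and_eq_true] at h
  refine ⟨gW w, z_word h.1, ?_, md_word h.1 h.2.2⟩
  rw [pp_eq]
  exact md_word h.1 h.2.1

/-! ### Normalisers -/

/-- `g` normalises the flag. -/
structure Fl (g : G) : Prop where
  z : g * zz * g⁻¹ ∈ _root_.Subgroup.closure ({zz, pp, q 0xea} : Set G)
  p : g * pp * g⁻¹ ∈ _root_.Subgroup.closure ({zz, pp, q 0xea} : Set G)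
  a : Md zz (q 0xea) (g * q 0xea * g⁻¹)
  b : Md zz (q 0x9) (g * q 0x9 * g⁻¹)
  c : Md zz (q 0x140) (g * q 0x140 * g⁻¹)

theorem Fl.kp {g : G} (h : Fl g) : g ∈ normalizer (KP : Set G) := by
  apply mem_normalizer_cent
  rw [Set.forall_mem_insert, Set.forall_mem_insert, fs]
  exact ⟨h.z, h.p, h.a.mem_closure (Set.mem_insert _ _)
    (Set.mem_insert_of_mem _ (Set.mem_insert_of_mem _ (Set.mem_singleton _)))⟩

theorem Fl.ks {g : G} (h : Fl g) : g ∈ normalizer (KS : Set G) := by
  have e : _root_.Subgroup.closure ({zz, pp, q 0xea} : Set G) ≤ _root_.Subgroup.closure {zz, pp, q 0xea, q 0x9} := _root_.Subgroup.closure_mono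
    (Set.insert_subset_insert (Set.insert_subset_insert (Set.singleton_subset_iff.2 (Set.mem_insert _ _))))
  apply mem_normalizer_cent
  rw [Set.forall_mem_insert, Set.forall_mem_insert, Set.forall_mem_insert, fs]
  exact ⟨e h.z, e h.p, h.a.mem_closure (Set.mem_insert _ _)
    (Set.mem_insert_of_mem _ (Set.mem_insert_of_mem _ (Set.mem_insert _ _))),
    h.b.mem_closure (Set.mem_insert _ _)
    (Set.mem_insert_of_mem _ (Set.mem_insert_of_mem _ (Set.mem_insert_of_mem _ (Set.mem_singleton _))))⟩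

theorem Fl.ko {g : G} (h : Fl g) : g ∈ normalizer (KO : Set G) := by
  have e : _root_.Subgroup.closure ({zz, pp, q 0xea} : Set G) ≤ _root_.Subgroup.closure {zz, pp, q 0xea, q 0x9, q 0x140} := _root_.Subgroup.closure_mono
    (Set.insert_subset_insert (Set.insert_subset_insert (Set.singleton_subset_iff.2 (Set.mem_insert _ _))))
  apply mem_normalizer_cent
  rw [Set.forall_mem_insert, Set.forall_mem_insert, Set.forall_mem_insert, Set.forall_mem_insert, fs]
  exact ⟨e h.z, e h.p, h.a.mem_closure (Set.mem_insert _ _)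
    (Set.mem_insert_of_mem _ (Set.mem_insert_of_mem _ (Set.mem_insert _ _))),
    h.b.mem_closure (Set.mem_insert _ _)
    (Set.mem_insert_of_mem _ (Set.mem_insert_of_mem _ (Set.mem_insert_of_mem _ (Set.mem_insert _ _)))),
    h.c.mem_closure (Set.mem_insert _ _)
    (Set.mem_insert_of_mem _ (Set.mem_insert_of_mem _ (Set.mem_insert_of_mem _ (Set.mem_insert_of_mem _
      (Set.mem_singleton _)))))⟩

theorem z_mem3 : zz ∈ _root_.Subgroup.closure ({zz, pp, q 0xea} : Set G) := _root_.Subgroup.subset_closure (Set.mem_insert _ _)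

theorem p_mem3 : pp ∈ _root_.Subgroup.closure ({zz, pp, q 0xea} : Set G) :=
  _root_.Subgroup.subset_closure (Set.mem_insert_of_mem _ (Set.mem_insert _ _))

theorem a_mem3 : q 0xea ∈ _root_.Subgroup.closure ({zz, pp, q 0xea} : Set G) :=
  _root_.Subgroup.subset_closure (Set.mem_insert_of_mem _ (Set.mem_insert_of_mem _ (Set.mem_singleton _)))

theorem n0_of {g : G} (h1 : g * zz * g⁻¹ = zz ∨ g * zz * g⁻¹ = pp) (h2 : g * pp * g⁻¹ = zz * pp) :
    g ∈ normalizer (N0 : Set G) := by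
  have e1 : zz ∈ _root_.Subgroup.closure ({zz, pp} : Set G) := _root_.Subgroup.subset_closure (Set.mem_insert _ _)
  have e2 : pp ∈ _root_.Subgroup.closure ({zz, pp} : Set G) := _root_.Subgroup.subset_closure (Set.mem_insert_of_mem _ (Set.mem_singleton _))
  apply mem_normalizer_cent
  rw [Set.forall_mem_insert, fs, h2]
  refine ⟨?_, mul_mem e1 e2⟩
  rcases h1 with h1 | h1 <;> rw [h1]
  exacts [e1, e2]

theorem anti_q {c c' : ℕ} (h : fm c c' = true) : q c * q c' * (q c)⁻¹ = zz * q c' :=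
  conj_of_mul (anti_codes h)

theorem comm_q {c c' : ℕ} (h : fm c c' = false) : q c * q c' * (q c)⁻¹ = q c' :=
  conj_of_mul (comm_codes h)

theorem qz (c : ℕ) : q c * zz * (q c)⁻¹ = zz := conj_of_mul (q_z c)

theorem rho_p : q 0x200000 * pp * (q 0x200000)⁻¹ = zz * pp := by
  rw [pp_eq]
  exact anti_q (by decide +kernel)

theorem fl_rho : Fl (q 0x200000) where
  z := by rw [qz]; exact z_mem3
  p := by rw [rho_p]; exact mul_mem z_mem3 p_mem3
  a := md_Q _ _
  b := md_Q _ _
  c := md_Q _ _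

theorem tau_z : gE .tau * zz * (gE .tau)⁻¹ = pp := conj_of_mul tz

theorem tau_p : gE .tau * pp * (gE .tau)⁻¹ = zz * pp := (conj_of_mul tz1).trans zp.symm

theorem fl_tau : Fl (gE .tau) where
  z := by rw [tau_z]; exact p_mem3
  p := by rw [tau_p]; exact mul_mem z_mem3 p_mem3
  a := Or.inl (conj_of_mul tau_ea)
  b := Or.inl (conj_of_mul (tau_R (v := [.Z0, .Z3]) (by decide) (by decide) (by decide +kernel)))
  c := Or.inl (conj_of_mul (tau_R (v := [.Z6, .Z8]) (by decide) (by decide) (by decide +kernel)))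

theorem xi_z : gE .xi * zz * (gE .xi)⁻¹ = zz := conj_of_mul (z_comm (gE_mem rfl))

theorem xi_p : gE .xi * pp * (gE .xi)⁻¹ = q 0x4ea := conj_of_mul xiz1

theorem fl_xi : Fl (gE .xi) where
  z := by rw [xi_z]; exact z_mem3
  p := by rw [xi_p, y_eq]; exact mul_mem p_mem3 a_mem3
  a := md_of_Cj (g := gE .xi) (Cj_letter (l := .xi) rfl _) (by decide +kernel)
  b := md_of_Cj (g := gE .xi) (Cj_letter (l := .xi) rfl _) (by decide +kernel)
  c := md_of_Cj (g := gE .xi) (Cj_letter (l := .xi) rfl _) (by decide +kernel)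

theorem tau_y : gE .tau * q 0x4ea * (gE .tau)⁻¹ = zz * q 0x4ea := (conj_of_mul t_n0).trans (q_z _)

theorem h3 {n : ℕ} (h : ¬ 3 ∣ n) : (n : F3) ≠ 0 := fun e => h ((ZMod.natCast_eq_zero_iff n 3).1 e)

variable {M : Type} [AddCommGroup M] [Module F3 M] {σ : G →* Module.End F3 M} {E : Type} [Group E] {X : _root_.Cfsg.Agent.H863.SExt.Ext σ E}

theorem setting (bS : BoxKS) (b0 : BoxGen0) (bP : BoxGenP) (hf : Fx σ KO) {S0 : Subgroup E} (h0 : IsLift X S0 N0) :
    Setting2 X zz pp (q 0x4ea) (q 0x9) S0 := by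
  have h1 : H1 σ KS := h1_of_card (h3 bS)
  have hL : KS ≤ N0 := KS_le_KP.trans KP_le_N0
  refine ⟨⟨zz_sq, pp_sq, zp, h0, ?_, ?_, ?_, ?_⟩, ?_, ?_, ?_⟩
  · obtain ⟨e, he, h⟩ := gl h0 KO_le_KS hL hf h1 b0 fl_rho.ko fl_rho.ks (n0_of (Or.inl (qz _)) rho_p)
    exact ⟨e, he, by rw [h, qz], by rw [h, rho_p]⟩
  · obtain ⟨e, he, h⟩ := gl h0 KO_le_KS hL hf h1 b0 fl_tau.ko fl_tau.ks (n0_of (Or.inr tau_z) tau_p)
    exact ⟨e, he, by rw [h, tau_z], by rw [h, tau_p]⟩
  · obtain ⟨S, h2, h4⟩ := plane h0 KO_le_KS KS_le_KP KP_le_N0 hf h1 bP fl_xi.ko fl_xi.ks fl_xi.kp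
    rw [xi_z, xi_p] at h2
    refine ⟨S, h2, h4.mono fun k hk => ?_⟩
    rw [mem_c3] at hk
    refine mem_c3.2 ⟨hk.1, hk.2.1, ?_⟩
    rw [ea_eq]
    exact comm_mul hk.2.1 hk.2.2
  · obtain ⟨S, h2, h4⟩ := plane h0 KO_le_KS KS_le_KP KP_le_N0 hf h1 bP (mul_mem fl_tau.ko fl_xi.ko)
      (mul_mem fl_tau.ks fl_xi.ks) (mul_mem fl_tau.kp fl_xi.kp)
    have key2 : ∀ g k s : G, g * k * s * (g * k)⁻¹ = g * (k * s * k⁻¹) * g⁻¹ := fun g s t => by group
    rw [key2, key2, xi_z, xi_p, tau_z, tau_y] at h2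
    refine ⟨S, h2, h4.mono fun k hk => ?_⟩
    rw [mem_c3] at hk
    refine mem_c3.2 ⟨hk.1, hk.2.1, ?_⟩
    have e : q 0xea = pp * (zz * (zz * q 0x4ea)) := by rw [← mul_assoc zz, zz_sq, one_mul, ea_eq]
    rw [e]
    exact comm_mul hk.2.1 (comm_mul hk.1 hk.2.2)
  · refine hf.mono (KO_le_KS.trans fun k hk => ?_)
    have h2 := mem_c4.1 hk
    refine mem_c4.2 ⟨h2.1, h2.2.1, ?_, h2.2.2.2⟩
    rw [y_eq]
    exact comm_mul h2.2.1 h2.2.2.1
  · refine ⟨q 0x201000, qz _, ?_, comm_q (by decide +kernel)⟩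
    rw [pp_eq]
    exact anti_q (by decide +kernel)
  · refine ⟨q 0x1000, qz _, ?_, anti_q (by decide +kernel)⟩
    rw [pp_eq]
    exact comm_q (by decide +kernel)

end Cfsg.Agent.B5591.LGSet
end

private theorem dce_0522ab2fe6c1 : _root_.True := by
  try have : _root_.True := by simp only [_root_.Cfsg.Agent.B5591.pairing.eq_1]
  try have : _root_.True := by simp only [_root_.Cfsg.Agent.B5591.cube.eq_1]
  exact _root_.True.intro
end

-- part: B5591/LocOrb
section
prune_inst 0x10000000000000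
set_option linter.all false
open scoped Cfsg.Agent.FastGrp

/-!
# S5591: the orbits of `NN` on the signed axes; words acting on axes
-/

set_option autoImplicit false

namespace Cfsg.Agent.B5591.LocOrb

open Cfsg.Agent.Monster Cfsg.Agent.Monster.VecEngine Cfsg.Agent.Monster.VecSpace
open Cfsg.Agent.BabyM.Conc Cfsg.Agent.BabyM Cfsg.Agent.BabyM.CertVec Cfsg.Agent.BabyM.CertInv
open Cfsg.Agent.H863 Cfsg.Agent.H863.BRep Cfsg.Agent.H863.BVec Cfsg.Agent.H863.SMod
open Cfsg.Agent.B5591.Geo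

theorem tab : CertAbs.Tab N C (E .xi) τ (0 : Fin 462) v Inst.d CertAsm.jof CertAsm.root CertAsm.tpF CertAsm.tmF
    CertAsm.tgtF := CertAsm.tab (OrbInst.nb KLink.link)

theorem mem_iff (x : V) : x ∈ MulAction.orbit G Inst.M.d₀ ↔ x ∈ Inst.M.D := by
  rw [Count.D_eq_orbit Instance.all.orb]

theorem v_mem (r : Fin 19) : v r ∈ MulAction.orbit G Inst.M.d₀ := by
  rw [mem_iff]
  obtain ⟨g, hg⟩ := tab.rep r
  exact ⟨CertAsm.jof r, g.1, g.2, hg.symm⟩

/-- The representatives of the orbits. -/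
noncomputable def ax (r : Fin 19) : Ax := ⟨v r, v_mem r⟩

/-- Every signed axis is in the orbit of a representative. -/
theorem cov (p : Ax) : ∃ r : Fin 19, ∃ n ∈ NN, p = n • ax r := by
  obtain ⟨j, g, hg, h⟩ := (mem_iff _).1 p.2
  obtain ⟨r, -, n, hn⟩ := tab.cov (OrbInst.nb KLink.link).xi j (p : V) ⟨⟨g, hg⟩, h.symm⟩
  exact ⟨r, ⟨n.1, InstMem.C_le_G (N_le_C n.2)⟩, n.2, Subtype.ext hn.symm⟩

theorem d0_eq : d0 = ax 0 := Subtype.ext (Inst.d_zero.symm.trans (CertAsm.dv_eq 0))

theorem phi_ax (r : Fin 19) : phi (ax r) = -((val (yv r) 1344 : ℤ) : F3) := phi_of rfl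

/-! ### Words -/

theorem gW_nil : gW [] = 1 := Subtype.ext W_nil

theorem gW_cons (l : Ltr) (w : List Ltr) : gW (l :: w) = gW w * gE l := Subtype.ext (W_cons l w)

theorem gW_single (l : Ltr) : gW [l] = gE l := Subtype.ext (W_single l)

/-- The check of an identity between axes. -/
noncomputable def axC (w : List Ltr) (r : ℕ) (w' : List Ltr) (s : ℕ) : Bool :=
  check (w.map Ltr.prog) (yv r) (w'.map Ltr.prog) (yv s)

/-- The check of an identity between an axis and the negative of an axis. -/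
noncomputable def axN (w : List Ltr) (r : ℕ) (w' : List Ltr) (s : ℕ) : Bool :=
  check (w.map Ltr.prog) (yv r) (w'.map Ltr.prog) (VecEngine.neg U (yv s))

theorem ax_eq {w w' : List Ltr} {r s : Fin 19} (h : axC w r w' s = true) : gW w • ax r = gW w' • ax s :=
  Subtype.ext (CertAsm.W_v (W_eq_of_check h))

theorem vecU_neg (P : Pl) : vecU ℚ U (VecEngine.neg U P) = -vecU ℚ U P := by
  funext i
  show ((val (VecEngine.neg U P) i.1 : ℤ) : ℚ) = -((val P i.1 : ℤ) : ℚ)
  rw [val_neg, if_pos i.2, Int.cast_neg]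

theorem ax_neg {w w' : List Ltr} {r s : Fin 19} (h : axN w r w' s = true) : gW w • ax r = neg (gW w' • ax s) := by
  apply Subtype.ext
  have h1 := W_eq_of_check h
  rw [vecU_neg, map_neg] at h1
  show W w (v r) = -(W w' (v s))
  rw [map_v, map_v, h1, smul_neg]

/-- The letters of `NN`. -/
def inN : Ltr → Bool
  | .xi => false
  | .xii => false
  | .tau => false
  | .taui => false
  | _ => true

theorem step {a b : Ltr} (h : W [a, .p] = W [b]) (ha : E a ∈ N) : E b ∈ N := by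
  rw [InstMem.W_two, W_single] at h
  rw [← h]
  exact N.mul_mem (E_mem_N rfl) ha

theorem gE_mem_NN {l : Ltr} (h : inN l = true) : gE l ∈ NN := by
  have p1 : E .p ∈ N := E_mem_N rfl
  have p2 := step ConcEq.w_p2 p1
  have p3 := step ConcEq.w_p3 p2
  have p4 := step ConcEq.w_p4 p3
  have p5 := step ConcEq.w_p5 p4
  have p6 := step ConcEq.w_p6 p5
  have p7 := step ConcEq.w_p7 p6
  have p8 := step ConcEq.w_p8 p7
  have p9 := step ConcEq.w_p9 p8
  have p10 := step ConcEq.w_p10 p9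
  show E l ∈ N
  cases l
  case z => exact Q_le_N InstMem.z_mem_Q
  case p2 => exact p2
  case p3 => exact p3
  case p4 => exact p4
  case p5 => exact p5
  case p6 => exact p6
  case p7 => exact p7
  case p8 => exact p8
  case p9 => exact p9
  case p10 => exact p10
  case hi => rw [InstMem.hi_eq]; exact N.inv_mem (E_mem_N rfl)
  case xi => exact absurd h (by decide)
  case xii => exact absurd h (by decide)
  case tau => exact absurd h (by decide)
  case taui => exact absurd h (by decide)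
  all_goals exact E_mem_N rfl

theorem gW_mem_NN {w : List Ltr} (h : w.all inN = true) : gW w ∈ NN := by
  induction w with
  | nil => rw [gW_nil]; exact NN.one_mem
  | cons l w ih =>
    rw [List.all_cons, Bool.and_eq_true] at h
    rw [gW_cons]
    exact NN.mul_mem (ih h.2) (gE_mem_NN h.1)

/-- The letters `y_k`. -/
def isY : Ltr → Bool
  | .y1 => true
  | .y2 => true
  | .y3 => true
  | .y4 => true
  | .y5 => true
  | .y6 => true
  | .y7 => true
  | .y8 => true
  | .y9 => true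
  | .y10 => true
  | _ => false

/-- The letters of `R0`. -/
def inR (l : Ltr) : Bool := or (KQ.isq l) (isY l)

theorem gE_mem_R {l : Ltr} (h : inR l = true) : gE l ∈ R0 := by
  unfold inR at h
  rw [Bool.or_eq_true] at h
  rcases h with h | h
  · exact QQ_le_R0 ⟨_, Subtype.ext (KQ.E_cl h).symm⟩
  · apply gE_mem_R0
    cases l <;> first | exact absurd h (by decide) | simp

theorem gW_mem_R {w : List Ltr} (h : w.all inR = true) : gW w ∈ R0 := by
  induction w with
  | nil => rw [gW_nil]; exact R0.one_mem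
  | cons l w ih =>
    rw [List.all_cons, Bool.and_eq_true] at h
    rw [gW_cons]
    exact R0.mul_mem (ih h.2) (gE_mem_R h.1)

theorem isN_cases {l : Ltr} (h : isN l = true) : inR l = true ∨ l = .p ∨ l = .h := by
  cases l <;>
    first | exact absurd h (by decide) | exact Or.inl rfl | exact Or.inr (Or.inl rfl) | exact Or.inr (Or.inr rfl)

/-- Induction over `NN`. -/
theorem NN_le {H : Subgroup G} (h0 : R0 ≤ H) (hp : gE .p ∈ H) (hh : gE .h ∈ H) : NN ≤ H := by
  have key : N ≤ H.map Inst.M.G.subtype := by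
    unfold N
    rw [Subgroup.closure_le]
    rintro _ ⟨l, hl, rfl⟩
    refine ⟨gE l, ?_, rfl⟩
    rcases isN_cases hl with h | rfl | rfl
    exacts [h0 (gE_mem_R h), hp, hh]
  intro g hg
  obtain ⟨k, hk, e⟩ := key hg
  rwa [← Subtype.ext e]

/-! ### `R0` is normal in `NN` -/

theorem norm_of {g : G} (hg : g ∈ CC)
    (h : ∀ l ∈ [Ltr.y1, .y2, .y3, .y4, .y5, .y6, .y7, .y8, .y9, .y10], g * gE l * g⁻¹ ∈ R0) :
    g ∈ Subgroup.normalizer (R0 : Set G) := by
  rw [mem_normalizer_iff_cjS]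
  apply Subgroup.eq_of_le_of_card_ge
  · unfold cjS
    rw [Subgroup.map_le_iff_le_comap]
    nth_rewrite 1 [R0]
    rw [Subgroup.closure_le]
    rintro _ (⟨y, rfl⟩ | ⟨l, hl, rfl⟩)
    · obtain ⟨α, hα⟩ := nrm g hg
      apply QQ_le_R0
      exact ⟨α y, by
        show r (α y) = g * r y * g⁻¹
        rw [hα, mul_inv_cancel_right]⟩
    · exact h l hl
  · exact (Subgroup.card_map_of_injective (MulAut.conj g).injective).ge

theorem cj_mem {a l : Ltr} {w : List Ltr} (h : BM.StageW.chk [l, a] (a :: w) = true) (hw : w.all inR = true) :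
    gE a * gE l * (gE a)⁻¹ ∈ R0 := by
  have h1 := gW_eq h
  rw [gW_cons, gW_single, gW_cons] at h1
  rw [h1, mul_inv_cancel_right]
  exact gW_mem_R hw

theorem p_norm : gE .p ∈ Subgroup.normalizer (R0 : Set G) := by
  apply norm_of (BGrp.gE_mem rfl)
  intro l hl
  simp only [List.mem_cons, List.not_mem_nil, or_false] at hl
  rcases hl with rfl | rfl | rfl | rfl | rfl | rfl | rfl | rfl | rfl | rfl
  · exact cj_mem (w := [.y4, .y10, .Z0, .Z4, .Z5]) (by decide +kernel) rfl
  · exact cj_mem (w := [.y6]) (by decide +kernel) rfl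
  · exact cj_mem (w := [.y2, .y4, .y8, .y10, .Z4, .Z6]) (by decide +kernel) rfl
  · exact cj_mem (w := [.y2, .y4, .y6, .y10, .Z4, .Z5, .Z7, .Z8]) (by decide +kernel) rfl
  · exact cj_mem (w := [.y6, .y8, .y10, .Z0, .Z1, .Z6, .Z8]) (by decide +kernel) rfl
  · exact cj_mem (w := [.y1, .y4, .y8, .Z1, .Z5, .Z6, .Z8]) (by decide +kernel) rfl
  · exact cj_mem (w := [.y2, .y3, .y4, .y6, .Z0, .Z1, .Z2, .Z3, .Z4, .Z5, .Z6, .Z7, .Z8, .Z9]) (by decide +kernel) rfl
  · exact cj_mem (w := [.y2, .y4, .y5, .y6, .y8, .Z0, .Z1, .Z4, .Z5, .Z8, .Z9]) (by decide +kernel) rfl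
  · exact cj_mem (w := [.y4, .y6, .y7, .y8, .y10, .Z0, .Z1, .Z2, .Z5, .Z6, .Z7, .Z8]) (by decide +kernel) rfl
  · exact cj_mem (w := [.y2, .y6, .y8, .y9, .y10, .Z1, .Z4, .Z6, .Z7, .Z8, .Z9]) (by decide +kernel) rfl

theorem h_norm : gE .h ∈ Subgroup.normalizer (R0 : Set G) := by
  apply norm_of (BGrp.gE_mem rfl)
  intro l hl
  simp only [List.mem_cons, List.not_mem_nil, or_false] at hl
  rcases hl with rfl | rfl | rfl | rfl | rfl | rfl | rfl | rfl | rfl | rfl
  · exact cj_mem (w := [.y1]) (by decide +kernel) rfl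
  · exact cj_mem (w := [.y2]) (by decide +kernel) rfl
  · exact cj_mem (w := [.y3]) (by decide +kernel) rfl
  · exact cj_mem (w := [.y2, .y3, .y8, .Z1, .Z2, .Z5, .Z6, .Z7, .Z8, .Z9]) (by decide +kernel) rfl
  · exact cj_mem (w := [.y2, .y9, .Z2, .Z6]) (by decide +kernel) rfl
  · exact cj_mem (w := [.y6]) (by decide +kernel) rfl
  · exact cj_mem (w := [.y2, .y3, .y10, .Z0, .Z1, .Z2, .Z3, .Z4, .Z7, .Z9]) (by decide +kernel) rfl
  · exact cj_mem (w := [.y2, .y3, .y4, .Z1, .Z2, .Z3, .Z5, .Z6, .Z8, .Z9]) (by decide +kernel) rfl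
  · exact cj_mem (w := [.y2, .y5, .Z2, .Z3, .Z6, .Z7]) (by decide +kernel) rfl
  · exact cj_mem (w := [.y2, .y3, .y7, .Z0, .Z1, .Z2, .Z3, .Z4, .Z6, .Z7]) (by decide +kernel) rfl

theorem R0_norm : NN ≤ Subgroup.normalizer (R0 : Set G) := NN_le Subgroup.le_normalizer p_norm h_norm

/-! ### The sign on the vector of the line -/

theorem fix_w {w : List Ltr} (h : check (w.map Ltr.prog) (p1 1344) [] (p1 1344) = true) : σV (gW w) wV = wV := by
  have h1 := W_eq_of_check (v₁ := w) (v₂ := []) h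
  rw [W_nil] at h1
  have h2 := tr two_ne (gW w) (x := zv (p1 bI.1)) (y := zv (p1 bI.1)) h1
  rwa [up_p1] at h2

theorem neg_w {w : List Ltr} (h : check (w.map Ltr.prog) (p1 1344) [] (m1 1344) = true) : σV (gW w) wV = -wV := by
  have h1 := W_eq_of_check (v₁ := w) (v₂ := []) h
  rw [W_nil] at h1
  have h2 := tr two_ne (gW w) (x := zv (p1 bI.1)) (y := zv (m1 bI.1)) h1
  rwa [up_p1, up_m1] at h2

end Cfsg.Agent.B5591.LocOrb

private theorem dce_abda47a32d25 : _root_.True := by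
  try have : _root_.True := by simp only [_root_.Cfsg.Agent.B5591.Geo.R0.eq_1]
  exact _root_.True.intro
end

-- part: B5591/LocChk
section
prune_inst 0x10000000000000
set_option linter.all false

/-!
# S5591: the words of the local analysis and their checks
-/

set_option autoImplicit false
set_option Elab.async false

namespace Cfsg.Agent.B5591.LocChk

open Cfsg.Agent.Monster.VecEngine Cfsg.Agent.BabyM.Conc Cfsg.Agent.H863.BVec
open Cfsg.Agent.B5591.LocOrb Cfsg.Agent.BM.StageW Cfsg.Spor.BabyMonster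

/-- The word of a product of generators. -/
def wL (l : List Gen) : List Ltr := List.rec (motive := fun _ => List Ltr) [] (fun t _ ih => ih ++ tw t) l

/-- The first element. -/
def uL : List Gen := [.t3, .t4, .t6, .t7]

/-- The second element. -/
def vL : List Gen :=
  [.t7, .t6, .t5, .t9, .t10, .t6, .t4, .t5, .t9, .t6, .t7, .t4, .t5, .t6, .t3, .t4, .t5, .t9, .t10, .t7, .t6, .t3,
  .t4, .t5, .t9, .t6, .t7, .t4, .t5, .t3]

/-- The first generator of `A`. -/
def x1W : List Ltr :=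
  [.h, .p8, .h, .p6, .h, .p4, .h, .p7, .Z2, .Z5]

/-- The second generator of `A`. -/
def x2W : List Ltr :=
  [.p6, .h, .p8, .h, .p8, .Z0, .Z2, .Z6, .Z8]

/-- The conjugating element. -/
def kW : List Ltr :=
  [.Z0, .Z1, .Z5, .Z6, .Z7, .Z9, .Z10, .p10, .hi, .p9, .xii, .p10, .xii, .z, .X10, .X1, .Z1, .tau, .X10, .Z1, .X1,
  .X10, .z, .xi, .p, .xi, .p2, .h, .p, .xii, .p10, .y9, .xii, .p6, .xii, .X10, .taui, .p10, .xii, .y2, .p6, .xii,
  .p8, .h, .p4, .h, .p7, .h, .y5, .y7, .y8, .Z1, .Z3, .Z5, .Z7, .Z8, .Z9, .Z10, .X0, .X1, .X2, .X3, .X6, .z]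

/-- The transporter to the axis `e3`. -/
def eW : List Ltr :=
  [.h, .y2, .y3, .y5, .y6, .y8, .Z0, .Z1, .Z2, .Z5, .Z7, .Z8, .Z10, .X0, .X1, .X3, .X5, .X6, .X7, .z]

/-- An element inverting `A`. -/
def n0W : List Ltr :=
  [.p, .h, .p6, .h, .p7, .h, .p, .h, .p7, .h, .p, .h, .Z1, .Z3, .Z4, .Z7]

/-- An element of determinant `-1`. -/
def n1W : List Ltr :=
  [.p3, .h, .p8, .Z2, .Z3, .Z4, .Z7, .Z9]

/-- An element centralising `A`. -/
def c0 : List Ltr :=
  [.tau]

/-- An element centralising `A`. -/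
def c1 : List Ltr :=
  [.h, .p4, .h, .p10, .h, .p6, .h, .p10, .h, .p5, .h, .y1, .y3, .y4, .Z1, .Z2, .Z4, .Z5, .Z6, .Z10, .X0, .X1, .X3,
  .X6, .X7, .X9, .z, .xi, .h, .p8, .xi, .p3, .y1]

/-- An element centralising `A`. -/
def c2 : List Ltr :=
  [.p7, .h, .p10, .h, .p4, .h, .p3, .h, .y1, .y2, .y3, .y5, .y6, .y7, .Z1, .Z3, .Z4, .Z5, .Z9, .Z10, .X0, .X3,
  .X5, .X6, .X9, .z, .xi, .p5, .xi, .h, .y8, .xi]

/-- An element centralising `A`. -/
def c6 : List Ltr :=
  [.h, .p2, .h, .p3, .h, .p5, .h, .p, .h, .p3, .h, .p10, .y2, .y3, .y7, .y8, .y9, .Z0, .Z9, .X0, .X1, .X2, .X3,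
  .X4, .X5, .X7, .xi, .p2, .xi, .p10, .y4, .xi, .y6]

/-- An element centralising `A`. -/
def c8 : List Ltr :=
  [.h, .p3, .h, .p2, .h, .p7, .h, .p3, .h, .y4, .y5, .y7, .y9, .y10, .Z0, .Z5, .Z7, .Z10, .X2, .X3, .X7, .X8, .z,
  .xi, .p3, .xi, .y5, .p9, .xi, .p3]

/-- An element centralising `A`. -/
def c10 : List Ltr :=
  [.y2, .y3, .y4, .y5, .y8, .Z1, .Z3, .Z4, .Z7, .X10]

/-- An element centralising `A`. -/
def s0 : List Ltr := c1 ++ c1 ++ c0 ++ c6 ++ c0 ++ c2

/-- A transporter. -/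
def m0 : List Ltr :=
  [.p6]

/-- An element centralising `A`. -/
def s3 : List Ltr := c2 ++ c10 ++ c0 ++ c2 ++ c0

/-- A transporter. -/
def m3 : List Ltr :=
  [.h, .y3, .y4, .y5, .y8, .Z0]

/-- An element centralising `A`. -/
def s6 : List Ltr := c2 ++ c0 ++ c0 ++ c2

/-- A transporter. -/
def m6 : List Ltr :=
  [.h, .X0, .X3, .X5, .X6, .X8, .X9, .z]

/-- An element centralising `A`. -/
def s9 : List Ltr := c2 ++ c0 ++ c0 ++ c8

/-- A transporter. -/
def m9 : List Ltr :=
  [.p9, .h, .p2, .h, .y1, .y4, .y5, .Z0, .X0, .X1, .X2, .X4]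

/-- An element centralising `A`. -/
def s12 : List Ltr := c0 ++ c0 ++ c8 ++ c0

/-- A transporter. -/
def m12 : List Ltr :=
  [.p6, .y3, .y4, .y5, .y6, .y7, .y8, .y9, .y10, .Z4, .Z6, .Z9, .X5, .z]

/-- An element centralising `A`. -/
def s15 : List Ltr := c2

/-- A transporter. -/
def m15 : List Ltr :=
  [.p6, .y6, .Z1, .Z4, .Z9, .Z10, .X1, .X5, .X6, .X8, .X9, .z]

/-- The correction for `p`. -/
def rp : List Ltr :=
  [.y1, .y2, .y3, .y4, .y5, .y6, .y10, .Z1, .Z3, .Z4, .Z5, .Z6, .Z9, .X1, .X2, .X3, .X4, .X6, .X7]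

/-- The correction for `h`. -/
def rh : List Ltr :=
  [.y2, .y3, .y4, .y8, .Z9, .Z10, .X1, .X3, .X4, .X6, .X7, .X8, .X9]

/-- A negating element. -/
def z1 : List Ltr :=
  [.y6, .y8, .y9]

/-- A negating element. -/
def z2 : List Ltr :=
  [.Z0, .X0, .X3, .X4, .X5]

/-- A negating element. -/
def z4 : List Ltr :=
  [.Z1, .Z5, .X0]

/-- A negating element. -/
def z5 : List Ltr :=
  [.Z1]

/-- A negating element. -/
def z7 : List Ltr :=
  [.y5, .z]

/-- A negating element. -/
def z8 : List Ltr :=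
  [.Z1]

/-- A negating element. -/
def z10 : List Ltr :=
  [.y1, .y4, .y6, .y10, .Z1, .Z3, .Z4, .Z5, .z]

/-- A negating element. -/
def z11 : List Ltr :=
  [.Z1]

/-- A negating element. -/
def z13 : List Ltr :=
  [.Z2, .Z6, .Z7, .Z8, .X0, .X3, .X5, .X9]

/-- A negating element. -/
def z14 : List Ltr :=
  [.Z0, .Z1, .Z2, .Z3, .Z4, .Z7, .z]

/-- A negating element. -/
def z16 : List Ltr :=
  [.Z0, .Z1, .Z4, .Z7, .Z10, .X0, .X1, .X3, .X9]

/-- A negating element. -/
def z17 : List Ltr :=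
  [.y3, .y4, .y5, .y6, .Z4, .Z5, .X2, .X3, .X4, .X5]

theorem x1_3 : chk (x1W ++ x1W ++ x1W) [] = true := by (first | (delta chk; exact Cfsg.Agent.BMx.Low.chk_of_eqF (by decide +kernel)) | decide +kernel)

theorem x2_3 : chk (x2W ++ x2W ++ x2W) [] = true := by (first | (delta chk; exact Cfsg.Agent.BMx.Low.chk_of_eqF (by decide +kernel)) | decide +kernel)

theorem x12 : chk (x2W ++ x1W) (x1W ++ x2W) = true := by (first | (delta chk; exact Cfsg.Agent.BMx.Low.chk_of_eqF (by decide +kernel)) | decide +kernel)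

theorem fix1 : axC (eW ++ x1W) (18 : Fin 19) eW (18 : Fin 19) = true := by (first | (delta axC; rewrite [Cfsg.Agent.Monster.VecFast.check_eq]; decide +kernel) | decide +kernel)

theorem fix2 : axC (eW ++ x2W) (18 : Fin 19) eW (18 : Fin 19) = true := by (first | (delta axC; rewrite [Cfsg.Agent.Monster.VecFast.check_eq]; decide +kernel) | decide +kernel)

theorem n0_1 : chk (x1W ++ n0W ++ x1W) n0W = true := by (first | (delta chk; exact Cfsg.Agent.BMx.Low.chk_of_eqF (by decide +kernel)) | decide +kernel)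

theorem n0_2 : chk (x2W ++ n0W ++ x2W) n0W = true := by (first | (delta chk; exact Cfsg.Agent.BMx.Low.chk_of_eqF (by decide +kernel)) | decide +kernel)

theorem n1_1 : chk (x1W ++ n1W) (n1W ++ x2W ++ x1W) = true := by (first | (delta chk; exact Cfsg.Agent.BMx.Low.chk_of_eqF (by decide +kernel)) | decide +kernel)

theorem n1_2 : chk (x2W ++ n1W) (n1W ++ x2W ++ x2W) = true := by (first | (delta chk; exact Cfsg.Agent.BMx.Low.chk_of_eqF (by decide +kernel)) | decide +kernel)

theorem n0_I : check (n0W.map Ltr.prog) (p1 1344) [] (p1 1344) = true := by decide +kernel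

theorem n1_I : check (n1W.map Ltr.prog) (p1 1344) [] (m1 1344) = true := by decide +kernel

theorem e_I : check (eW.map Ltr.prog) (p1 1344) [] (m1 1344) = true := by decide +kernel

theorem k_u : chk (wL uL ++ kW) (kW ++ x1W) = true := by (first | (delta chk; exact Cfsg.Agent.BMx.Low.chk_of_eqF (by decide +kernel)) | decide +kernel)

theorem k_v : chk (wL vL ++ kW) (kW ++ x2W) = true := by (first | (delta chk; exact Cfsg.Agent.BMx.Low.chk_of_eqF (by decide +kernel)) | decide +kernel)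

theorem k_e : axC (.y1 :: kW) (0 : Fin 19) eW (18 : Fin 19) = true := by (first | (delta axC; rewrite [Cfsg.Agent.Monster.VecFast.check_eq]; decide +kernel) | decide +kernel)

theorem c0_1 : chk (x1W ++ c0) (c0 ++ x1W) = true := by (first | (delta chk; exact Cfsg.Agent.BMx.Low.chk_of_eqF (by decide +kernel)) | decide +kernel)

theorem c0_2 : chk (x2W ++ c0) (c0 ++ x2W) = true := by (first | (delta chk; exact Cfsg.Agent.BMx.Low.chk_of_eqF (by decide +kernel)) | decide +kernel)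

theorem c1_1 : chk (x1W ++ c1) (c1 ++ x1W) = true := by (first | (delta chk; exact Cfsg.Agent.BMx.Low.chk_of_eqF (by decide +kernel)) | decide +kernel)

theorem c1_2 : chk (x2W ++ c1) (c1 ++ x2W) = true := by (first | (delta chk; exact Cfsg.Agent.BMx.Low.chk_of_eqF (by decide +kernel)) | decide +kernel)

theorem c2_1 : chk (x1W ++ c2) (c2 ++ x1W) = true := by (first | (delta chk; exact Cfsg.Agent.BMx.Low.chk_of_eqF (by decide +kernel)) | decide +kernel)

theorem c2_2 : chk (x2W ++ c2) (c2 ++ x2W) = true := by (first | (delta chk; exact Cfsg.Agent.BMx.Low.chk_of_eqF (by decide +kernel)) | decide +kernel)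

theorem c6_1 : chk (x1W ++ c6) (c6 ++ x1W) = true := by (first | (delta chk; exact Cfsg.Agent.BMx.Low.chk_of_eqF (by decide +kernel)) | decide +kernel)

theorem c6_2 : chk (x2W ++ c6) (c6 ++ x2W) = true := by (first | (delta chk; exact Cfsg.Agent.BMx.Low.chk_of_eqF (by decide +kernel)) | decide +kernel)

theorem c8_1 : chk (x1W ++ c8) (c8 ++ x1W) = true := by (first | (delta chk; exact Cfsg.Agent.BMx.Low.chk_of_eqF (by decide +kernel)) | decide +kernel)

theorem c8_2 : chk (x2W ++ c8) (c8 ++ x2W) = true := by (first | (delta chk; exact Cfsg.Agent.BMx.Low.chk_of_eqF (by decide +kernel)) | decide +kernel)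

theorem c10_1 : chk (x1W ++ c10) (c10 ++ x1W) = true := by (first | (delta chk; exact Cfsg.Agent.BMx.Low.chk_of_eqF (by decide +kernel)) | decide +kernel)

theorem c10_2 : chk (x2W ++ c10) (c10 ++ x2W) = true := by (first | (delta chk; exact Cfsg.Agent.BMx.Low.chk_of_eqF (by decide +kernel)) | decide +kernel)

theorem s0_e : axC (eW ++ s0) (18 : Fin 19) m0 (0 : Fin 19) = true := by (first | (delta axC; rewrite [Cfsg.Agent.Monster.VecFast.check_eq]; decide +kernel) | decide +kernel)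

theorem m0_I : check (m0.map Ltr.prog) (p1 1344) [] (p1 1344) = true := by decide +kernel

theorem s3_e : axC (eW ++ s3) (18 : Fin 19) m3 (3 : Fin 19) = true := by (first | (delta axC; rewrite [Cfsg.Agent.Monster.VecFast.check_eq]; decide +kernel) | decide +kernel)

theorem m3_I : check (m3.map Ltr.prog) (p1 1344) [] (m1 1344) = true := by decide +kernel

theorem s6_e : axC (eW ++ s6) (18 : Fin 19) m6 (6 : Fin 19) = true := by (first | (delta axC; rewrite [Cfsg.Agent.Monster.VecFast.check_eq]; decide +kernel) | decide +kernel)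

theorem m6_I : check (m6.map Ltr.prog) (p1 1344) [] (m1 1344) = true := by decide +kernel

theorem s9_e : axC (eW ++ s9) (18 : Fin 19) m9 (9 : Fin 19) = true := by (first | (delta axC; rewrite [Cfsg.Agent.Monster.VecFast.check_eq]; decide +kernel) | decide +kernel)

theorem m9_I : check (m9.map Ltr.prog) (p1 1344) [] (p1 1344) = true := by decide +kernel

theorem s12_e : axC (eW ++ s12) (18 : Fin 19) m12 (12 : Fin 19) = true := by (first | (delta axC; rewrite [Cfsg.Agent.Monster.VecFast.check_eq]; decide +kernel) | decide +kernel)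

theorem m12_I : check (m12.map Ltr.prog) (p1 1344) [] (p1 1344) = true := by decide +kernel

theorem s15_e : axC (eW ++ s15) (18 : Fin 19) m15 (15 : Fin 19) = true := by (first | (delta axC; rewrite [Cfsg.Agent.Monster.VecFast.check_eq]; decide +kernel) | decide +kernel)

theorem m15_I : check (m15.map Ltr.prog) (p1 1344) [] (p1 1344) = true := by decide +kernel

theorem rp_e : axC [.p] (18 : Fin 19) rp (18 : Fin 19) = true := by (first | (delta axC; rewrite [Cfsg.Agent.Monster.VecFast.check_eq]; decide +kernel) | decide +kernel)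

theorem rh_e : axN [.h] (18 : Fin 19) rh (18 : Fin 19) = true := by (first | (delta axN; rewrite [Cfsg.Agent.Monster.VecFast.check_eq]; decide +kernel) | decide +kernel)

theorem z1_e : axN z1 (1 : Fin 19) [] (1 : Fin 19) = true := by (first | (delta axN; rewrite [Cfsg.Agent.Monster.VecFast.check_eq]; decide +kernel) | decide +kernel)

theorem z2_e : axN z2 (2 : Fin 19) [] (2 : Fin 19) = true := by (first | (delta axN; rewrite [Cfsg.Agent.Monster.VecFast.check_eq]; decide +kernel) | decide +kernel)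

theorem z4_e : axN z4 (4 : Fin 19) [] (4 : Fin 19) = true := by (first | (delta axN; rewrite [Cfsg.Agent.Monster.VecFast.check_eq]; decide +kernel) | decide +kernel)

theorem z5_e : axN z5 (5 : Fin 19) [] (5 : Fin 19) = true := by (first | (delta axN; rewrite [Cfsg.Agent.Monster.VecFast.check_eq]; decide +kernel) | decide +kernel)

theorem z7_e : axN z7 (7 : Fin 19) [] (7 : Fin 19) = true := by (first | (delta axN; rewrite [Cfsg.Agent.Monster.VecFast.check_eq]; decide +kernel) | decide +kernel)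

theorem z8_e : axN z8 (8 : Fin 19) [] (8 : Fin 19) = true := by (first | (delta axN; rewrite [Cfsg.Agent.Monster.VecFast.check_eq]; decide +kernel) | decide +kernel)

theorem z10_e : axN z10 (10 : Fin 19) [] (10 : Fin 19) = true := by (first | (delta axN; rewrite [Cfsg.Agent.Monster.VecFast.check_eq]; decide +kernel) | decide +kernel)

theorem z11_e : axN z11 (11 : Fin 19) [] (11 : Fin 19) = true := by (first | (delta axN; rewrite [Cfsg.Agent.Monster.VecFast.check_eq]; decide +kernel) | decide +kernel)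

theorem z13_e : axN z13 (13 : Fin 19) [] (13 : Fin 19) = true := by (first | (delta axN; rewrite [Cfsg.Agent.Monster.VecFast.check_eq]; decide +kernel) | decide +kernel)

theorem z14_e : axN z14 (14 : Fin 19) [] (14 : Fin 19) = true := by (first | (delta axN; rewrite [Cfsg.Agent.Monster.VecFast.check_eq]; decide +kernel) | decide +kernel)

theorem z16_e : axN z16 (16 : Fin 19) [] (16 : Fin 19) = true := by (first | (delta axN; rewrite [Cfsg.Agent.Monster.VecFast.check_eq]; decide +kernel) | decide +kernel)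

theorem z17_e : axN z17 (17 : Fin 19) [] (17 : Fin 19) = true := by (first | (delta axN; rewrite [Cfsg.Agent.Monster.VecFast.check_eq]; decide +kernel) | decide +kernel)

end Cfsg.Agent.B5591.LocChk
end

-- part: B5591/Final
section
prune_inst 0x20100400400002000018009021000060300000020043080000600300030cc24020050601cc700412001004506000000001000000422000000a008800000500208400400082080104260009801000000000000000000000000000000000010000000000000
set_option linter.all false
open scoped Cfsg.Agent.FastGrp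

/-!
# S5591 from the boxes (box Final)
-/

set_option autoImplicit false

namespace Cfsg.Agent.B5591

open Cfsg.Agent.H863 Cfsg.Agent.H863.SExt

section Compl

variable {F M G : Type*} [Field F] [AddCommGroup M] [Module F M] [Group G] {σ : G →* Module.End F M}
  {E : Type*} [Group E] {X : Ext σ E} {A : Subgroup E}

theorem isLift_of_compl (hA : ∀ x, X.π x = 1 ↔ x ∈ A) {K : Subgroup E} (h : A.IsComplement' K) :
    IsLift X K ⊤ := by
  refine ⟨fun x hx h1 => Subgroup.disjoint_def.1 h.disjoint ((hA x).1 h1) hx, ?_⟩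
  rw [eq_top_iff]
  intro g _
  obtain ⟨x, rfl⟩ := X.surj g
  obtain ⟨⟨a, k⟩, hk⟩ := h.existsUnique x |>.exists
  refine ⟨k, k.2, ?_⟩
  have h1 : (a : E) * k = x := hk
  rw [← h1, map_mul, (hA a).2 a.2, one_mul]

theorem compl_of_isLift (hA : ∀ x, X.π x = 1 ↔ x ∈ A) {K : Subgroup E} (h : IsLift X K ⊤) :
    A.IsComplement' K := by
  refine Subgroup.isComplement'_of_disjoint_and_mul_eq_univ ?_ ?_
  · rw [Subgroup.disjoint_def]
    intro x hx hk
    exact h.1 x hk ((hA x).2 hx)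
  · rw [Set.eq_univ_iff_forall]
    intro x
    obtain ⟨s, hs, e⟩ := h.exists (Subgroup.mem_top (X.π x))
    refine Set.mem_mul.2 ⟨x * s⁻¹, ?_, s, hs, inv_mul_cancel_right _ _⟩
    show _ ∈ A
    rw [← hA, map_mul, map_inv, e, mul_inv_cancel]

/-- The kernel of an extension as a module. -/
theorem exists_ker_equiv (X : Ext σ E) : ∃ ψ : Additive X.π.ker ≃+ M, ∀ a : X.π.ker, X.j (ψ (Additive.ofMul a)) = a := by
  let f : M →+ Additive X.π.ker :=
    AddMonoidHom.mk' (fun v => Additive.ofMul ⟨X.j v, X.π_j v⟩) fun a b => by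
      apply Additive.toMul.injective
      exact Subtype.ext (X.j_add a b)
  have hf : Function.Bijective f := by
    constructor
    · intro a b h
      exact X.j_inj (congrArg (fun x : Additive X.π.ker => (x.toMul : E)) h)
    · intro a
      obtain ⟨v, hv⟩ := X.ker _ a.toMul.2
      exact ⟨v, Additive.toMul.injective (Subtype.ext hv.symm)⟩
  refine ⟨(AddEquiv.ofBijective f hf).symm, fun a => ?_⟩
  have h := (AddEquiv.ofBijective f hf).apply_symm_apply (Additive.ofMul a)
  exact congrArg (fun x : Additive X.π.ker => (x.toMul : E)) h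

end Compl

namespace Geo

open Cfsg.Agent.Monster.VecEngine Cfsg.Agent.BabyM.Conc Cfsg.Agent.H863.BRep

/-- The data of `BoxR`. -/
structure RData where
  R : Subgroup G
  h3 : ¬ 3 ∣ Nat.card R
  nrm : NN ≤ Subgroup.normalizer (R : Set G)
  le : R0 ≤ R
  fix : ∀ g ∈ R, σV g wV = wV
  dim : ∀ v : V3, (∀ g ∈ R, σV g v = v) → ∃ c : F3, v = c • wV

theorem rdata (h : BoxR) : Nonempty RData := by
  obtain ⟨R, h1, -, h3, h4, h5, h6, h7⟩ := h
  refine ⟨⟨R, h1, h3, ?_, h6, h7⟩⟩
  unfold R0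
  rw [Subgroup.closure_le]
  rintro g (hg | ⟨l, hl, rfl⟩)
  exacts [h4 hg, h5 l hl]

theorem wV_ne : wV ≠ 0 := by
  intro h
  apply phi_d0
  show iota wV d0 = 0
  rw [h, map_zero, Pi.zero_apply]

theorem RData.sign (P : RData) {n : G} (hn : n ∈ NN) : σV n wV = wV ∨ σV n wV = -wV := by
  obtain ⟨c, hc⟩ := P.dim (σV n wV) fun g hg => by
    have h1 : n⁻¹ * g * n⁻¹⁻¹ ∈ P.R := (Subgroup.mem_normalizer_iff.1 (P.nrm (NN.inv_mem hn)) g).1 hg
    have h2 := P.fix _ h1
    rw [inv_inv, act_mul, act_mul] at h2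
    have h3 := congrArg (σV n) h2
    rwa [act_act_inv] at h3
  have h0 : c = 0 ∨ c = 1 ∨ c = -1 := by
    generalize c = a
    revert a
    decide
  rcases h0 with rfl | rfl | rfl
  · exfalso
    rw [zero_smul] at hc
    exact wV_ne (act_inj n (hc.trans (map_zero _).symm))
  · left; rw [hc, one_smul]
  · right; rw [hc, neg_smul, one_smul]

variable {u v : G} (Ld : LocData u v)

theorem LocData.u_eq : u = Ld.k⁻¹ * Ld.x1 * Ld.k := by rw [← Ld.k_u]; group

theorem LocData.v_eq : v = Ld.k⁻¹ * Ld.x2 * Ld.k := by rw [← Ld.k_v]; group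

theorem LocData.fix_of {x : G} (h : x • Ld.e3 = Ld.e3) : Ld.k⁻¹ * x * Ld.k ∈ MulAction.stabilizer G dS := by
  show (Ld.k⁻¹ * x * Ld.k) • dS = dS
  rw [mul_smul, mul_smul, inv_smul_eq_iff]
  rcases Ld.k_e with h1 | h1
  · rw [h1, h]
  · rw [h1, smul_neg', h]

include Ld in
theorem LocData.u_mem : u ∈ MulAction.stabilizer G dS := by
  have h := Ld.fix_of Ld.fix1
  rwa [← Ld.u_eq] at h

include Ld in
theorem LocData.v_mem : v ∈ MulAction.stabilizer G dS := by
  have h := Ld.fix_of Ld.fix2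
  rwa [← Ld.v_eq] at h

include Ld in
theorem LocData.uv : u * v = v * u := by
  have h : Ld.k⁻¹ * Ld.x1 * Ld.k * (Ld.k⁻¹ * Ld.x2 * Ld.k) = Ld.k⁻¹ * Ld.x2 * Ld.k * (Ld.k⁻¹ * Ld.x1 * Ld.k) :=
    calc Ld.k⁻¹ * Ld.x1 * Ld.k * (Ld.k⁻¹ * Ld.x2 * Ld.k) = Ld.k⁻¹ * (Ld.x1 * Ld.x2) * Ld.k := by group
      _ = Ld.k⁻¹ * (Ld.x2 * Ld.x1) * Ld.k := by rw [Ld.comm]
      _ = _ := by group
  rwa [← Ld.u_eq, ← Ld.v_eq] at h

theorem LocData.indep (hA : BoxA0 u v) : Ld.x1 ≠ 1 ∧ Ld.x2 ∉ Subgroup.zpowers Ld.x1 := by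
  obtain ⟨a, ha, h1⟩ := hA
  have h0 : (0 : F3) ≠ 1 := by decide
  constructor
  · intro h
    have h2 : u = 1 := Ld.u_eq.trans (by rw [h]; group)
    rw [h2, ha.pairing_one_left Ld.v_mem] at h1
    exact h0 h1
  · intro h
    rcases mem_zpowers_three Ld.x1_3 h with h2 | h2 | h2
    · have h3 : v = 1 := Ld.v_eq.trans (by rw [h2]; group)
      rw [h3, ha.pairing_one_right Ld.u_mem] at h1
      exact h0 h1
    · have h3 : v = u := Ld.v_eq.trans (by rw [h2, ← Ld.u_eq])
      rw [h3, pairing_self] at h1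
      exact h0 h1
    · have h3 : v = u * u := by
        have h4 : Ld.k⁻¹ * Ld.x2 * Ld.k = Ld.k⁻¹ * Ld.x1 * Ld.k * (Ld.k⁻¹ * Ld.x1 * Ld.k) := by
          rw [h2]
          group
        rwa [← Ld.u_eq, ← Ld.v_eq] at h4
      rw [h3, ha.pairing_mul_right Ld.u_mem Ld.u_mem Ld.u_mem rfl rfl, pairing_self, add_zero] at h1
      exact h0 h1

/-- The abstract data. -/
noncomputable def LocData.loc (hS : BoxSyl) (P : RData) (hA : BoxA0 u v) : Loc G Ax where
  ν := neg
  φ := phi
  N := NN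
  R := P.R
  x1 := Ld.x1
  x2 := Ld.x2
  e3 := Ld.e3
  n0 := Ld.n0
  ν_smul := smul_neg'
  ν_ν := neg_neg'
  φ_ν := phi_neg
  N27 := hS.2
  R3 := P.h3
  NR := P.nrm
  φ_R ρ hρ := phi_smul_of_fix (P.fix ρ hρ)
  φ_N n hn := (P.sign hn).imp phi_smul_of_fix phi_smul_of_neg
  x1_3 := Ld.x1_3
  x2_3 := Ld.x2_3
  comm := Ld.comm
  x1_ne := (Ld.indep hA).1
  x2_not := (Ld.indep hA).2
  x1_mem := Ld.x1_mem
  x2_mem := Ld.x2_mem
  fix1 := Ld.fix1
  fix2 := Ld.fix2
  φ_ne := Ld.phi_ne
  hR n hn := by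
    obtain ⟨ρ, hρ, h⟩ := Ld.hR n hn
    exact ⟨ρ, P.le hρ, h⟩
  n0_mem := Ld.n0_mem
  n0_1 := Ld.n0_1
  n0_2 := Ld.n0_2
  n0_φ := Ld.n0_phi
  cover p := by
    obtain ⟨g, h1, h2, h3, h4⟩ := Ld.cover p
    refine ⟨g, h1, h2, h3, h4.imp ?_ id⟩
    rintro ⟨t, ht, h⟩
    exact ⟨t, P.le ht, h⟩

section

variable (hS : BoxSyl) (P : RData) (hA : BoxA0 u v) (hLG : BoxLG)

include hLG in
/-- From the Sylow subgroup to the whole group. -/
theorem b2_top {M : Type} [AddCommGroup M] [Module F3 M] {σ : G →* Module.End F3 M} (h0 : Fx σ KO)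
    {γ : G → G → M} (hγ : Z2 σ ⊤ γ) (hb : B2 σ (Ld.loc hS P hA).A γ) : B2 σ ⊤ γ := by
  have hle : (Ld.loc hS P hA).A ≤ NN := (Ld.loc hS P hA).A_le_N
  have h1 : B2 σ NN γ := (hγ.mono le_top).gaschuetz hle
    (relIndex_ne_zero_three hle (k := 2) (Ld.loc hS P hA).card_A hS.2) hb
  exact (isCoc_tw hγ).spl_iff.1 (hLG (twExt hγ) h0 ((isCoc_tw hγ).spl_iff.2 (h1.mono hS.1)))

/-- The invariant of a cocycle with values in the functions. -/
noncomputable def LocData.ψ (γ : G → G → Ax → F3) : F3 := pairing (fun g h => γ g h Ld.e3) Ld.x1 Ld.x2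

theorem LocData.ψ_b2 {γ : G → G → Ax → F3} (h : B2 σW ⊤ γ) : Ld.ψ γ = 0 :=
  (h.at Ld.e3).pairing_eq_zero ⟨Subgroup.mem_top _, Ld.fix1⟩ ⟨Subgroup.mem_top _, Ld.fix2⟩ Ld.comm

include hS P hA in
/-- An odd cocycle with non-zero invariant. -/
theorem exists_odd : ∃ γ : G → G → Ax → F3, Z2 σW ⊤ γ ∧ (∀ g h d, γ g h (neg d) = -γ g h d) ∧ Ld.ψ γ ≠ 0 := by
  obtain ⟨a, ha, h1⟩ := id hA
  have htr : ∀ d : Ax, ∃ g : G, g • dS = d := fun d => by
    obtain ⟨g, rfl⟩ := trans d
    exact ⟨g * (gE .y1)⁻¹, by rw [mul_smul, dS, inv_smul_smul]⟩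
  obtain ⟨γ, hγ, -, h2, -⟩ := exists_shapiro (F := F3) rfl dS htr rfl ha.subtype
  have h3 := h2 Ld.k ⟨u, Ld.u_mem⟩ ⟨v, Ld.v_mem⟩ (Subtype.ext Ld.uv)
  have h4 : pairing (fun g h => γ g h (Ld.k • dS)) Ld.x1 Ld.x2 = 1 := by
    rw [← Ld.k_u, ← Ld.k_v]
    exact h3.trans h1
  have h5 : pairing (fun g h => γ g h (neg Ld.e3)) Ld.x1 Ld.x2 = -pairing (fun g h => γ g h Ld.e3) Ld.x1 Ld.x2 :=
    (Ld.loc hS P hA).pairing_ν hγ Ld.n1_mem Ld.n1_1 Ld.n1_2 Ld.n1_det Ld.n1_phi
  refine ⟨fun g h => od (γ g h), hγ.map od fun g _ f => od_equiv g f, fun g h d => od_neg _ d, ?_⟩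
  have h6 : Ld.ψ (fun g h => od (γ g h)) =
      pairing (fun g h => γ g h Ld.e3) Ld.x1 Ld.x2 - pairing (fun g h => γ g h (neg Ld.e3)) Ld.x1 Ld.x2 :=
    pairing_sub (fun g h => γ g h Ld.e3) (fun g h => γ g h (neg Ld.e3)) Ld.x1 Ld.x2
  rw [h6]
  rcases Ld.k_e with h7 | h7
  · rw [h7] at h4
    rw [h5, h4]
    decide
  · rw [h7] at h4
    rw [h4, eq_comm, neg_eq_iff_eq_neg] at h5
    rw [h5, h4]
    decide

include Ld hS P hA hLG in
/-- **Existence.** -/
theorem exists_nonsplit (hN : BoxNeg) (hK : BoxKS) : ∃ β : G → G → V3, Z2 σV ⊤ β ∧ ¬ B2 σV ⊤ β := by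
  obtain ⟨γ, hγ, hodd, hψ⟩ := exists_odd Ld hS P hA
  obtain ⟨a, ha⟩ := (Ld.loc hS P hA).b2 hγ hodd
  have h1 : B2 σM (Ld.loc hS P hA).A (fun g k => J.mkQ (γ g k)) := by
    refine (B2.mkQ (hJ := J_inv) ha).congr fun g _ k _ => ?_
    show J.mkQ (γ g k) = J.mkQ (γ g k - a g k • phi)
    have h0 : J.mkQ (a g k • phi) = 0 := (Submodule.Quotient.mk_eq_zero J).2 (J.smul_mem _ (iota_mem wV))
    rw [map_sub, h0, sub_zero]
  have h2 := b2_top Ld hS P hA hLG (fx_M hN hK) hγ.mkQ h1
  obtain ⟨γ', h3, h4, h5⟩ := hγ.exists_mem h2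
  have h6 : Z2 σW ⊤ (fun g h => od (γ' g h)) := h3.map od fun g _ f => od_equiv g f
  obtain ⟨β, hβ, h7⟩ := h6.exists_preimage iota iota_injective (fun g _ w => iota_equiv g w)
    (fun g hg k hk => od_mem (h4 g hg k hk))
  refine ⟨β, hβ, fun hb => hψ (Ld.ψ_b2 ?_)⟩
  have h8 : B2 σW ⊤ (fun g h => iota (β g h)) := hb.map iota fun g _ w => iota_equiv g w
  have h9 : B2 σW ⊤ (fun g h => od ((γ - γ') g h)) := h5.map od fun g _ f => od_equiv g f
  refine (h8.add h9).neg.congr fun g hg k hk => ?_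
  show γ g k = -(iota (β g k) + od (γ g k - γ' g k))
  rw [h7 g hg k hk, map_sub, od_of_odd (hodd g k)]
  abel

include hS P hA hLG in
/-- The invariant detects the splitting. -/
theorem b2_of_ψ (hN : BoxNeg) {β : G → G → V3} (hβ : Z2 σV ⊤ β) (h : Ld.ψ (fun g k => iota (β g k)) = 0) :
    B2 σV ⊤ β := by
  have hR : (Nat.card P.R : F3) ≠ 0 := fun h0 => P.h3 ((ZMod.natCast_eq_zero_iff _ 3).1 h0)
  obtain ⟨S, hS'⟩ := spl_of_card (twExt hβ) hR
  obtain ⟨t, δ, h1, -, h2⟩ := hS'.exists_coc_fixed (h1_of_card hR)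
  have h3 : B2 σV ⊤ (β - δ) := (isCoc_tw hβ).b2_sub h1
  have hδ := h1.z2
  refine h3.of_sub (b2_top Ld hS P hA hLG (fx_V hN) hδ ?_)
  let L := Ld.loc hS P hA
  have hle : L.A ≤ Subgroup.normalizer (P.R : Set G) := L.A_le_N.trans P.nrm
  have key : ∀ w : V3, (∀ g ∈ P.R, σV g w = w) → iota w Ld.e3 = 0 → w = 0 := by
    intro w hw h0
    obtain ⟨c, rfl⟩ := P.dim w hw
    rw [map_smul, Pi.smul_apply, smul_eq_mul] at h0
    rw [(mul_eq_zero.1 h0).resolve_right Ld.phi_ne, zero_smul]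
  have hι : Z2 σW ⊤ (fun g k => iota (δ g k)) := hδ.map iota fun g _ w => iota_equiv g w
  have hc : ∀ x ∈ L.A, δ 1 1 + δ x x + δ (x * x) x = 0 := by
    intro x hx
    apply key
    · intro g hg
      rw [map_add, map_add, h2 _ (hle L.A.one_mem) _ (hle L.A.one_mem) g hg, h2 _ (hle hx) _ (hle hx) g hg,
        h2 _ (hle (L.A.mul_mem hx hx)) _ (hle hx) g hg]
    · rw [map_add, map_add]
      exact L.cube_e3 hι hx
  refine (hδ.mono le_top).b2_pair Ld.x1_3 Ld.x2_3 Ld.comm ?_ (hc _ L.x1_A) (hc _ L.x2_A)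
  rw [← sub_eq_zero]
  apply key
  · intro g hg
    rw [map_sub, h2 _ (hle L.x1_A) _ (hle L.x2_A) g hg, h2 _ (hle L.x2_A) _ (hle L.x1_A) g hg]
  · have h4 : B2 σW ⊤ (fun g k => iota ((β - δ) g k)) := h3.map iota fun g _ w => iota_equiv g w
    have h5 := Ld.ψ_b2 h4
    have h6 : Ld.ψ (fun g k => iota ((β - δ) g k)) =
        Ld.ψ (fun g k => iota (β g k)) - Ld.ψ (fun g k => iota (δ g k)) := by
      unfold LocData.ψ
      rw [← pairing_sub]
      congr 1
      funext g k
      show iota (β g k - δ g k) Ld.e3 = _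
      rw [map_sub]
      rfl
    rw [h6, h, zero_sub, neg_eq_zero] at h5
    rw [map_sub]
    exact h5

include Ld hS P hA hLG in
/-- **Uniqueness.** -/
theorem unique_class (hN : BoxNeg) {β β' : G → G → V3} (hβ : Z2 σV ⊤ β) (hβ' : Z2 σV ⊤ β') (h : ¬ B2 σV ⊤ β)
    (h' : ¬ B2 σV ⊤ β') : B2 σV ⊤ (β - β') ∨ B2 σV ⊤ (β + β') := by
  have h1 : Ld.ψ (fun g k => iota (β g k)) ≠ 0 := fun h0 => h (b2_of_ψ Ld hS P hA hLG hN hβ h0)
  have h2 : Ld.ψ (fun g k => iota (β' g k)) ≠ 0 := fun h0 => h' (b2_of_ψ Ld hS P hA hLG hN hβ' h0)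
  have h3 : Ld.ψ (fun g k => iota ((β - β') g k)) =
      Ld.ψ (fun g k => iota (β g k)) - Ld.ψ (fun g k => iota (β' g k)) := by
    unfold LocData.ψ
    rw [← pairing_sub]
    congr 1
    funext g k
    show iota (β g k - β' g k) Ld.e3 = _
    rw [map_sub]
    rfl
  have h4 : Ld.ψ (fun g k => iota ((β + β') g k)) =
      Ld.ψ (fun g k => iota (β g k)) + Ld.ψ (fun g k => iota (β' g k)) := by
    unfold LocData.ψ
    rw [← pairing_add]
    congr 1
    funext g k
    show iota (β g k + β' g k) Ld.e3 = _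
    rw [map_add]
    rfl
  have h5 : ∀ a b : F3, a ≠ 0 → b ≠ 0 → a - b = 0 ∨ a + b = 0 := by decide
  rcases h5 _ _ h1 h2 with h6 | h6
  · exact Or.inl (b2_of_ψ Ld hS P hA hLG hN (hβ.sub hβ') (h3.trans h6))
  · exact Or.inr (b2_of_ψ Ld hS P hA hLG hN (hβ.add hβ') (h4.trans h6))

end

/-- **S5591 from the two cohomological statements.** -/
theorem final_of (hex : ∃ β : G → G → V3, Z2 σV ⊤ β ∧ ¬ B2 σV ⊤ β)
    (hun : ∀ β β' : G → G → V3, Z2 σV ⊤ β → Z2 σV ⊤ β' → ¬ B2 σV ⊤ β → ¬ B2 σV ⊤ β' →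
      B2 σV ⊤ (β - β') ∨ B2 σV ⊤ (β + β'))
    (ρ : Cfsg.Spor.BabyMonster →* GL (Fin 4371) (ZMod 3)) (hρ : Function.Injective ρ) :
    (∃ (E : Type) (_ : Group E) (A : Subgroup E) (_ : A.Normal) (e : E ⧸ A ≃* Cfsg.Spor.BabyMonster) (φ : Additive ↥A ≃+ (Fin 4371 → ZMod 3)),
      (∀ (g : E) (a b : ↥A), (b : E) = g * a * g⁻¹ → φ (Additive.ofMul b) =
        (ρ (e (QuotientGroup.mk g)) : Matrix (Fin 4371) (Fin 4371) (ZMod 3)).mulVec (φ (Additive.ofMul a))) ∧
      ∀ K : Subgroup E, ¬ A.IsComplement' K) ∧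
    ∀ (E : Type*) [Group E] (A : Subgroup E) [A.Normal] (e : E ⧸ A ≃* Cfsg.Spor.BabyMonster) (φ : Additive ↥A ≃+ (Fin 4371 → ZMod 3)),
      (∀ (g : E) (a b : ↥A), (b : E) = g * a * g⁻¹ → φ (Additive.ofMul b) =
        (ρ (e (QuotientGroup.mk g)) : Matrix (Fin 4371) (Fin 4371) (ZMod 3)).mulVec (φ (Additive.ofMul a))) →
      (∀ K : Subgroup E, ¬ A.IsComplement' K) →
      ∀ (E' : Type*) [Group E'] (A' : Subgroup E') [A'.Normal] (e' : E' ⧸ A' ≃* Cfsg.Spor.BabyMonster) (φ' : Additive ↥A' ≃+ (Fin 4371 → ZMod 3)),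
        (∀ (g : E') (a b : ↥A'), (b : E') = g * a * g⁻¹ → φ' (Additive.ofMul b) =
          (ρ (e' (QuotientGroup.mk g)) : Matrix (Fin 4371) (Fin 4371) (ZMod 3)).mulVec (φ' (Additive.ofMul a))) →
        (∀ K : Subgroup E', ¬ A'.IsComplement' K) → Nonempty (E ≃* E') := by
  obtain ⟨e₀, he₀⟩ := BGL.equiv (Fintype.card_fin 4371) two_ne hρ
  constructor
  · obtain ⟨β, hβ, hn⟩ := hex
    obtain ⟨ψ, hψ⟩ := exists_ker_equiv (twExt hβ)
    refine ⟨Tw σV β hβ, inferInstance, (twExt hβ).π.ker, inferInstance,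
      (QuotientGroup.quotientKerEquivOfSurjective _ (twExt hβ).surj).trans BGL.iso.symm,
      ψ.trans e₀.toAddEquiv, ?_, ?_⟩
    · intro g a b hab
      show e₀ (ψ (Additive.ofMul b)) =
        (ρ (BGL.iso.symm ((twExt hβ).π g)) : Matrix (Fin 4371) (Fin 4371) (ZMod 3)).mulVec (e₀ (ψ (Additive.ofMul a)))
      rw [he₀, MulEquiv.apply_symm_apply]
      congr 1
      apply (twExt hβ).j_inj
      rw [hψ, hab, ← hψ a, (twExt hβ).conj, mul_inv_cancel_right]
    · intro K hK
      exact hn ((isCoc_tw hβ).spl_iff.1 ⟨K, isLift_of_compl (fun _ => Iff.rfl) hK⟩)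
  · intro E _ A _ e φ hφ hc E' _ A' _ e' φ' hφ' hc'
    obtain ⟨X, hX⟩ := SFin.exists_ext two_ne e₀ he₀ A e φ hφ
    obtain ⟨X', hX'⟩ := SFin.exists_ext two_ne e₀ he₀ A' e' φ' hφ'
    obtain ⟨t, γ, h⟩ := exists_coc X
    obtain ⟨t', γ', h'⟩ := exists_coc X'
    have n1 : ¬ B2 σV ⊤ γ := fun hb => by
      obtain ⟨S, hS⟩ := h.spl_iff.2 hb
      exact hc S (compl_of_isLift (fun x => by rw [hX]; exact SFin.pi_eq_one A e x) hS)
    have n2 : ¬ B2 σV ⊤ γ' := fun hb => by
      obtain ⟨S, hS⟩ := h'.spl_iff.2 hb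
      exact hc' S (compl_of_isLift (fun x => by rw [hX']; exact SFin.pi_eq_one A' e' x) hS)
    rcases hun γ γ' h.z2 h'.z2 n1 n2 with hb | hb
    · exact iso_of_B2 h h' hb
    · exact iso_of_B2_add h h' hb

/-- **S5591 from the boxes.** -/
theorem final (hN : BoxNeg) (hK : BoxKS) (hS : BoxSyl) (hR : BoxR) (hLG : BoxLG) {u v : G} (hA : BoxA0 u v)
    (hL : Nonempty (LocData u v))
    (ρ : Cfsg.Spor.BabyMonster →* GL (Fin 4371) (ZMod 3)) (hρ : Function.Injective ρ) :
    (∃ (E : Type) (_ : Group E) (A : Subgroup E) (_ : A.Normal) (e : E ⧸ A ≃* Cfsg.Spor.BabyMonster) (φ : Additive ↥A ≃+ (Fin 4371 → ZMod 3)),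
      (∀ (g : E) (a b : ↥A), (b : E) = g * a * g⁻¹ → φ (Additive.ofMul b) =
        (ρ (e (QuotientGroup.mk g)) : Matrix (Fin 4371) (Fin 4371) (ZMod 3)).mulVec (φ (Additive.ofMul a))) ∧
      ∀ K : Subgroup E, ¬ A.IsComplement' K) ∧
    ∀ (E : Type*) [Group E] (A : Subgroup E) [A.Normal] (e : E ⧸ A ≃* Cfsg.Spor.BabyMonster) (φ : Additive ↥A ≃+ (Fin 4371 → ZMod 3)),
      (∀ (g : E) (a b : ↥A), (b : E) = g * a * g⁻¹ → φ (Additive.ofMul b) =
        (ρ (e (QuotientGroup.mk g)) : Matrix (Fin 4371) (Fin 4371) (ZMod 3)).mulVec (φ (Additive.ofMul a))) →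
      (∀ K : Subgroup E, ¬ A.IsComplement' K) →
      ∀ (E' : Type*) [Group E'] (A' : Subgroup E') [A'.Normal] (e' : E' ⧸ A' ≃* Cfsg.Spor.BabyMonster) (φ' : Additive ↥A' ≃+ (Fin 4371 → ZMod 3)),
        (∀ (g : E') (a b : ↥A'), (b : E') = g * a * g⁻¹ → φ' (Additive.ofMul b) =
          (ρ (e' (QuotientGroup.mk g)) : Matrix (Fin 4371) (Fin 4371) (ZMod 3)).mulVec (φ' (Additive.ofMul a))) →
        (∀ K : Subgroup E', ¬ A'.IsComplement' K) → Nonempty (E ≃* E') := by
  obtain ⟨P⟩ := rdata hR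
  obtain ⟨Ld⟩ := hL
  exact final_of (exists_nonsplit Ld hS P hA hLG hN hK)
    (fun _ _ h1 h2 h3 h4 => unique_class Ld hS P hA hLG hN h1 h2 h3 h4) ρ hρ

end Geo

end Cfsg.Agent.B5591

private theorem dce_b0c1ab1653a2 : _root_.True := by
  try have : _root_.True := by simp only [_root_.Cfsg.Agent.B5591.Geo.dS.eq_1]
  exact _root_.True.intro
end

-- part: B5591/LocFill
section
prune_inst 0x10000000000000
set_option linter.all false
open scoped Cfsg.Agent.FastGrp

/-!
# S5591: the data of the local analysis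
-/

set_option autoImplicit false

namespace Cfsg.Agent.B5591.LocFill

open Cfsg.Agent.Monster.VecEngine Cfsg.Agent.BabyM.Conc Cfsg.Agent.BabyM.CertVec
open Cfsg.Agent.H863.BRep Cfsg.Agent.H863.SMod
open Cfsg.Agent.B5591.Geo Cfsg.Agent.B5591.LocOrb Cfsg.Agent.B5591.LocChk Cfsg.Spor.BabyMonster

theorem gW_wL (l : List Gen) : gW (wL l) = (l.map x).prod := by
  induction l with
  | nil => exact gW_nil
  | cons t l ih =>
    show gW (wL l ++ BM.StageW.tw t) = _
    rw [gW_append, ih, List.map_cons, List.prod_cons]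
    rfl

/-- The first element. -/
noncomputable def uG : G := (uL.map x).prod

/-- The second element. -/
noncomputable def vG : G := (vL.map x).prod

theorem uG_eq : uG = gW (wL uL) := (gW_wL uL).symm

theorem vG_eq : vG = gW (wL vL) := (gW_wL vL).symm

/-! ### Axes modulo `R0` and the sign -/

/-- Equivalence modulo `R0` and the sign. -/
def Sim (d d' : Ax) : Prop := ∃ ρ ∈ R0, d' = ρ • d ∨ d' = neg (ρ • d)

theorem Sim.refl (d : Ax) : Sim d d := ⟨1, R0.one_mem, Or.inl (one_smul _ _).symm⟩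

theorem Sim.symm {d d' : Ax} (h : Sim d d') : Sim d' d := by
  obtain ⟨ρ, hρ, rfl | rfl⟩ := h
  · exact ⟨ρ⁻¹, R0.inv_mem hρ, Or.inl (inv_smul_smul _ _).symm⟩
  · exact ⟨ρ⁻¹, R0.inv_mem hρ, Or.inr (by rw [smul_neg', inv_smul_smul, neg_neg'])⟩

theorem Sim.trans {d d' d'' : Ax} (h : Sim d d') (h' : Sim d' d'') : Sim d d'' := by
  obtain ⟨ρ, hρ, h⟩ := h
  obtain ⟨ρ', hρ', h'⟩ := h'
  refine ⟨ρ' * ρ, R0.mul_mem hρ' hρ, ?_⟩
  rw [mul_smul]
  rcases h with rfl | rfl <;> rcases h' with rfl | rfl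
  · exact Or.inl rfl
  · exact Or.inr rfl
  · exact Or.inr (smul_neg' _ _)
  · exact Or.inl (by rw [smul_neg', neg_neg'])

theorem Sim.smul {d d' : Ax} (h : Sim d d') {n : G} (hn : n ∈ Subgroup.normalizer (R0 : Set G)) :
    Sim (n • d) (n • d') := by
  obtain ⟨ρ, hρ, h⟩ := h
  refine ⟨n * ρ * n⁻¹, (Subgroup.mem_normalizer_iff.1 hn ρ).1 hρ, ?_⟩
  rw [mul_smul, inv_smul_smul, mul_smul]
  rcases h with rfl | rfl
  · exact Or.inl rfl
  · exact Or.inr (smul_neg' _ _)

/-- The stabiliser of a class. -/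
def St (d : Ax) : Subgroup G where
  carrier := {n | n ∈ Subgroup.normalizer (R0 : Set G) ∧ Sim d (n • d)}
  one_mem' := ⟨Subgroup.one_mem _, by rw [one_smul]; exact Sim.refl d⟩
  mul_mem' {a b} ha hb := ⟨Subgroup.mul_mem _ ha.1 hb.1, by rw [mul_smul]; exact ha.2.trans (hb.2.smul ha.1)⟩
  inv_mem' {a} ha := ⟨Subgroup.inv_mem _ ha.1, by
    have h := ha.2.smul (Subgroup.inv_mem _ ha.1)
    rw [inv_smul_smul] at h
    exact h.symm⟩

theorem sim18 : NN ≤ St (ax 18) := by
  apply NN_le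
  · intro ρ hρ
    exact ⟨Subgroup.le_normalizer hρ, ρ, hρ, Or.inl rfl⟩
  · refine ⟨p_norm, gW rp, gW_mem_R (by decide), Or.inl ?_⟩
    rw [← gW_single]
    exact ax_eq rp_e
  · refine ⟨h_norm, gW rh, gW_mem_R (by decide), Or.inr ?_⟩
    rw [← gW_single]
    exact ax_neg rh_e

/-- The axis. -/
noncomputable def e3 : Ax := gW eW • ax 18

theorem hR (n : G) (hn : n ∈ NN) : Sim e3 (n • e3) := by
  have h1 : gW eW ∈ NN := gW_mem_NN (by decide)
  have h2 := (sim18 (NN.mul_mem hn h1)).2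
  rw [mul_smul] at h2
  exact (sim18 h1).2.symm.trans h2

theorem phi_e3 : phi e3 = 1 := by
  rw [e3, phi_smul_of_neg (neg_w e_I), phi_ax]
  decide +kernel

theorem smul_e3 (w : List Ltr) : gW w • e3 = gW (eW ++ w) • ax 18 := by
  rw [gW_append, mul_smul, e3]

/-! ### The centraliser -/

/-- The word centralises both generators. -/
def Cn (w : List Ltr) : Prop := gW w * gW x1W = gW x1W * gW w ∧ gW w * gW x2W = gW x2W * gW w

theorem cn_of {w : List Ltr} (h1 : BM.StageW.chk (x1W ++ w) (w ++ x1W) = true)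
    (h2 : BM.StageW.chk (x2W ++ w) (w ++ x2W) = true) : Cn w := by
  have h3 := gW_eq h1
  have h4 := gW_eq h2
  rw [gW_append, gW_append] at h3 h4
  exact ⟨h3, h4⟩

theorem Cn.append {v w : List Ltr} (hv : Cn v) (hw : Cn w) : Cn (v ++ w) := by
  unfold Cn
  rw [gW_append]
  constructor
  · rw [mul_assoc, hv.1, ← mul_assoc, hw.1, mul_assoc]
  · rw [mul_assoc, hv.2, ← mul_assoc, hw.2, mul_assoc]

theorem cn0 : Cn c0 := cn_of c0_1 c0_2
theorem cn1 : Cn c1 := cn_of c1_1 c1_2
theorem cn2 : Cn c2 := cn_of c2_1 c2_2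
theorem cn6 : Cn c6 := cn_of c6_1 c6_2
theorem cn8 : Cn c8 := cn_of c8_1 c8_2
theorem cn10 : Cn c10 := cn_of c10_1 c10_2

/-- The two types of axes. -/
def Typ (p : Ax) : Prop := (∃ t ∈ R0, t • p = neg p) ∨
  ∃ n ∈ NN, ∃ s : G, s * gW x1W = gW x1W * s ∧ s * gW x2W = gW x2W * s ∧ phi (s • e3) = phi e3 ∧ p = n • s • e3

theorem Typ.smul {p : Ax} (h : Typ p) {g : G} (hg : g ∈ NN) : Typ (g • p) := by
  rcases h with ⟨t, ht, h⟩ | ⟨n, hn, s, h1, h2, h3, rfl⟩
  · refine Or.inl ⟨g * t * g⁻¹, (Subgroup.mem_normalizer_iff.1 (R0_norm hg) t).1 ht, ?_⟩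
    rw [mul_smul, inv_smul_smul, mul_smul, h, smul_neg']
  · exact Or.inr ⟨g * n, NN.mul_mem hg hn, s, h1, h2, h3, (mul_smul _ _ _).symm⟩

theorem typZ {w : List Ltr} {r : Fin 19} (hw : w.all inR = true) (h : axN w r [] r = true) : Typ (ax r) := by
  refine Or.inl ⟨gW w, gW_mem_R hw, ?_⟩
  have h1 := ax_neg h
  rwa [gW_nil, one_smul] at h1

theorem typY {s m : List Ltr} {r : Fin 19} (hs : Cn s) (hm : m.all inN = true)
    (h : axC (eW ++ s) (18 : Fin 19) m r = true) (hp : phi (gW m • ax r) = 1) : Typ (ax r) := by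
  have h1 := ax_eq h
  rw [← smul_e3] at h1
  refine Or.inr ⟨(gW m)⁻¹, NN.inv_mem (gW_mem_NN hm), gW s, hs.1, hs.2, by rw [h1, hp, phi_e3], ?_⟩
  rw [h1, inv_smul_smul]

theorem typ0 : Typ (ax 0) := by
  refine typY (s := s0) (m := m0) (((((cn1.append cn1).append cn0).append cn6).append cn0).append cn2) (by decide) s0_e ?_
  rw [phi_smul_of_fix (fix_w m0_I), phi_ax]
  decide +kernel

theorem typ1 : Typ (ax 1) := typZ (w := z1) (by decide) z1_e

theorem typ2 : Typ (ax 2) := typZ (w := z2) (by decide) z2_e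

theorem typ3 : Typ (ax 3) := by
  refine typY (s := s3) (m := m3) ((((cn2.append cn10).append cn0).append cn2).append cn0) (by decide) s3_e ?_
  rw [phi_smul_of_neg (neg_w m3_I), phi_ax]
  decide +kernel

theorem typ4 : Typ (ax 4) := typZ (w := z4) (by decide) z4_e

theorem typ5 : Typ (ax 5) := typZ (w := z5) (by decide) z5_e

theorem typ6 : Typ (ax 6) := by
  refine typY (s := s6) (m := m6) (((cn2.append cn0).append cn0).append cn2) (by decide) s6_e ?_
  rw [phi_smul_of_neg (neg_w m6_I), phi_ax]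
  decide +kernel

theorem typ7 : Typ (ax 7) := typZ (w := z7) (by decide) z7_e

theorem typ8 : Typ (ax 8) := typZ (w := z8) (by decide) z8_e

theorem typ9 : Typ (ax 9) := by
  refine typY (s := s9) (m := m9) (((cn2.append cn0).append cn0).append cn8) (by decide) s9_e ?_
  rw [phi_smul_of_fix (fix_w m9_I), phi_ax]
  decide +kernel

theorem typ10 : Typ (ax 10) := typZ (w := z10) (by decide) z10_e

theorem typ11 : Typ (ax 11) := typZ (w := z11) (by decide) z11_e

theorem typ12 : Typ (ax 12) := by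
  refine typY (s := s12) (m := m12) (((cn0.append cn0).append cn8).append cn0) (by decide) s12_e ?_
  rw [phi_smul_of_fix (fix_w m12_I), phi_ax]
  decide +kernel

theorem typ13 : Typ (ax 13) := typZ (w := z13) (by decide) z13_e

theorem typ14 : Typ (ax 14) := typZ (w := z14) (by decide) z14_e

theorem typ15 : Typ (ax 15) := by
  refine typY (s := s15) (m := m15) cn2 (by decide) s15_e ?_
  rw [phi_smul_of_fix (fix_w m15_I), phi_ax]
  decide +kernel

theorem typ16 : Typ (ax 16) := typZ (w := z16) (by decide) z16_e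

theorem typ17 : Typ (ax 17) := typZ (w := z17) (by decide) z17_e

theorem typ18 : Typ (ax 18) := by
  have h : gW eW ∈ NN := gW_mem_NN (by decide)
  refine Or.inr ⟨(gW eW)⁻¹, NN.inv_mem h, 1, by rw [one_mul, mul_one], by rw [one_mul, mul_one],
    by rw [one_smul], ?_⟩
  rw [one_smul, e3, inv_smul_smul]

theorem typ (r : Fin 19) : Typ (ax r) := by
  fin_cases r
  exacts [typ0, typ1, typ2, typ3, typ4, typ5, typ6, typ7, typ8, typ9, typ10, typ11, typ12, typ13, typ14, typ15,
    typ16, typ17, typ18]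

theorem typ_all (p : Ax) : Typ p := by
  obtain ⟨r, n, hn, rfl⟩ := cov p
  exact (typ r).smul hn

theorem cube_of {w : List Ltr} (h : BM.StageW.chk (w ++ w ++ w) [] = true) : gW w ^ 3 = 1 := by
  have h1 := gW_eq h
  rw [gW_append, gW_append, gW_nil] at h1
  rw [pow_succ', pow_two, h1]

theorem inv_of {w n : List Ltr} (h : BM.StageW.chk (w ++ n ++ w) n = true) : gW n * gW w * (gW n)⁻¹ = (gW w)⁻¹ := by
  have h1 := gW_eq h
  rw [gW_append, gW_append] at h1
  rw [eq_inv_iff_mul_eq_one]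
  calc gW n * gW w * (gW n)⁻¹ * gW w = (gW w)⁻¹ * ((gW w * (gW n * gW w)) * (gW n)⁻¹) * gW w := by group
    _ = 1 := by rw [h1]; group

theorem conj_of {a b n : List Ltr} (h : BM.StageW.chk (a ++ n) (n ++ b) = true) : gW n * gW a * (gW n)⁻¹ = gW b := by
  have h1 := gW_eq h
  rw [gW_append, gW_append] at h1
  rw [h1, mul_inv_cancel_right]

theorem conj_of2 {a b c n : List Ltr} (h : BM.StageW.chk (a ++ n) (n ++ b ++ c) = true) :
    gW n * gW a * (gW n)⁻¹ = gW c * gW b := by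
  have h1 := gW_eq h
  rw [gW_append, gW_append, gW_append] at h1
  rw [h1, ← mul_assoc, mul_inv_cancel_right]

theorem conj_of3 {a b n : List Ltr} {g : G} (hg : g = gW a) (h : BM.StageW.chk (a ++ n) (n ++ b) = true) :
    gW n * g * (gW n)⁻¹ = gW b := by
  rw [hg]
  exact conj_of h

theorem ku : gW kW * uG * (gW kW)⁻¹ = gW x1W := conj_of3 (a := wL uL) (b := x1W) (n := kW) uG_eq LocChk.k_u

theorem kv : gW kW * vG * (gW kW)⁻¹ = gW x2W := conj_of3 (a := wL vL) (b := x2W) (n := kW) vG_eq LocChk.k_v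

theorem smul_cons (l : Ltr) (w : List Ltr) (d : Ax) : gW (l :: w) • d = gW w • gE l • d := by
  rw [gW_cons, mul_smul]

theorem ke : gW kW • dS = e3 := by
  have h : gW (.y1 :: kW) • ax 0 = gW eW • ax 18 := ax_eq LocChk.k_e
  rw [dS, d0_eq, ← smul_cons, h, e3]

/-- The data. -/
noncomputable def data : LocData uG vG where
  x1 := gW x1W
  x2 := gW x2W
  e3 := e3
  n0 := gW n0W
  n1 := gW n1W
  k := gW kW
  a := 1
  b := 1
  c := 0
  d := 2
  x1_3 := cube_of x1_3
  x2_3 := cube_of x2_3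
  comm := by
    have h := gW_eq x12
    rwa [gW_append, gW_append] at h
  x1_mem := gW_mem_NN (by decide)
  x2_mem := gW_mem_NN (by decide)
  fix1 := by rw [smul_e3]; exact ax_eq fix1
  fix2 := by rw [smul_e3]; exact ax_eq fix2
  phi_ne := by rw [phi_e3]; exact one_ne_zero
  hR := hR
  n0_mem := gW_mem_NN (by decide)
  n0_1 := inv_of n0_1
  n0_2 := inv_of n0_2
  n0_phi := phi_smul_of_fix (fix_w n0_I) _
  n1_mem := gW_mem_NN (by decide)
  n1_1 := by
    rw [pow_one, pow_one]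
    exact conj_of2 n1_1
  n1_2 := by
    rw [pow_zero, one_mul, pow_two]
    exact conj_of2 n1_2
  n1_det := by decide
  n1_phi := phi_smul_of_neg (neg_w n1_I) _
  k_u := ku
  k_v := kv
  k_e := Or.inl ke
  cover p := by
    refine ⟨1, by rw [one_mul, mul_one], by rw [one_mul, mul_one], by rw [one_smul], ?_⟩
    rw [one_smul]
    rcases typ_all p with h | ⟨n, hn, s, h1, h2, h3, h4⟩
    · exact Or.inl h
    · exact Or.inr ⟨n, hn, s, h1, h2, h3, Or.inl h4⟩

theorem loc : Nonempty (LocData uG vG) := ⟨data⟩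

end Cfsg.Agent.B5591.LocFill

private theorem dce_51f8403c34c6 : _root_.True := by
  try have : _root_.True := by simp only [_root_.Cfsg.Agent.B5591.LocFill.e3.eq_1]
  try have : _root_.True := by simp only [_root_.Cfsg.Agent.B5591.Geo.dS.eq_1]
  exact _root_.True.intro
end

-- part: B5591/Cover3Mat
section
prune_inst 0x201044007022020008000080230020607c00019200634801e1400a400b4de34180400700c6b0121081ca26a06808c000011001c9422000002a008a0040050020842b60e0823c1d04360009c0f807100000000000000000000000000000010004000000000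
set_option linter.all false
open scoped Cfsg.Agent.FastGrp

/-!
# S5591: ten involutions of the triple cover `3 · ²E₆(2)` in dimension 27 over the field with four elements

The matrices are written as `54 × 54` matrices over the field with two elements.  They satisfy the Coxeter relations of
`Y₃₃₃` and the three `E₇` relations; the tenth power of the spider is a scalar `ζ` of order three.
-/

set_option autoImplicit false

namespace Cfsg.Agent.B5591.Cover3

open Cfsg.Agent.Lib Cfsg.Agent.Lib.F2MatGroup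
open Cfsg.Agent.TwoESix.Cox10 Cfsg.Agent.TwoESix.Lift

/-- The ten involutions, the scalar `ζ` and its inverse. -/
def Ms : List ℕ := [
  0x800000000000010000000000000200000000000004000000000000080000000000001000000000000020000000000000400000000000728000000000038500000000000002000000000000040000000000000800000000000010000000000842200000000013044000000000ac0880000000016011000000000e10020000000024c0040000000093000800000001c800100000000c8300200000002108004000000090340080000001c0b0010000000860c002000000134200040000003e100008000000a4c00010000008420000200000130400004000002a0400008000005430000100000011800002000000cd00000400002828000008000050500000100000041a3d0220000030d4ac044000022c000000800004600000010000082e84c40a0000106532301400022c000000080004600000001000082c2290c0a000106045c2014000002e3490c080000064b1c2010000022c72804200000463850304000008a2648c080000114771201,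
  0x83c028000000010a0050000000023c028000000004a005000000000815422880000010ff045100000008014000000000100f00000000020014000000000400f000000000002034c20800000040b204100000008070e0800000010382410000020034c02200000400b200440000080070c2200000100382044000000200000000000004000000000000080000000000001000000000000020011008000000400cc0100000008033f000000001008a8000000002011008000000040cc010000000080050800000001003c1000000002000f280000000400285000000008050800000000103c10000000000200c0000000000402000000000080f280000000010285000000002000c00000000040020000000000020c00000000000420000000000080c0000000000102000000000000214000000000004f00000000000814000000000010f000000000000800000000000010000000000000200000000000004000000000000080000000000001,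
  0x800000000000010000000000000200000000000004000000000000080000000000001000000000000020000000000000400000000000728000000000038500000000000002000000000000040000000000000800000000000010000000000442200000000033044000000000bc088000000001a011000000000e10020000000024c0040000000093000800000001c800100000000883002000000011080040000000e034008000000240b0010000000470c002000000338200040000002d1000080000006cc00010000008830000200000110800004000001a040000800000d4300001000000218000020000004d00000400002c24000008000060700000100000081b3d0220000010d8ac044000032c0000008000086000000100000c2e44c40a00002067323014000218000000080004d00000001000081821d0c0a00010d04ec2014000001a3490c0800000d4b1c20100000238b18042000004918d030400000872a4cc080000138572201,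
  0x82aab97200000105559f84000002148a4c4c800004f11723210000083b821f840000109904e93000000803828b048000100905183100020038288312000400905108c400002018a188c0000040d14d1200000080d0a8c400000102c1523000020018a09230000400d141c480000800d08a3100001002c1148c00000200022a0e000004000454240000080000a048000010000143100000200220a90000004004415c0000008011a01c00000100cd40e00000020330ac400000040881630000000800aa70000000100157800000002000a3800000004001490000000080f08c0000000102812000000000200a800000000040150000000008052400000000103c7000000002000a80000000040015000000000020480000000000431000000000080480000000001031000000000002380000000000049000000000008380000000000109000000000000800000000000010000000000000200000000000004000000000000080000000000001,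
  0x800000000000010000000000000200000000000004000000000000080000000000001000000000000020000000000000400000000000b28000000000018500000000000002000000000000040000000000000800000000000010000000000042200000000003044000000000080880000000001011000000000610020000000034c00400000000b200080000000184001000000000830020000000010800400000000024008000000000700100000000c0c00200000002020004000000042000080000003040001000000000000020000000000000400000080800008000001010000100000003800002000000090000040000000000000800000000000010000000382d0220000000906c0440000024000000800000700000010000002408840a0000007011301400000000000008000000000000100000000020c0a0000000004201400000021ca0c080000004e142010000000010804200000000c10304000000020c08080000000420101,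
  0x800018000000010000d0000000020002c00000000400060000000008000234800000100004b100000020000000000000400000000000008000000000000100000000000002000003080000040000081000000800002040000010000043000000200000320000004000008400000080000210000001000004c00000020000000000000400000000000008000000000000100000000000002000000800000040000010000000800000000000010000000000000200000400000004000030000000080000c0000000100002000000002000018000000040000d0000000080008000000001000100000000020000000000000400000000000008002c0000000010006000000000200000000000004000000000000080000000000001000000000000020000000000000400000000000008000000000000100000000000002000000000000040000000000000800000000000010000000000000200000000000004000000000000080000000000001,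
  0x800000000000010000000000000200000000000004000000000000080000000000001000000000000020000000000000400000000000b28000000000018500000000000002000000000000040000000000000800000000000010000000000c4220000000002304400000000098088000000001d011000000000610020000000034c00400000000b20008000000018400100000000483002000000031080040000000b024008000000180700100000008d0c00200000012c2000400000017200008000000f8400010000008c10000200000120c00004000002a0800008000005410000100000033800002000000890000040000282c0000080000506000001000000c392d02200000209c6c04400002240000008000047000000100000826c8840a0000107611301400022400000008000470000000100008242360c0a00010704b4201400000261ca0c080000074e1420100000224d3804200000472c90304000008a2ec48080000114663101,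
  0x800000000000010000000000000200000000000004000000000000080000000000001000000000000020000000000000400000000000e28000000000024500000000000002000000000000040000000000000800000000000010000000000282200000000005044000000000840880000000013011000000000e2002000000002440040000000091000800000001cc00100000000ca200200000002144004000000090180080000001c0d00100000008408002000000130100040000003c300008000000a0800010000008408000200000130100004000002a0c00008000005420000100000011800002000000cd0000040000282000000800005040000010000004189a0220000030d1d4044000022c000000800004600000010000082e0c480a0000106423101400022c000000080004600000001000082c203880a00010604091014000002e34b08080000064b181010000022c70888200000463811104000008a26404080000114770301,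
  0x800000000000010000000000000214020000000004f004000000000833020000000010880400000000080300000000001008000000000200300000000004008000000000002010000000000040c0000000000080d0200000000102c0400000020010000000000400c0000000000800d0020000001002c0040000000200000000000004000000000000080000000000001000000000000020000000000000400000000000008011000000000100cc0000000002033000000000040880000000000800000000000010000000000000200000000000004000000000000080f08000000001028100000000002000000000000040000000000008052000000000103c4000000002000000000000040000000000000020400000000000430000000000080400000000001030000000000002300000000000048000000000008300000000000108000000000000800000000000010000000000000200000000000004000000000000080000000000001,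
  0x800000000000010000000000000200000000000004000000000000080000000000001000000000000020000000000000400000000000e28000000000024500000000000002000000000000040000000000000800000000000010000000000082200000000001044000000000040880000000003011000000000e2002000000002440040000000091000800000001cc001000000000820020000000010400400000000018008000000000d00100000000408002000000030100040000000c3000080000002080001000000000000020000000000000400000080c000080000010200001000000018000020000000d0000040000000000000800000000000010000000181a0220000000d0d4044000002c000000800000600000010000002c0c480a000000602310140000000000000800000000000010000000003080a00000000081014000000234b08080000004b181010000000030808200000000810104000000020404080000000430301,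
  0x40000000000003000000000000010000000000000c000000000000040000000000003000000000000010000000000000c000000000000040000000000003000000000000010000000000000c000000000000040000000000003000000000000010000000000000c000000000000040000000000003000000000000010000000000000c000000000000040000000000003000000000000010000000000000c000000000000040000000000003000000000000010000000000000c000000000000040000000000003000000000000010000000000000c000000000000040000000000003000000000000010000000000000c000000000000040000000000003000000000000010000000000000c000000000000040000000000003000000000000010000000000000c000000000000040000000000003000000000000010000000000000c000000000000040000000000003000000000000010000000000000c000000000000040000000000003,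
  0xc000000000000200000000000003000000000000080000000000000c000000000000200000000000003000000000000080000000000000c000000000000200000000000003000000000000080000000000000c000000000000200000000000003000000000000080000000000000c000000000000200000000000003000000000000080000000000000c000000000000200000000000003000000000000080000000000000c000000000000200000000000003000000000000080000000000000c000000000000200000000000003000000000000080000000000000c000000000000200000000000003000000000000080000000000000c000000000000200000000000003000000000000080000000000000c000000000000200000000000003000000000000080000000000000c000000000000200000000000003000000000000080000000000000c000000000000200000000000003000000000000080000000000000c0000000000002]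

theorem Ms_sq : ((List.range 10).all fun k =>
    Nat.beq (F2Mat.mul 54 (Ms.getD k 0) (Ms.getD k 0)) (F2Mat.one 54)) = true := by decide +kernel

theorem Ms_sq' (k : Fin 10) :
    Nat.beq (F2Mat.mul 54 (Ms.getD k 0) (Ms.getD k 0)) (F2Mat.one 54) = true :=
  List.all_eq_true.1 Ms_sq k (List.mem_range.2 k.2)

theorem Ms_z1 : Nat.beq (F2Mat.mul 54 (Ms.getD 10 0) (Ms.getD 11 0)) (F2Mat.one 54) = true := by decide +kernel
theorem Ms_z2 : Nat.beq (F2Mat.mul 54 (Ms.getD 11 0) (Ms.getD 10 0)) (F2Mat.one 54) = true := by decide +kernel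

/-- The matrix group. -/
abbrev GM : Type := GL (Fin 54) (ZMod 2)

/-- The ten involutions. -/
def mM (k : Fin 10) : GM := F2MatGroup.unit 54 (Ms.getD k 0) (Ms.getD k 0) (Ms_sq' k) (Ms_sq' k)

/-- The scalar. -/
def zM : GM := F2MatGroup.unit 54 (Ms.getD 10 0) (Ms.getD 11 0) Ms_z1 Ms_z2

/-- The list of the group elements. -/
def LG : List GM := List.ofFn mM ++ [zM, zM⁻¹]

theorem codes_LG : List.Forall₂ (Codes 54) LG Ms :=
  List.Forall₂.cons rfl (List.Forall₂.cons rfl (List.Forall₂.cons rfl (List.Forall₂.cons rfl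
    (List.Forall₂.cons rfl (List.Forall₂.cons rfl (List.Forall₂.cons rfl (List.Forall₂.cons rfl
    (List.Forall₂.cons rfl (List.Forall₂.cons rfl (List.Forall₂.cons rfl (List.Forall₂.cons rfl
    List.Forall₂.nil)))))))))))

theorem getG_m (i : Fin 10) : getG LG i = mM i := by
  fin_cases i <;> rfl

theorem getG_z : getG LG 10 = zM := rfl

theorem evG_word (w : List (Fin 10)) : evG LG (w.map (·.val)) = ev mM w := by
  induction w with
  | nil => rfl
  | cons i w ih => rw [List.map_cons, evG_cons, ih, getG_m, ev_cons]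

theorem evG_append {G : Type*} [Group G] (L : List G) (v w : List ℕ) : evG L (v ++ w) = evG L v * evG L w := by
  induction v with
  | nil => rw [List.nil_append, evG_nil, one_mul]
  | cons i v ih => rw [List.cons_append, evG_cons, evG_cons, ih, mul_assoc]

theorem evG_z (k : ℕ) : evG LG (List.replicate k 10) = zM ^ k := by
  induction k with
  | zero => rw [pow_zero]; rfl
  | succ k ih => rw [List.replicate_succ, evG_cons, ih, getG_z, pow_succ']

/-- The check `u = ζ ^ k * v` in the matrix model. -/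
def chkM (u : List (Fin 10)) (k : ℕ) (v : List (Fin 10)) : Bool :=
  Nat.beq (evW 54 Ms (u.map (·.val))) (evW 54 Ms (List.replicate k 10 ++ v.map (·.val)))

theorem chkM_sound {u v : List (Fin 10)} {k : ℕ} (h : chkM u k v = true) : ev mM u = zM ^ k * ev mM v := by
  have h1 := (codes_evW codes_LG _).eq (codes_evW codes_LG _) h
  rwa [evG_append, evG_word, evG_word, evG_z] at h1

/-- The check `U V = ζ ^ k V U` in the matrix model. -/
def chkPair (u v : List (Fin 10)) (k : ℕ) : Bool := chkM (u ++ v) k (v ++ u)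

/-- The check `U ^ 3 = 1` in the matrix model. -/
def chkCube (u : List (Fin 10)) : Bool := chkM (u ++ u ++ u) 0 []

theorem cox_chk : ((List.finRange 10).all fun i => (List.finRange 10).all fun j =>
    chkM (rep (lab i j) [i, j]) 0 []) = true := by decide +kernel

theorem lift_m : M10.IsLiftable mM := by
  intro i j
  have h := chkM_sound (List.all_eq_true.1 (List.all_eq_true.1 cox_chk i (List.mem_finRange i)) j
    (List.mem_finRange j))
  rw [ev_rep, pow_zero, ev_nil, one_mul, ev_cons, ev_cons, ev_nil, mul_one] at h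
  exact h

theorem sp_chk : chkM (rep 10 spider) 1 [] = true := by decide +kernel
theorem e1_chk : chkM (rep 9 W321) 0 [] = true := by decide +kernel
theorem e2_chk : chkM (rep 9 W231) 0 [] = true := by decide +kernel
theorem e3_chk : chkM (rep 9 W213) 0 [] = true := by decide +kernel

theorem spider_m : ev mM spider ^ 10 = zM := by
  have h := chkM_sound sp_chk
  rwa [ev_rep, pow_one, ev_nil, mul_one] at h

theorem e321_m : ev mM W321 ^ 9 = 1 := by
  have h := chkM_sound e1_chk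
  rwa [ev_rep, pow_zero, ev_nil, mul_one] at h

theorem e231_m : ev mM W231 ^ 9 = 1 := by
  have h := chkM_sound e2_chk
  rwa [ev_rep, pow_zero, ev_nil, mul_one] at h

theorem e213_m : ev mM W213 ^ 9 = 1 := by
  have h := chkM_sound e3_chk
  rwa [ev_rep, pow_zero, ev_nil, mul_one] at h

theorem z_chk : check 54 Ms [] [([10, 10, 10], []), ([10, 0], [0, 10]), ([10, 1], [1, 10]), ([10, 2], [2, 10]),
    ([10, 3], [3, 10]), ([10, 4], [4, 10]), ([10, 5], [5, 10]), ([10, 6], [6, 10]), ([10, 7], [7, 10]),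
    ([10, 8], [8, 10]), ([10, 9], [9, 10])] [([10], [])] = true := by decide +kernel

theorem z_cube : zM ^ 3 = 1 := by
  have h := (check_sound (by norm_num) codes_LG z_chk).1 ([10, 10, 10], []) (by simp)
  rw [runG_nil] at h
  exact (evG_z 3).symm.trans h

theorem z_ne : zM ≠ 1 := by
  have h := (check_sound (by norm_num) codes_LG z_chk).2 ([10], []) (by simp)
  rw [runG_nil] at h
  intro h1
  apply h
  show getG LG 10 * 1 = 1
  rw [getG_z, h1, mul_one]

theorem z_comm (i : Fin 10) : zM * mM i = mM i * zM := by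
  have h := (check_sound (by norm_num) codes_LG z_chk).1 ([10, i.val], [i.val, 10]) (by (revert i; simp only [_root_.Fin.forall_fin_succ, _root_.List.mem_cons, _root_.Prod.mk.injEq, _root_.List.cons.injEq, _root_.List.ne_cons_self, _root_.and_false, reduceCtorEq, _root_.and_self, _root_.Fin.val_eq_zero_iff, Fin.isValue, _root_.and_true, _root_.true_and, _root_.List.not_mem_nil, _root_.or_false, _root_.false_or, _root_.Fin.coe_ofNat_eq_mod, _root_.Nat.zero_mod, _root_.zero_ne_one, _root_.OfNat.zero_ne_ofNat, _root_.or_self, _root_.Fin.succ_ne_zero, _root_.Fin.val_succ, _root_.Nat.add_eq_right, Nat.reduceEqDiff, _root_.Fin.val_eq_zero, _root_.zero_add, _root_.or_true, _root_.implies_true]))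
  rw [runG_nil] at h
  simp only [evG_cons, evG_nil, mul_one, getG_z, getG_m] at h
  exact h

/-- The first word: `t3 t4 t6 t7`. -/
def uW : List (Fin 10) := [1, 2, 4, 5]

/-- The second word. -/
def vW : List (Fin 10) := [5, 4, 3, 7, 8, 4, 2, 3, 7, 4, 5, 2, 3, 4, 1, 2, 3, 7, 8, 5, 4, 1, 2, 3, 7, 4, 5, 2, 3, 1]

theorem pair_uv : chkPair uW vW 1 = true := by decide +kernel
theorem uv_chk : chk (uW ++ vW) ([5] ++ rep 10 spider.reverse ++ [5] ++ [7, 8, 7, 4, 5, 2] ++ rep 10 spider.reverse ++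
    [2, 5, 4, 7, 8, 7] ++ (vW ++ uW)) = true :=
  (_root_.Cfsg.Agent.TwoESix.CoxFast.chk_eq _ _).trans (by decide +kernel)
section

variable {G : Type*} [Group G] {s : Fin 10 → G}

theorem uv_comm (hs : M10.IsLiftable s) (h : ev s spider ^ 10 = 1) : ev s uW * ev s vW = ev s vW * ev s uW := by
  have h1 := ev_eq_ev hs uv_chk
  have r1 : ev s [2, 5, 4, 7, 8, 7] = (ev s [7, 8, 7, 4, 5, 2])⁻¹ := ev_reverse hs [7, 8, 7, 4, 5, 2]
  have r2 : ev s [5] * ev s [5] = 1 := by
    rw [ev_cons, ev_nil, mul_one]; exact sq hs 5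
  simp only [ev_append, ev_rep, ev_reverse hs, inv_pow, h, inv_one, mul_one, r1, r2, one_mul, mul_inv_cancel] at h1
  exact h1

end

end Cfsg.Agent.B5591.Cover3
end

-- part: B5591/Cover3
section
prune_inst 0x1044005000020000000080210000605c00019200200801c0200a400b4de30000000100c4b01012008a06804008000001000080420000002a000000000500208021000000100d00300009002002000000000000000000000000000000010004000000000
set_option linter.all false
open scoped Cfsg.Agent.FastGrp

/-!
# S5591: `H²(2 · ²E₆(2), 𝔽₃)` is spanned by the class of the triple cover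
-/

set_option autoImplicit false

namespace Cfsg.Agent.B5591.Cover3

open Subgroup Function
open Cfsg Cfsg.Agent.TwoESix Cfsg.Agent.TwoESix.Cox10 Cfsg.Agent.TwoESix.Lift Cfsg.Agent.TwoESix.Cover
open Cfsg.Spor.BabyMonster (Gen)

/-! ### The double cover in the Baby Monster -/

/-- The nodes. -/
def nd : Fin 10 → Gen := ![.t2, .t3, .t4, .t5, .t6, .t7, .t8, .t9, .t10, .t11]

theorem nd_ne (i : Fin 10) : nd i ≠ Gen.t1 := by
  fin_cases i <;> exact fun h => Gen.noConfusion h

theorem nd_lab (i j : Fin 10) : Spor.coxLabel Spor.BabyMonster.edges (nd i) (nd j) = lab i j := by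
  revert i j; decide +kernel

/-- The double cover `2.²E₆(2)`. -/
abbrev Y : Type := ↥(BM.FactsB.HB BM.StageBFinalOf.gB)

/-- The ten generators. -/
def sY (i : Fin 10) : Y := ⟨BM.StageBFinalOf.gB (nd i), BM.FactsB.mem_HB _ (nd_ne i)⟩

theorem closure_sY : closure (Set.range sY) = ⊤ := by
  have h1 : (closure (Set.range sY)).map (BM.FactsB.HB BM.StageBFinalOf.gB).subtype =
      (⊤ : Subgroup Y).map (BM.FactsB.HB BM.StageBFinalOf.gB).subtype := by
    rw [MonoidHom.map_closure, ← Set.range_comp, ← MonoidHom.range_eq_map, Subgroup.range_subtype]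
    apply le_antisymm
    · rw [closure_le]
      rintro _ ⟨i, rfl⟩
      exact (sY i).2
    · unfold BM.FactsB.HB
      rw [closure_le]
      rintro _ ⟨t, ht, rfl⟩
      have key : ∃ i, nd i = t := by
        cases t
        · exact absurd rfl ht
        · exact ⟨0, rfl⟩
        · exact ⟨1, rfl⟩
        · exact ⟨2, rfl⟩
        · exact ⟨3, rfl⟩
        · exact ⟨4, rfl⟩
        · exact ⟨5, rfl⟩
        · exact ⟨6, rfl⟩
        · exact ⟨7, rfl⟩
        · exact ⟨8, rfl⟩
        · exact ⟨9, rfl⟩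
      obtain ⟨i, rfl⟩ := key
      exact subset_closure ⟨i, rfl⟩
  exact Subgroup.map_injective (Subgroup.subtype_injective _) h1

theorem coe_ev_sY (w : List (Fin 10)) :
    ((ev sY w : Y) : Spor.BabyMonster) = ev (fun i => BM.StageBFinalOf.gB (nd i)) w :=
  ev_map (BM.FactsB.HB BM.StageBFinalOf.gB).subtype sY w

/-- The central involution. -/
def zY : Y := ev sY W321 ^ 9

theorem zrels_sY : ZRels sY zY where
  lift := by
    intro i j
    apply Subtype.ext
    show (BM.StageBFinalOf.gB (nd i) * BM.StageBFinalOf.gB (nd j)) ^ lab i j = 1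
    rw [← nd_lab]
    exact BM.Psi.Rel.cox BM.StageBFinalOf.rel_gB _ _
  spider := by
    apply Subtype.ext
    rw [SubmonoidClass.coe_pow, coe_ev_sY]
    have h := BM.Psi.Rel.spider BM.StageBFinalOf.rel_gB
    simp only [mul_assoc] at h
    simp only [ev, spider, List.map_cons, List.map_nil, List.prod_cons, List.prod_nil, mul_one]
    exact h
  e321 := rfl
  e231 := by
    apply Subtype.ext
    rw [SubmonoidClass.coe_pow, coe_ev_sY]
    have h := BM.Psi.Rel.e7a BM.StageBFinalOf.rel_gB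
    simp only [mul_assoc] at h
    simp only [ev, W231, List.map_cons, List.map_nil, List.prod_cons, List.prod_nil, mul_one]
    exact h
  e213 := by
    apply Subtype.ext
    rw [SubmonoidClass.coe_pow, coe_ev_sY]
    have h := BM.Psi.Rel.e7b BM.StageBFinalOf.rel_gB
    simp only [mul_assoc] at h
    simp only [ev, W213, List.map_cons, List.map_nil, List.prod_cons, List.prod_nil, mul_one]
    exact h

theorem card_Y : Nat.card Y = 2 * 76532479683774853939200 := BM.KHAll.card_H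

theorem finite_Y : Finite Y := Nat.finite_of_card_ne_zero (by rw [card_Y]; norm_num)

theorem card_HB_Y : 2 * Nat.card HB ≤ Nat.card Y := by
  have := BM.HBFinal.card_HB_le
  rw [card_Y]
  omega

/-! ### The presentation of `Y` -/

section Pres

variable {E : Type*} [Group E] {s : Fin 10 → E} {z : E}

/-- **Universal property of `Y`.** -/
theorem exists_hom (h : ZRels s z) : ∃ φ : Y →* E, ∀ i, φ (sY i) = s i := by
  have hfin := finite_Y
  let H : Subgroup (Y × E) := closure (Set.range fun i => (sY i, s i))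
  let t : Fin 10 → H := fun i => ⟨(sY i, s i), subset_closure ⟨i, rfl⟩⟩
  have hevt : ∀ w, ((ev t w : H) : Y × E) = (ev sY w, ev s w) := by
    intro w
    have h1 : ((ev t w : H) : Y × E) = ev (fun i => (sY i, s i)) w := ev_map H.subtype t w
    rw [h1]
    exact Prod.ext (ev_map (MonoidHom.fst Y E) _ w) (ev_map (MonoidHom.snd Y E) _ w)
  have ht : ZRels t (ev t W321 ^ 9) := by
    refine ⟨fun x y => ?_, ?_, rfl, ?_, ?_⟩
    · exact Subtype.ext (Prod.ext (zrels_sY.lift x y) (h.lift x y))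
    · apply Subtype.ext
      rw [SubmonoidClass.coe_pow, hevt]
      exact Prod.ext zrels_sY.spider h.spider
    · apply Subtype.ext
      rw [SubmonoidClass.coe_pow, hevt]
      exact Prod.ext zrels_sY.e231 h.e231
    · apply Subtype.ext
      rw [SubmonoidClass.coe_pow, hevt]
      exact Prod.ext zrels_sY.e213 h.e213
  have httop : closure (Set.range t) = ⊤ := by
    have h1 : Subgroup.map H.subtype (closure (Set.range t)) = Subgroup.map H.subtype ⊤ := by
      rw [MonoidHom.map_closure, ← Set.range_comp, ← MonoidHom.range_eq_map, Subgroup.range_subtype]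
      rfl
    exact Subgroup.map_injective (Subgroup.subtype_injective _) h1
  obtain ⟨hfH, hcH⟩ := card_le ht httop
  let p : H →* Y := (MonoidHom.fst Y E).comp H.subtype
  have hp : Surjective p := by
    rw [← MonoidHom.range_eq_top, eq_top_iff, ← closure_sY, closure_le]
    rintro _ ⟨x, rfl⟩
    exact ⟨t x, rfl⟩
  have heq : Nat.card H = Nat.card Y :=
    le_antisymm (hcH.trans card_HB_Y) (Nat.card_le_card_of_surjective _ hp)
  have hb : Bijective p := (Nat.bijective_iff_surjective_and_card _).2 ⟨hp, heq⟩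
  let e := MulEquiv.ofBijective p hb
  refine ⟨((MonoidHom.snd Y E).comp H.subtype).comp e.symm.toMonoidHom, fun i => ?_⟩
  have : e.symm (sY i) = t i := by
    rw [MulEquiv.symm_apply_eq]; rfl
  show (((e.symm (sY i) : H) : Y × E)).2 = s i
  rw [this]

end Pres

/-! ### Central extensions given by a cocycle -/

/-- The central extension of `G` by `ZMod 3` defined by a cocycle. -/
@[ext] structure CE {G : Type*} (a : G → G → ZMod 3) where
  /-- the central coordinate -/
  c : ZMod 3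
  /-- the image in `G` -/
  g : G

section CE

variable {G : Type*} [Group G] {a : G → G → ZMod 3}

theorem z2_apply (ha : Z2 (triv (ZMod 3) G) ⊤ a) (g h k : G) : a g h + a (g * h) k = a h k + a g (h * k) :=
  ha g (mem_top _) h (mem_top _) k (mem_top _)

theorem z2_one_left (ha : Z2 (triv (ZMod 3) G) ⊤ a) (g : G) : a 1 g = a 1 1 := by
  have h := z2_apply ha 1 1 g
  rw [one_mul, one_mul] at h
  exact (add_right_cancel h).symm

/-- The group structure. -/
@[reducible] def CE.grp (ha : Z2 (triv (ZMod 3) G) ⊤ a) : Group (CE a) :=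
  @Group.ofLeftAxioms (CE a) ⟨fun x y => ⟨x.c + y.c + a x.g y.g, x.g * y.g⟩⟩
    ⟨fun x => ⟨- x.c - a x.g⁻¹ x.g - a 1 1, x.g⁻¹⟩⟩ ⟨⟨- a 1 1, 1⟩⟩
    (fun x y w => by
      apply CE.ext
      · show x.c + y.c + a x.g y.g + w.c + a (x.g * y.g) w.g = x.c + (y.c + w.c + a y.g w.g) + a x.g (y.g * w.g)
        linear_combination z2_apply ha x.g y.g w.g
      · exact mul_assoc _ _ _)
    (fun x => by
      apply CE.ext
      · show - a 1 1 + x.c + a 1 x.g = x.c
        rw [z2_one_left ha x.g]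
        ring
      · exact one_mul _)
    (fun x => by
      apply CE.ext
      · show - x.c - a x.g⁻¹ x.g - a 1 1 + x.c + a x.g⁻¹ x.g = - a 1 1
        ring
      · exact inv_mul_cancel _)

theorem z2_one_right (ha : Z2 (triv (ZMod 3) G) ⊤ a) (g : G) : a g 1 = a 1 1 := by
  have h := z2_apply ha g 1 1
  rw [mul_one, mul_one] at h
  exact add_right_cancel h

/-- The central coordinate of the canonical lift of a word in involutions. -/
def val (a : G → G → ZMod 3) (s : Fin 10 → G) : List (Fin 10) → ZMod 3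
  | [] => - a 1 1
  | i :: w => a (s i) (s i) + a 1 1 + val a s w + a (s i) (ev s w)

theorem val_sub (a b : G → G → ZMod 3) (c : ZMod 3) (s : Fin 10 → G) (w : List (Fin 10)) :
    val (a - c • b) s w = val a s w - c * val b s w := by
  induction w with
  | nil => simp only [val, Pi.sub_apply, Pi.smul_apply, smul_eq_mul]; ring
  | cons i w ih => simp only [val, ih, Pi.sub_apply, Pi.smul_apply, smul_eq_mul]; ring

/-- The invariant of a cocycle. -/
def inv3 (a : G → G → ZMod 3) (s : Fin 10 → G) : ZMod 3 := val a s (rep 10 spider) + a 1 1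

theorem inv3_sub (a b : G → G → ZMod 3) (c : ZMod 3) (s : Fin 10 → G) :
    inv3 (a - c • b) s = inv3 a s - c * inv3 b s := by
  simp only [inv3, val_sub, Pi.sub_apply, Pi.smul_apply, smul_eq_mul]; ring

theorem z2_sub {b : G → G → ZMod 3} (ha : Z2 (triv (ZMod 3) G) ⊤ a) (hb : Z2 (triv (ZMod 3) G) ⊤ b) (c : ZMod 3) :
    Z2 (triv (ZMod 3) G) ⊤ (a - c • b) := by
  intro g _ h _ k _
  have h1 := z2_apply ha g h k
  have h2 := z2_apply hb g h k
  show (a g h - c * b g h) + (a (g * h) k - c * b (g * h) k) = (a h k - c * b h k) + (a g (h * k) - c * b g (h * k))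
  linear_combination h1 - c * h2

end CE

theorem chk18a : chk (rep 9 W231 ++ rep 9 W231) [] = true :=
  (_root_.Cfsg.Agent.TwoESix.CoxFast.chk_eq _ _).trans (by decide +kernel)
theorem chk18b : chk (rep 9 W213 ++ rep 9 W213) [] = true :=
  (_root_.Cfsg.Agent.TwoESix.CoxFast.chk_eq _ _).trans (by decide +kernel)

theorem three_zero (x : ZMod 3) (h : x + x = 0) : x = 0 := by
  revert x; decide

/-- **A cocycle with trivial invariant is a coboundary.** -/
theorem b2_of_inv3 {a : Y → Y → ZMod 3} (ha : Z2 (triv (ZMod 3) Y) ⊤ a) (h0 : inv3 a sY = 0) :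
    B2 (triv (ZMod 3) Y) ⊤ a := by
  let _ : Group (CE a) := CE.grp ha
  have mc : ∀ x y : CE a, (x * y).c = x.c + y.c + a x.g y.g := fun _ _ => rfl
  have mg : ∀ x y : CE a, (x * y).g = x.g * y.g := fun _ _ => rfl
  have oc : (1 : CE a).c = - a 1 1 := rfl
  have og : (1 : CE a).g = 1 := rfl
  let p : CE a →* Y := MonoidHom.mk' (fun x => x.g) mg
  let t : Fin 10 → CE a := fun i => ⟨a (sY i) (sY i) + a 1 1, sY i⟩
  have hev : ∀ w, ev t w = ⟨val a sY w, ev sY w⟩ := by
    intro w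
    induction w with
    | nil => rfl
    | cons i w ih => rw [ev_cons, ih]; rfl
  have hp : ∀ w, p (ev t w) = ev sY w := fun w => by rw [hev]; rfl
  -- elements of the kernel
  have hcen : ∀ x y : CE a, x.g = 1 → x * y = y * x := by
    intro x y hx
    apply CE.ext
    · rw [mc, mc, hx, z2_one_left ha y.g, z2_one_right ha y.g]; ring
    · rw [mg, mg, hx, one_mul, mul_one]
  have hker : ∀ x : CE a, x.g = 1 → x * x = 1 → x = 1 := by
    intro x hx hxx
    have h1 := congrArg CE.c hxx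
    rw [mc, oc, hx] at h1
    apply CE.ext
    · rw [oc]
      have h2 := three_zero (x.c + a 1 1) (by linear_combination h1)
      linear_combination h2
    · rw [og, hx]
  have hsq : ∀ i, t i * t i = 1 := by
    intro i
    apply CE.ext
    · rw [mc, oc]
      show a (sY i) (sY i) + a 1 1 + (a (sY i) (sY i) + a 1 1) + a (sY i) (sY i) = - a 1 1
      have h3 : (3 : ZMod 3) = 0 := rfl
      linear_combination (a (sY i) (sY i) + a 1 1) * h3
    · rw [mg, og]; exact sq zrels_sY.lift i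
  have hlift : M10.IsLiftable t := by
    intro i j
    have h1 : ((t i * t j) ^ M10 i j).g = 1 := by
      show p ((t i * t j) ^ M10 i j) = 1
      rw [map_pow, map_mul]
      exact zrels_sY.lift i j
    apply hker _ h1
    have ei : (t i)⁻¹ = t i := inv_eq_of_mul_eq_one_left (hsq i)
    have ej : (t j)⁻¹ = t j := inv_eq_of_mul_eq_one_left (hsq j)
    have h2 : t i * (t i * t j) ^ M10 i j * (t i)⁻¹ = ((t i * t j) ^ M10 i j)⁻¹ := by
      have h3 : t i * (t i * t j) * (t i)⁻¹ = (t i * t j)⁻¹ := by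
        rw [mul_inv_rev, ei, ej, ← mul_assoc, hsq, one_mul]
      rw [← conj_pow, ← inv_pow, h3]
    rw [← hcen _ _ h1, mul_inv_cancel_right] at h2
    nth_rewrite 1 [h2]
    exact inv_mul_cancel _
  have hz : ZRels t (ev t W321 ^ 9) := by
    refine ⟨hlift, ?_, rfl, ?_, ?_⟩
    · rw [← ev_rep, hev]
      have h1 : val a sY (rep 10 spider) = - a 1 1 := eq_neg_of_add_eq_zero_left h0
      rw [h1, ev_rep, zrels_sY.spider]
      rfl
    · apply hker
      · show p (ev t W231 ^ 9) = 1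
        rw [map_pow, hp]; exact zrels_sY.e231
      · have h1 := ev_eq_ev hlift chk18a
        rwa [ev_append, ev_rep, ev_nil] at h1
    · apply hker
      · show p (ev t W213 ^ 9) = 1
        rw [map_pow, hp]; exact zrels_sY.e213
      · have h1 := ev_eq_ev hlift chk18b
        rwa [ev_append, ev_rep, ev_nil] at h1
  obtain ⟨φ, hφ⟩ := exists_hom hz
  have hpφ : ∀ g, (φ g).g = g := by
    have h1 : p.comp φ = MonoidHom.id Y := by
      apply MonoidHom.eq_of_eqOn_dense closure_sY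
      rintro _ ⟨i, rfl⟩
      show p (φ (sY i)) = sY i
      rw [hφ]; rfl
    exact fun g => DFunLike.congr_fun h1 g
  refine ⟨fun g => - (φ g).c, fun g _ h _ => ?_⟩
  have h1 := congrArg CE.c (map_mul φ g h)
  rw [mc, hpφ, hpφ] at h1
  show a g h = - (φ g).c + - (φ h).c - - (φ (g * h)).c
  linear_combination - h1

/-! ### The cocycle of the triple cover -/

section Cov

variable {G E : Type*} [Group G] [Group E]

/-- Powers of an element of order three. -/
def zc (ζ : E) (k : ZMod 3) : E := ζ ^ k.val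

theorem zc_nat {ζ : E} (h3 : ζ ^ 3 = 1) (k : ℕ) : zc ζ (k : ZMod 3) = ζ ^ k := by
  rw [zc, ZMod.val_natCast]
  conv_rhs => rw [← Nat.div_add_mod k 3, pow_add, pow_mul, h3, one_pow, one_mul]

theorem zc_add {ζ : E} (h3 : ζ ^ 3 = 1) (j k : ZMod 3) : zc ζ (j + k) = zc ζ j * zc ζ k := by
  have h := zc_nat h3 (j.val + k.val)
  rw [Nat.cast_add, ZMod.natCast_zmod_val, ZMod.natCast_zmod_val, pow_add] at h
  exact h

theorem zc_inj {ζ : E} (h3 : ζ ^ 3 = 1) (hne : ζ ≠ 1) {j k : ZMod 3} (h : zc ζ j = zc ζ k) : j = k := by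
  have ho : orderOf ζ = 3 := orderOf_eq_prime h3 hne
  have h1 := pow_injOn_Iio_orderOf (x := ζ) (by rw [ho]; exact j.val_lt) (by rw [ho]; exact k.val_lt) h
  exact ZMod.val_injective 3 h1

theorem exists_coc {ζ : E} (h3 : ζ ^ 3 = 1) (hne : ζ ≠ 1) (hc : ∀ x, ζ * x = x * ζ) [hN : (zpowers ζ).Normal]
    (φ : G →* E ⧸ zpowers ζ) : ∃ a : G → G → ZMod 3, Z2 (triv (ZMod 3) G) ⊤ a ∧
      (∀ (x y : G) (X Y : E) (k : ℕ), φ x = X → φ y = Y → x * y = y * x → X * Y = ζ ^ k * (Y * X) →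
        pairing a x y = k) ∧
      (∀ (x : G) (X : E), φ x = X → x ^ 3 = 1 → X ^ 3 = 1 → cube a x = 0) := by
  have hcz : ∀ k x, zc ζ k * x = x * zc ζ k := fun k x => ((show Commute ζ x from hc x).pow_left _).eq
  have hmem : ∀ X Y : E, (X : E ⧸ zpowers ζ) = Y → ∃ k, X = zc ζ k * Y := by
    intro X Y h
    obtain ⟨n, hn⟩ := QuotientGroup.eq.1 h.symm
    have hf : IsOfFinOrder ζ := isOfFinOrder_iff_pow_eq_one.2 ⟨3, by norm_num, h3⟩
    obtain ⟨m, hm⟩ : ζ ^ n ∈ Submonoid.powers ζ := (hf.mem_powers_iff_mem_zpowers).2 ⟨n, rfl⟩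
    refine ⟨m, ?_⟩
    have h1 : ζ ^ m = Y⁻¹ * X := hm.trans hn
    rw [hcz, zc_nat h3, h1, mul_inv_cancel_left]
  let T : G → E := fun g => (φ g).out
  have hT : ∀ g, (T g : E ⧸ zpowers ζ) = φ g := fun g => QuotientGroup.out_eq' _
  have ha : ∀ g h, ∃ k, T g * T h = zc ζ k * T (g * h) := fun g h =>
    hmem _ _ (by rw [QuotientGroup.mk_mul, hT, hT, hT, map_mul])
  choose a ha using ha
  have hcancel : ∀ (j k : ZMod 3) (x : E), zc ζ j * x = zc ζ k * x → j = k := fun j k x h =>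
    zc_inj h3 hne (mul_right_cancel h)
  have h1 : T 1 = zc ζ (a 1 1) := by
    have h := ha 1 1
    rw [mul_one] at h
    exact mul_right_cancel h
  refine ⟨a, ?_, ?_, ?_⟩
  · intro g _ h _ k _
    show a g h + a (g * h) k = a h k + a g (h * k)
    apply hcancel _ _ (T (g * h * k))
    calc zc ζ (a g h + a (g * h) k) * T (g * h * k) = T g * T h * T k := by
          rw [zc_add h3, mul_assoc, ← ha, ← mul_assoc, ← ha]
      _ = T g * (zc ζ (a h k) * T (h * k)) := by rw [mul_assoc, ha]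
      _ = zc ζ (a h k) * (T g * T (h * k)) := by rw [← mul_assoc, ← hcz, mul_assoc]
      _ = _ := by rw [ha, ← mul_assoc, ← zc_add h3, mul_assoc g]
  · intro x y X Y k hx hy hxy hXY
    obtain ⟨i, hi⟩ := hmem X (T x) (by rw [hT, hx])
    obtain ⟨j, hj⟩ := hmem Y (T y) (by rw [hT, hy])
    have e1 : X * Y = zc ζ (i + j + a x y) * T (x * y) := by
      rw [hi, hj, mul_assoc, ← mul_assoc (T x), ← hcz, mul_assoc, ha, zc_add h3, zc_add h3]
      simp only [mul_assoc]
    have e2 : Y * X = zc ζ (j + i + a y x) * T (x * y) := by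
      rw [hi, hj, mul_assoc, ← mul_assoc (T y), ← hcz, mul_assoc, ha, zc_add h3, zc_add h3, hxy]
      simp only [mul_assoc]
    rw [e1, e2, ← zc_nat h3, ← mul_assoc, ← zc_add h3] at hXY
    have h2 := hcancel _ _ _ hXY
    show a x y - a y x = k
    linear_combination h2
  · intro x X hx hx3 hX3
    obtain ⟨i, hi⟩ := hmem X (T x) (by rw [hT, hx])
    have hxx : x * x * x = 1 := by rw [← hx3, pow_succ, pow_two]
    have e1 : T x ^ 3 = zc ζ (cube a x) := by
      rw [pow_succ, pow_two, ha, mul_assoc, ha, hxx, h1, ← zc_add h3, ← zc_add h3]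
      congr 1
      show _ = a 1 1 + a x x + a (x * x) x
      ring
    have e2 : X ^ 3 = T x ^ 3 := by
      rw [hi, (show Commute (zc ζ i) (T x) from hcz _ _).mul_pow, zc, ← pow_mul, mul_comm, pow_mul, h3, one_pow,
        one_mul]
    apply zc_inj h3 hne
    rw [← e1, ← e2, hX3]
    exact (pow_zero ζ).symm

end Cov

/-- The group generated by the ten matrices. -/
abbrev MM : Subgroup GM := closure (Set.range mM)

/-- The ten generators. -/
def mS (i : Fin 10) : MM := ⟨mM i, subset_closure ⟨i, rfl⟩⟩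

theorem coe_ev_mS (w : List (Fin 10)) : ((ev mS w : MM) : GM) = ev mM w := ev_map MM.subtype mS w

/-- The scalar. -/
def zS : MM := ev mS spider ^ 10

theorem coe_zS : (zS : GM) = zM := by
  rw [zS, SubmonoidClass.coe_pow, coe_ev_mS, spider_m]

theorem zS_cube : zS ^ 3 = 1 := Subtype.ext (by rw [SubmonoidClass.coe_pow, coe_zS]; exact z_cube)

theorem zS_ne : zS ≠ 1 := fun h => z_ne (by rw [← coe_zS, h, OneMemClass.coe_one])

theorem zS_comm (x : MM) : zS * x = x * zS := by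
  apply Subtype.ext
  rw [Subgroup.coe_mul, Subgroup.coe_mul, coe_zS]
  have h : MM ≤ centralizer {zM} := by
    rw [closure_le]
    rintro _ ⟨i, rfl⟩ _ rfl
    exact z_comm i
  exact h x.2 zM rfl

theorem normal_of_comm {E : Type*} [Group E] {ζ : E} (hc : ∀ x, ζ * x = x * ζ) : (zpowers ζ).Normal :=
  ⟨fun n hn g => by
    obtain ⟨k, rfl⟩ := hn
    have h : Commute (ζ ^ k) g := (show Commute ζ g from hc g).zpow_left k
    show g * ζ ^ k * g⁻¹ ∈ zpowers ζ
    rw [← h.eq, mul_inv_cancel_right]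
    exact ⟨k, rfl⟩⟩

theorem zS_normal : (zpowers zS).Normal := normal_of_comm zS_comm

theorem b2_pairing {G : Type*} [Group G] {a : G → G → ZMod 3} (h : B2 (triv (ZMod 3) G) ⊤ a) {x y : G}
    (hxy : x * y = y * x) : pairing a x y = 0 := by
  obtain ⟨b, hb⟩ := h
  have h1 : a x y = b x + b y - b (x * y) := hb x (mem_top _) y (mem_top _)
  have h2 : a y x = b y + b x - b (y * x) := hb y (mem_top _) x (mem_top _)
  rw [pairing, h1, h2, hxy]
  ring

theorem uv_Y : ev sY uW * ev sY vW = ev sY vW * ev sY uW := uv_comm zrels_sY.lift zrels_sY.spider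
/-- **The class of the triple cover spans `H²(Y, 𝔽₃)`.** -/
theorem exists_a0 : ∃ a0 : Y → Y → ZMod 3, Z2 (triv (ZMod 3) Y) ⊤ a0 ∧
    (∀ a : Y → Y → ZMod 3, Z2 (triv (ZMod 3) Y) ⊤ a → ∃ c : ZMod 3, B2 (triv (ZMod 3) Y) ⊤ (a - c • a0)) ∧
    (∀ (u v : List (Fin 10)) (k : ℕ), chkPair u v k = true → ev sY u * ev sY v = ev sY v * ev sY u →
      pairing a0 (ev sY u) (ev sY v) = k) ∧
    (∀ u : List (Fin 10), chkCube u = true → ev sY u ^ 3 = 1 → cube a0 (ev sY u) = 0) := by
  have hN := zS_normal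
  let P := QuotientGroup.mk' (zpowers zS)
  have hev : ∀ w, ev (fun i => P (mS i)) w = P (ev mS w) := fun w => (ev_map P mS w).symm
  have hz : ZRels (fun i => P (mS i)) 1 := by
    refine ⟨fun i j => ?_, ?_, ?_, ?_, ?_⟩
    · show (P (mS i) * P (mS j)) ^ _ = 1
      have h1 : (mS i * mS j) ^ M10 i j = 1 := Subtype.ext (lift_m i j)
      rw [← map_mul, ← map_pow, h1, map_one]
    · rw [hev, ← map_pow]
      exact (QuotientGroup.eq_one_iff _).2 (mem_zpowers _)
    · have h1 : ev mS W321 ^ 9 = 1 := Subtype.ext (by rw [SubmonoidClass.coe_pow, coe_ev_mS]; exact e321_m)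
      rw [hev, ← map_pow, h1, map_one]
    · have h1 : ev mS W231 ^ 9 = 1 := Subtype.ext (by rw [SubmonoidClass.coe_pow, coe_ev_mS]; exact e231_m)
      rw [hev, ← map_pow, h1, map_one]
    · have h1 : ev mS W213 ^ 9 = 1 := Subtype.ext (by rw [SubmonoidClass.coe_pow, coe_ev_mS]; exact e213_m)
      rw [hev, ← map_pow, h1, map_one]
  obtain ⟨φ, hφ⟩ := exists_hom hz
  have hφw : ∀ w, φ (ev sY w) = ((ev mS w : MM) : MM ⧸ zpowers zS) := by
    intro w
    rw [ev_map, funext hφ, hev]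
    rfl
  obtain ⟨a0, h0, hp, hc⟩ := exists_coc zS_cube zS_ne zS_comm φ
  have hp' : ∀ (u v : List (Fin 10)) (k : ℕ), chkPair u v k = true → ev sY u * ev sY v = ev sY v * ev sY u →
      pairing a0 (ev sY u) (ev sY v) = k := by
    intro u v k h huv
    refine hp _ _ _ _ k (hφw u) (hφw v) huv (Subtype.ext ?_)
    have h1 := chkM_sound h
    rw [ev_append, ev_append] at h1
    rw [Subgroup.coe_mul, Subgroup.coe_mul, Subgroup.coe_mul, SubmonoidClass.coe_pow, coe_zS, coe_ev_mS, coe_ev_mS]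
    exact h1
  refine ⟨a0, h0, fun a ha => ?_, hp', fun u h hu => ?_⟩
  · have hne : inv3 a0 sY ≠ 0 := by
      intro h
      have h1 := b2_pairing (b2_of_inv3 h0 h) uv_Y
      rw [hp' _ _ 1 pair_uv uv_Y] at h1
      exact absurd h1 (by decide)
    refine ⟨inv3 a sY / inv3 a0 sY, b2_of_inv3 (z2_sub ha h0 _) ?_⟩
    rw [inv3_sub, div_mul_cancel₀ _ hne, sub_self]
  · refine hc _ _ (hφw u) hu (Subtype.ext ?_)
    have h1 := chkM_sound h
    rw [ev_append, ev_append, pow_zero, ev_nil, one_mul] at h1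
    rw [SubmonoidClass.coe_pow, coe_ev_mS, pow_succ, pow_two]
    exact h1

end Cfsg.Agent.B5591.Cover3

private theorem dce_d7bd6d4b54bc : _root_.True := by
  try have : _root_.True := by simp only [_root_.Cfsg.Agent.B5591.Cover3.val.eq_2]
  try have : _root_.True := by simp only [_root_.Cfsg.Agent.B5591.Cover3.val.eq_1]
  try have : _root_.True := by simp only [_root_.Cfsg.Agent.B5591.pairing.eq_1]
  try have : _root_.True := by simp only [_root_.Cfsg.Agent.TwoESix.Cox10.spider.eq_1]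
  try have : _root_.True := by simp only [_root_.Cfsg.Agent.B5591.Cover3.val.eq_def]
  try have : _root_.True := by simp only [_root_.Cfsg.Agent.B5591.Cover3.zS.eq_1]
  try have : _root_.True := by simp only [_root_.Cfsg.Agent.TwoESix.Cox10.W213.eq_1]
  try have : _root_.True := by simp only [_root_.Cfsg.Agent.TwoESix.Cox10.W231.eq_1]
  try have : _root_.True := by simp only [_root_.Cfsg.Agent.B5591.Cover3.inv3.eq_1]
  try have : _root_.True := by simp only [_root_.Cfsg.Agent.B5591.Cover3.zc.eq_1]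
  exact _root_.True.intro
end

-- part: B5591/A0
section
prune_inst 0x10000000000000
set_option linter.all false
open scoped Cfsg.Agent.FastGrp

/-!
# S5591: the stabiliser of `dS` is `⟨t2, …, t11⟩`; the class of its triple cover on the pair `uA`, `vA`
-/

set_option autoImplicit false

namespace Cfsg.Agent.B5591.Geo

open Cfsg.Agent.Monster.VecEngine Cfsg.Agent.Monster.VecSpace
open Cfsg.Agent.BabyM.Conc Cfsg.Agent.BabyM
open Cfsg.Agent.H863.BRep Cfsg.Agent.H863
open Cfsg.Agent.TwoESix.Cox10 Cfsg.Agent.B5591.Cover3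
open Cfsg.Spor.BabyMonster (Gen)

/-- The generators `t2, …, t11` in the group of the model. -/
noncomputable def sA (i : Fin 10) : G := SMod.x (nd i)

/-- The first element of the pair. -/
noncomputable def uA : G := ev sA uW

/-- The second element of the pair. -/
noncomputable def vA : G := ev sA vW

theorem card_Ax : Nat.card Ax = 27143910000 := by
  have h := Instance.all.orb.card_D
  rw [Count.D_eq_orbit Instance.all.orb] at h
  rw [Nat.card_coe_set_eq]
  exact h

theorem d0_val0 : (d0 : V) = (1 / 8 : ℚ) • vecU ℚ U InstVec.dv0 := Inst.d_zero.symm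

theorem fix_of_check {v : List Ltr}
    (h : check ((Ltr.y1 :: v).map Ltr.prog) InstVec.dv0 ([Ltr.y1].map Ltr.prog) InstVec.dv0 = true) :
    gW v • dS = dS := by
  apply Subtype.ext
  have h1 := W_eq_of_check h
  rw [W_cons, W_single, LinearEquiv.mul_apply] at h1
  show W v (E .y1 (d0 : V)) = E .y1 (d0 : V)
  rw [d0_val0, map_smul, map_smul, h1]

theorem fa2 : check ((Ltr.y1 :: BM.StageW.tw .t2).map Ltr.prog) InstVec.dv0 ([Ltr.y1].map Ltr.prog) InstVec.dv0 = true := by
  decide +kernel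
theorem fa3 : check ((Ltr.y1 :: BM.StageW.tw .t3).map Ltr.prog) InstVec.dv0 ([Ltr.y1].map Ltr.prog) InstVec.dv0 = true := by
  decide +kernel
theorem fa4 : check ((Ltr.y1 :: BM.StageW.tw .t4).map Ltr.prog) InstVec.dv0 ([Ltr.y1].map Ltr.prog) InstVec.dv0 = true := by
  decide +kernel
theorem fa5 : check ((Ltr.y1 :: BM.StageW.tw .t5).map Ltr.prog) InstVec.dv0 ([Ltr.y1].map Ltr.prog) InstVec.dv0 = true := by
  decide +kernel
theorem fa6 : check ((Ltr.y1 :: BM.StageW.tw .t6).map Ltr.prog) InstVec.dv0 ([Ltr.y1].map Ltr.prog) InstVec.dv0 = true := by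
  decide +kernel
theorem fa7 : check ((Ltr.y1 :: BM.StageW.tw .t7).map Ltr.prog) InstVec.dv0 ([Ltr.y1].map Ltr.prog) InstVec.dv0 = true := by
  decide +kernel
theorem fa8 : check ((Ltr.y1 :: BM.StageW.tw .t8).map Ltr.prog) InstVec.dv0 ([Ltr.y1].map Ltr.prog) InstVec.dv0 = true := by
  decide +kernel
theorem fa9 : check ((Ltr.y1 :: BM.StageW.tw .t9).map Ltr.prog) InstVec.dv0 ([Ltr.y1].map Ltr.prog) InstVec.dv0 = true := by
  decide +kernel
theorem fa10 : check ((Ltr.y1 :: BM.StageW.tw .t10).map Ltr.prog) InstVec.dv0 ([Ltr.y1].map Ltr.prog) InstVec.dv0 = true := by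
  decide +kernel
theorem fa11 : check ((Ltr.y1 :: BM.StageW.tw .t11).map Ltr.prog) InstVec.dv0 ([Ltr.y1].map Ltr.prog) InstVec.dv0 = true := by
  decide +kernel

theorem x_fix {t : Gen} (ht : t ≠ .t1) : SMod.x t • dS = dS := by
  cases t
  · exact absurd rfl ht
  · exact fix_of_check fa2
  · exact fix_of_check fa3
  · exact fix_of_check fa4
  · exact fix_of_check fa5
  · exact fix_of_check fa6
  · exact fix_of_check fa7
  · exact fix_of_check fa8
  · exact fix_of_check fa9
  · exact fix_of_check fa10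
  · exact fix_of_check fa11

theorem index_stab : (MulAction.stabilizer G dS).index = 27143910000 := by
  rw [MulAction.index_stabilizer, ← card_Ax]
  have h : MulAction.orbit G dS = Set.univ := by
    rw [Set.eq_univ_iff_forall]
    intro d
    obtain ⟨g, rfl⟩ := trans d
    exact ⟨g * (gE .y1)⁻¹, by
      show (g * (gE .y1)⁻¹) • gE .y1 • d0 = g • d0
      rw [mul_smul, inv_smul_smul]⟩
  rw [h, Set.ncard_univ]

/-- **The stabiliser of `dS`.** -/
theorem stab_eq : (MulAction.stabilizer G dS).comap (BGL.iso : Spor.BabyMonster →* G) =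
    BM.FactsB.HB BM.StageBFinalOf.gB := by
  have hle : BM.FactsB.HB BM.StageBFinalOf.gB ≤
      (MulAction.stabilizer G dS).comap (BGL.iso : Spor.BabyMonster →* G) := by
    unfold BM.FactsB.HB
    rw [Subgroup.closure_le]
    rintro _ ⟨t, ht, rfl⟩
    show BGL.iso (BM.StageBFinalOf.gB t) • dS = dS
    have e : BGL.iso (BM.StageBFinalOf.gB t) = SMod.x t := BM.KHAll.iso_gB t
    rw [e]
    exact x_fix ht
  have h1 : ((MulAction.stabilizer G dS).comap (BGL.iso : Spor.BabyMonster →* G)).index = 27143910000 := by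
    rw [← index_stab]
    exact Subgroup.index_comap_of_surjective (f := (BGL.iso : Spor.BabyMonster →* G)) _ BGL.iso.surjective
  have h2 := Subgroup.relIndex_mul_index hle
  rw [h1, BM.KHAll.index_H] at h2
  have h3 : (BM.FactsB.HB BM.StageBFinalOf.gB).relIndex
      ((MulAction.stabilizer G dS).comap (BGL.iso : Spor.BabyMonster →* G)) = 1 :=
    Nat.eq_of_mul_eq_mul_right (by norm_num) (h2.trans (one_mul _).symm)
  exact le_antisymm (Subgroup.relIndex_eq_one.1 h3) hle

theorem mem_of_stab {g : G} (hg : g ∈ MulAction.stabilizer G dS) :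
    BGL.iso.symm g ∈ BM.FactsB.HB BM.StageBFinalOf.gB := by
  rw [← stab_eq, Subgroup.mem_comap]
  show BGL.iso (BGL.iso.symm g) ∈ _
  rw [MulEquiv.apply_symm_apply]
  exact hg

theorem iso_ev (w : List (Fin 10)) : BGL.iso ((ev sY w : Y) : Spor.BabyMonster) = ev sA w := by
  rw [coe_ev_sY]
  have h := ev_map (BGL.iso : Spor.BabyMonster →* G) (fun i => BM.StageBFinalOf.gB (nd i)) w
  have e : (fun i => (BGL.iso : Spor.BabyMonster →* G) (BM.StageBFinalOf.gB (nd i))) = sA :=
    funext fun i => BM.KHAll.iso_gB _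
  rw [e] at h
  exact h

/-- **Box A0.** -/
theorem boxA0 : BoxA0 uA vA := by
  classical
  obtain ⟨a0, h0, -, hp, -⟩ := exists_a0
  let ρ : G → Y := fun g => if h : BGL.iso.symm g ∈ BM.FactsB.HB BM.StageBFinalOf.gB then ⟨_, h⟩ else 1
  have hρ : ∀ {g : G} (h : BGL.iso.symm g ∈ BM.FactsB.HB BM.StageBFinalOf.gB), ρ g = ⟨_, h⟩ := fun h => dif_pos h
  have hmul : ∀ g ∈ MulAction.stabilizer G dS, ∀ h ∈ MulAction.stabilizer G dS, ρ (g * h) = ρ g * ρ h := by
    intro g hg h hh
    rw [hρ (mem_of_stab hg), hρ (mem_of_stab hh), hρ (mem_of_stab (Subgroup.mul_mem _ hg hh))]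
    exact Subtype.ext (map_mul _ _ _)
  have hev : ∀ w, ρ (ev sA w) = ev sY w := by
    intro w
    have e : BGL.iso.symm (ev sA w) = ((ev sY w : Y) : Spor.BabyMonster) := by
      rw [← iso_ev, MulEquiv.symm_apply_apply]
    rw [hρ (by rw [e]; exact (ev sY w).2)]
    exact Subtype.ext e
  refine ⟨fun g h => a0 (ρ g) (ρ h), ?_, ?_⟩
  · intro g hg h hh k hk
    have h1 := h0 (ρ g) (Subgroup.mem_top _) (ρ h) (Subgroup.mem_top _) (ρ k) (Subgroup.mem_top _)
    rw [← hmul g hg h hh, ← hmul h hh k hk] at h1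
    exact h1
  · have h1 := hp _ _ 1 pair_uv uv_Y
    show a0 (ρ (ev sA uW)) (ρ (ev sA vW)) - a0 (ρ (ev sA vW)) (ρ (ev sA uW)) = 1
    rw [hev, hev]
    exact h1

end Cfsg.Agent.B5591.Geo
end
end
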